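import Mathlib
import Cfsg.Agent.Lib.Classical.SympOrder

/-!
The Sylow `p`-subgroups of `Sp_4(p)` by generators and relations.
-/

set_option autoImplicit false
set_option linter.style.haveILetI false

namespace CfsgLib.RankThreeAmalgam

open Matrix

variable {p : ℕ} [hp : Fact p.Prime] {K : Type*} [Group K]

/-- Powers by residues. -/
def pz (x : K) (a : ZMod p) : K := x ^ a.val

theorem pz_natCast {x : K} (hx : x ^ p = 1) (n : ℕ) : pz x (n : ZMod p) = x ^ n := by
  unfold pz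
  rw [ZMod.val_natCast, ← pow_eq_pow_mod n hx]

theorem pz_add {x : K} (hx : x ^ p = 1) (a b : ZMod p) : pz x (a + b) = pz x a * pz x b := by
  unfold pz
  rw [← pow_add, ZMod.val_add, ← pow_eq_pow_mod _ hx]

/-- The relations. -/
structure Rel (p : ℕ) (z r v t : K) : Prop where
  zp : z ^ p = 1
  rp : r ^ p = 1
  vp : v ^ p = 1
  tp : t ^ p = 1
  zr : Commute z r
  zv : Commute z v
  zt : Commute z t
  rv : Commute r v
  tr : t * r = r * z * t
  tv : t * v = v * r * t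

variable {z r v t : K}

theorem Rel.tr_pow (h : Rel p z r v t) (l : ℕ) : t ^ l * r = r * z ^ l * t ^ l := by
  induction l with
  | zero => simp
  | succ l ih =>
    calc t ^ (l + 1) * r = t * (t ^ l * r) := by rw [pow_succ', mul_assoc]
      _ = t * r * z ^ l * t ^ l := by rw [ih]; group
      _ = r * z * (t * z ^ l) * t ^ l := by rw [h.tr]; group
      _ = r * (z * z ^ l) * (t * t ^ l) := by rw [← (h.zt.pow_left l).eq]; group
      _ = _ := by rw [← pow_succ', ← pow_succ']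

theorem Rel.tr_pow_pow (h : Rel p z r v t) (l m : ℕ) :
    t ^ l * r ^ m = r ^ m * z ^ (l * m) * t ^ l := by
  induction m with
  | zero => simp
  | succ m ih =>
    calc t ^ l * r ^ (m + 1) = t ^ l * r ^ m * r := by rw [pow_succ, mul_assoc]
      _ = r ^ m * z ^ (l * m) * (t ^ l * r) := by rw [ih]; group
      _ = r ^ m * z ^ (l * m) * (r * z ^ l * t ^ l) := by rw [h.tr_pow]
      _ = r ^ m * (z ^ (l * m) * r) * z ^ l * t ^ l := by group
      _ = r ^ m * r * (z ^ (l * m) * z ^ l) * t ^ l := by rw [(h.zr.pow_left _).eq]; group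
      _ = _ := by rw [← pow_succ, ← pow_add, mul_add, mul_one]

theorem Rel.tv_pow (h : Rel p z r v t) (l : ℕ) :
    t ^ l * v = v * r ^ l * z ^ l.choose 2 * t ^ l := by
  induction l with
  | zero => simp
  | succ l ih =>
    calc t ^ (l + 1) * v = t * (t ^ l * v) := by rw [pow_succ', mul_assoc]
      _ = t * v * r ^ l * z ^ l.choose 2 * t ^ l := by rw [ih]; group
      _ = v * r * (t ^ 1 * r ^ l) * z ^ l.choose 2 * t ^ l := by rw [h.tv, pow_one]; group
      _ = v * r * (r ^ l * z ^ (1 * l) * t) * z ^ l.choose 2 * t ^ l := by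
        rw [h.tr_pow_pow, pow_one]
      _ = v * (r * r ^ l) * z ^ (1 * l) * (t * z ^ l.choose 2) * t ^ l := by group
      _ = v * (r * r ^ l) * (z ^ (1 * l) * z ^ l.choose 2) * (t * t ^ l) := by
        rw [← (h.zt.pow_left _).eq]; group
      _ = _ := by
        rw [← pow_succ', ← pow_succ', ← pow_add, Nat.choose_succ_succ' l 1, Nat.choose_one_right,
          one_mul]

theorem Rel.tv_pow_pow (h : Rel p z r v t) (l m : ℕ) :
    t ^ l * v ^ m = v ^ m * r ^ (l * m) * z ^ (l.choose 2 * m) * t ^ l := by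
  induction m with
  | zero => simp
  | succ m ih =>
    calc t ^ l * v ^ (m + 1) = t ^ l * v ^ m * v := by rw [pow_succ, mul_assoc]
      _ = v ^ m * r ^ (l * m) * z ^ (l.choose 2 * m) * (t ^ l * v) := by rw [ih]; group
      _ = v ^ m * r ^ (l * m) * (z ^ (l.choose 2 * m) * v) * r ^ l * z ^ l.choose 2 * t ^ l := by
        rw [h.tv_pow]; group
      _ = v ^ m * (r ^ (l * m) * v) * (z ^ (l.choose 2 * m) * r ^ l) * z ^ l.choose 2 * t ^ l := by
        rw [(h.zv.pow_left _).eq]; group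
      _ = v ^ m * v * (r ^ (l * m) * r ^ l) * (z ^ (l.choose 2 * m) * z ^ l.choose 2) * t ^ l := by
        rw [(h.rv.pow_left _).eq, (h.zr.pow_pow _ _).eq]; group
      _ = _ := by rw [← pow_succ, ← pow_add, ← pow_add, mul_add, mul_add, mul_one, mul_one]

/-- The normal form. -/
def nf (z r v t : K) (x : ZMod p × ZMod p × ZMod p × ZMod p) : K :=
  pz z x.1 * pz r x.2.1 * pz v x.2.2.1 * pz t x.2.2.2

/-- The product in normal form. -/
def pmul (x y : ZMod p × ZMod p × ZMod p × ZMod p) : ZMod p × ZMod p × ZMod p × ZMod p :=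
  (x.1 + y.1 + (x.2.2.2 * y.2.1 + (2 : ZMod p)⁻¹ * x.2.2.2 * (x.2.2.2 - 1) * y.2.2.1),
    x.2.1 + y.2.1 + x.2.2.2 * y.2.2.1, x.2.2.1 + y.2.2.1, x.2.2.2 + y.2.2.2)

theorem choose_two_cast (hp2 : p ≠ 2) (l : ℕ) :
    ((l.choose 2 : ℕ) : ZMod p) = (2 : ZMod p)⁻¹ * l * (l - 1) := by
  have h2 : (2 : ZMod p) ≠ 0 := by
    intro e
    have e' : ((2 : ℕ) : ZMod p) = 0 := by exact_mod_cast e
    rw [ZMod.natCast_eq_zero_iff] at e'
    exact hp2 ((Nat.prime_dvd_prime_iff_eq hp.out Nat.prime_two).1 e')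
  have key : (2 : ZMod p) * (l.choose 2 : ℕ) = l * (l - 1) := by
    induction l with
    | zero => simp
    | succ l ih =>
      rw [Nat.choose_succ_succ' l 1, Nat.choose_one_right]
      push_cast
      linear_combination ih
  rw [mul_assoc, ← key, ← mul_assoc, inv_mul_cancel₀ h2, one_mul]

theorem Rel.nf_mul (h : Rel p z r v t) (hp2 : p ≠ 2) (x y : ZMod p × ZMod p × ZMod p × ZMod p) :
    nf z r v t x * nf z r v t y = nf z r v t (pmul x y) := by
  obtain ⟨a, b, c, l⟩ := x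
  obtain ⟨a', b', c', l'⟩ := y
  show pz z a * pz r b * pz v c * pz t l * (pz z a' * pz r b' * pz v c' * pz t l') =
    pz z _ * pz r _ * pz v _ * pz t _
  simp only [pmul]
  rw [pz_add h.tp, pz_add h.vp, pz_add h.rp, pz_add h.rp, pz_add h.zp, pz_add h.zp, pz_add h.zp]
  have e1 : pz r (l * c') = r ^ (l.val * c'.val) := by
    rw [← pz_natCast h.rp (l.val * c'.val)]; push_cast; rw [ZMod.natCast_zmod_val, ZMod.natCast_zmod_val]
  have e2 : pz z (l * b') = z ^ (l.val * b'.val) := by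
    rw [← pz_natCast h.zp (l.val * b'.val)]; push_cast; rw [ZMod.natCast_zmod_val, ZMod.natCast_zmod_val]
  have e3 : pz z ((2 : ZMod p)⁻¹ * l * (l - 1) * c') = z ^ (l.val.choose 2 * c'.val) := by
    rw [← pz_natCast h.zp (l.val.choose 2 * c'.val)]
    push_cast
    rw [choose_two_cast hp2, ZMod.natCast_zmod_val, ZMod.natCast_zmod_val]
  rw [e1, e2, e3]
  unfold pz
  generalize a.val = A, b.val = B, c.val = C, l.val = L, a'.val = A', b'.val = B', c'.val = C',
    l'.val = L'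
  have k1 : Commute (z ^ A') (r ^ B * v ^ C * t ^ L) :=
    ((h.zr.pow_pow A' B).mul_right (h.zv.pow_pow A' C)).mul_right (h.zt.pow_pow A' L)
  have k2 : Commute (v ^ C) (r ^ B') := (h.rv.pow_pow B' C).symm
  have k3 : Commute (z ^ (L * B')) (r ^ B * v ^ C) :=
    (h.zr.pow_pow _ B).mul_right (h.zv.pow_pow _ C)
  have k4 : Commute (z ^ (L.choose 2 * C')) (r ^ B * r ^ B' * (r ^ (L * C')) * (v ^ C * v ^ C')) :=
    (((h.zr.pow_pow _ B).mul_right (h.zr.pow_pow _ B')).mul_right (h.zr.pow_pow _ _)).mul_right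
      ((h.zv.pow_pow _ C).mul_right (h.zv.pow_pow _ C'))
  calc z ^ A * r ^ B * v ^ C * t ^ L * (z ^ A' * r ^ B' * v ^ C' * t ^ L')
      = z ^ A * (r ^ B * v ^ C * t ^ L * z ^ A') * r ^ B' * v ^ C' * t ^ L' := by group
    _ = z ^ A * z ^ A' * (r ^ B * v ^ C) * (t ^ L * r ^ B') * v ^ C' * t ^ L' := by
        rw [← k1.eq]; group
    _ = z ^ A * z ^ A' * r ^ B * (v ^ C * r ^ B') * z ^ (L * B') * (t ^ L * v ^ C') * t ^ L' := by
        rw [h.tr_pow_pow]; group
    _ = z ^ A * z ^ A' * r ^ B * r ^ B' * (v ^ C * z ^ (L * B')) *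
          (v ^ C' * r ^ (L * C') * z ^ (L.choose 2 * C')) * t ^ L * t ^ L' := by
        rw [k2.eq, h.tv_pow_pow]; group
    _ = z ^ A * z ^ A' * (r ^ B * r ^ B' * z ^ (L * B')) * (v ^ C * v ^ C' * r ^ (L * C')) *
          z ^ (L.choose 2 * C') * t ^ L * t ^ L' := by
        rw [← (h.zv.pow_pow (L * B') C).eq]; group
    _ = z ^ A * z ^ A' * (z ^ (L * B') * (r ^ B * r ^ B')) * (r ^ (L * C') * (v ^ C * v ^ C')) *
          z ^ (L.choose 2 * C') * t ^ L * t ^ L' := by
        rw [((h.zr.pow_pow (L * B') B).mul_right (h.zr.pow_pow (L * B') B')).eq,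
          ((h.rv.pow_pow (L * C') C).mul_right (h.rv.pow_pow (L * C') C')).eq]
    _ = z ^ A * z ^ A' * z ^ (L * B') * (r ^ B * r ^ B' * r ^ (L * C') * (v ^ C * v ^ C') *
          z ^ (L.choose 2 * C')) * t ^ L * t ^ L' := by group
    _ = _ := by rw [← k4.eq]; group

theorem Rel.mem_range (h : Rel p z r v t) (hp2 : p ≠ 2) {g : K}
    (hg : g ∈ Subgroup.closure {z, r, v, t}) [Finite K] :
    ∃ x : ZMod p × ZMod p × ZMod p × ZMod p, nf z r v t x = g := by
  obtain ⟨M, hM⟩ : ∃ M : Submonoid K, (M : Set K) = Set.range (nf (p := p) z r v t) :=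
    ⟨{ carrier := Set.range (nf (p := p) z r v t)
       one_mem' := ⟨0, by simp [nf, pz]⟩
       mul_mem' := by rintro _ _ ⟨x, rfl⟩ ⟨y, rfl⟩; exact ⟨_, (h.nf_mul hp2 x y).symm⟩ }, rfl⟩
  have h1 : ((1 : ℕ) : ZMod p).val = 1 := by
    rw [ZMod.val_natCast, Nat.mod_eq_of_lt hp.out.one_lt]
  have hgen : ∀ w ∈ ({z, r, v, t} : Set K), w ∈ M := by
    intro w hw
    show w ∈ (M : Set K)
    rw [hM]
    rcases hw with rfl | rfl | rfl | rfl
    · exact ⟨(((1 : ℕ) : ZMod p), 0, 0, 0), by simp only [nf, pz, h1]; simp⟩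
    · exact ⟨(0, ((1 : ℕ) : ZMod p), 0, 0), by simp only [nf, pz, h1]; simp⟩
    · exact ⟨(0, 0, ((1 : ℕ) : ZMod p), 0), by simp only [nf, pz, h1]; simp⟩
    · exact ⟨(0, 0, 0, ((1 : ℕ) : ZMod p)), by simp only [nf, pz, h1]; simp⟩
  have : g ∈ (M : Set K) := by
    induction hg using Subgroup.closure_induction with
    | mem w hw => exact hgen w hw
    | one => exact M.one_mem
    | mul a b _ _ ha hb => exact M.mul_mem ha hb
    | inv a _ ha =>
      have : a⁻¹ = a ^ (orderOf a - 1) := inv_eq_of_mul_eq_one_right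
        (by rw [← pow_succ', Nat.sub_add_cancel (orderOf_pos a), pow_orderOf_eq_one])
      rw [this]
      exact M.pow_mem ha _
  rw [hM] at this
  exact this

section Model

local notation "Sp4" => Matrix.symplecticGroup (Fin 2) (ZMod p)

theorem upper_mem {B : Matrix (Fin 2) (Fin 2) (ZMod p)} (hB : Bᵀ = B) :
    fromBlocks 1 B 0 1 ∈ Sp4 := by
  rw [SymplecticGroup.mem_iff]
  simp [Matrix.J, fromBlocks_transpose, fromBlocks_multiply, hB]

theorem shear_mem : fromBlocks !![(1 : ZMod p), 1; 0, 1] 0 0 !![(1 : ZMod p), 0; -1, 1] ∈ Sp4 := by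
  rw [SymplecticGroup.mem_iff]
  ext i j
  rcases i with i | i <;> rcases j with j | j <;> fin_cases i <;> fin_cases j <;>
    simp [Matrix.J, Matrix.mul_apply, Fin.sum_univ_two, Fintype.sum_sum_type]

theorem upper_pow (B : Matrix (Fin 2) (Fin 2) (ZMod p)) (n : ℕ) :
    (fromBlocks (1 : Matrix (Fin 2) (Fin 2) (ZMod p)) B 0 (1 : Matrix (Fin 2) (Fin 2) (ZMod p))) ^ n =
      fromBlocks 1 ((n : ZMod p) • B) 0 1 := by
  induction n with
  | zero => simp [fromBlocks_one]
  | succ n ih =>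
    rw [pow_succ, ih, fromBlocks_multiply]
    simp [add_smul, add_comm]

theorem shear_pow (n : ℕ) :
    (fromBlocks !![(1 : ZMod p), 1; 0, 1] 0 0 !![(1 : ZMod p), 0; -1, 1]) ^ n =
      fromBlocks !![(1 : ZMod p), n; 0, 1] 0 0 !![(1 : ZMod p), 0; -(n : ZMod p), 1] := by
  induction n with
  | zero =>
    ext i j
    rcases i with i | i <;> rcases j with j | j <;> fin_cases i <;> fin_cases j <;> simp
  | succ n ih =>
    rw [pow_succ, ih]
    ext i j
    rcases i with i | i <;> rcases j with j | j <;> fin_cases i <;> fin_cases j <;>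
      simp [Matrix.mul_apply, Fin.sum_univ_two, Fintype.sum_sum_type, add_comm]

/-- The model: a Sylow subgroup parametrised by the normal form. -/
theorem exists_model (hp2 : p ≠ 2) :
    ∃ (P : Sylow p ↥Sp4) (f : ZMod p × ZMod p × ZMod p × ZMod p → ↥Sp4),
      Function.Injective f ∧ (∀ x y, f x * f y = f (pmul x y)) ∧
        ∀ g, g ∈ (P : Subgroup ↥Sp4) ↔ ∃ x, f x = g := by
  have hpp := hp.out
  obtain ⟨B1, hB1⟩ : ∃ B1, B1 = !![(2 : ZMod p), 0; 0, 0] := ⟨_, rfl⟩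
  obtain ⟨B2, hB2⟩ : ∃ B2, B2 = !![(1 : ZMod p), 1; 1, 0] := ⟨_, rfl⟩
  obtain ⟨B3, hB3⟩ : ∃ B3, B3 = !![(0 : ZMod p), 0; 0, 1] := ⟨_, rfl⟩
  have s1 : B1ᵀ = B1 := by subst hB1; ext i j; fin_cases i <;> fin_cases j <;> simp
  have s2 : B2ᵀ = B2 := by subst hB2; ext i j; fin_cases i <;> fin_cases j <;> simp
  have s3 : B3ᵀ = B3 := by subst hB3; ext i j; fin_cases i <;> fin_cases j <;> simp
  obtain ⟨z, hz⟩ : ∃ z : ↥Sp4, z = ⟨_, upper_mem s1⟩ := ⟨_, rfl⟩
  obtain ⟨r, hr⟩ : ∃ r : ↥Sp4, r = ⟨_, upper_mem s2⟩ := ⟨_, rfl⟩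
  obtain ⟨v, hv⟩ : ∃ v : ↥Sp4, v = ⟨_, upper_mem s3⟩ := ⟨_, rfl⟩
  obtain ⟨t, ht⟩ : ∃ t : ↥Sp4, t = ⟨_, shear_mem⟩ := ⟨_, rfl⟩
  have hup : ∀ {B} (hB : Bᵀ = B), (⟨_, upper_mem hB⟩ : ↥Sp4) ^ p = 1 := fun {B} hB => Subtype.ext (by
    simp [SubmonoidClass.coe_pow, upper_pow, fromBlocks_one])
  have hcom : ∀ {B B'} (hB : Bᵀ = B) (hB' : B'ᵀ = B'),
      Commute (⟨_, upper_mem hB⟩ : ↥Sp4) ⟨_, upper_mem hB'⟩ := fun {B B'} hB hB' => Subtype.ext (by
    simp [fromBlocks_multiply, add_comm])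
  have hR : Rel p z r v t := by
    refine ⟨hz ▸ hup s1, hr ▸ hup s2, hv ▸ hup s3, ?_, hz ▸ hr ▸ hcom s1 s2, hz ▸ hv ▸ hcom s1 s3,
      ?_, hr ▸ hv ▸ hcom s2 s3, ?_, ?_⟩
    · refine Subtype.ext ?_
      rw [ht, SubmonoidClass.coe_pow, shear_pow, ZMod.natCast_self]
      ext i j
      rcases i with i | i <;> rcases j with j | j <;> fin_cases i <;> fin_cases j <;> simp
    all_goals
      refine Subtype.ext ?_
      subst hz hr hv ht hB1 hB2 hB3
      simp only [Submonoid.coe_mul, fromBlocks_multiply]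
      ext i j
      rcases i with i | i <;> rcases j with j | j <;> fin_cases i <;> fin_cases j <;>
        simp [Matrix.mul_apply, Fin.sum_univ_two] <;> ring
  have hval : ∀ a b c l : ZMod p, (nf z r v t (a, b, c, l)).val =
      fromBlocks 1 (a • B1 + b • B2 + c • B3) 0 1 *
        fromBlocks !![(1 : ZMod p), l; 0, 1] 0 0 !![(1 : ZMod p), 0; -l, 1] := by
    intro a b c l
    subst hz hr hv ht
    simp only [nf, pz, Submonoid.coe_mul, SubmonoidClass.coe_pow, upper_pow, shear_pow,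
      ZMod.natCast_zmod_val]
    congr 1
    simp [fromBlocks_multiply, add_comm, add_left_comm]
  have hinj : Function.Injective (nf (p := p) z r v t) := by
    rintro ⟨a, b, c, l⟩ ⟨a', b', c', l'⟩ he
    have h1 := congrArg (fun g : ↥Sp4 => g.val) he
    simp only [hval, fromBlocks_multiply] at h1
    obtain ⟨h11, h12, -, h22⟩ := fromBlocks_inj.1 h1
    have el : l = l' := by simpa using congr_fun₂ h11 0 1
    subst el
    have e11 : c = c' := by
      have := congr_fun₂ h12 1 1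
      subst hB1 hB2 hB3
      simpa [Matrix.mul_apply, Fin.sum_univ_two] using this
    subst e11
    have e01 : b = b' := by
      have := congr_fun₂ h12 0 1
      subst hB1 hB2 hB3
      simpa [Matrix.mul_apply, Fin.sum_univ_two] using this
    subst e01
    have e00 : a = a' := by
      have := congr_fun₂ h12 0 0
      subst hB1 hB2 hB3
      simp [Matrix.mul_apply, Fin.sum_univ_two] at this
      have h2 : (2 : ZMod p) ≠ 0 := by
        intro e
        have e' : ((2 : ℕ) : ZMod p) = 0 := by exact_mod_cast e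
        rw [ZMod.natCast_eq_zero_iff] at e'
        exact hp2 ((Nat.prime_dvd_prime_iff_eq hpp Nat.prime_two).1 e')
      simpa [h2] using this
    subst e00
    rfl
  have h1 : nf (p := p) z r v t 0 = 1 := by simp [nf, pz]
  haveI : Finite ↥Sp4 := inferInstance
  obtain ⟨P0, hP0⟩ : ∃ P0 : Subgroup ↥Sp4, P0 = Subgroup.closure {z, r, v, t} := ⟨_, rfl⟩
  have hrange : ∀ g, g ∈ P0 ↔ ∃ x, nf (p := p) z r v t x = g := by
    intro g
    refine ⟨fun hg => hR.mem_range hp2 (hP0 ▸ hg), ?_⟩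
    rintro ⟨x, rfl⟩
    rw [hP0]
    refine Subgroup.mul_mem _ (Subgroup.mul_mem _ (Subgroup.mul_mem _ ?_ ?_) ?_) ?_ <;>
      exact Subgroup.pow_mem _ (Subgroup.subset_closure (by simp)) _
  have hcard : Nat.card P0 = p ^ 4 := by
    rw [← Nat.card_congr (Equiv.ofBijective (fun x => (⟨nf z r v t x, (hrange _).2 ⟨x, rfl⟩⟩ : P0))
      ⟨fun x y e => hinj (congrArg Subtype.val e), fun ⟨g, hg⟩ => by
        obtain ⟨x, hx⟩ := (hrange g).1 hg
        exact ⟨x, Subtype.ext hx⟩⟩)]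
    simp only [Nat.card_prod, Nat.card_zmod]
    ring
  obtain ⟨Q, hQ⟩ := (IsPGroup.of_card hcard : IsPGroup p P0).exists_le_sylow
  have hQP : (Q : Subgroup ↥Sp4) = P0 := by
    refine (Subgroup.eq_of_le_of_card_ge hQ ?_).symm
    obtain ⟨k, hk⟩ := Q.2.exists_card_eq
    rw [hcard, hk]
    refine Nat.pow_le_pow_right hpp.pos ?_
    by_contra hk4
    have hdvd : p ^ 5 ∣ Nat.card ↥Sp4 :=
      (pow_dvd_pow p (by omega : 5 ≤ k)).trans (hk ▸ Subgroup.card_subgroup_dvd_card _)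
    rw [CfsgLib.Classical.SympTrans.card_symplectic, Nat.card_zmod, pow_succ'] at hdvd
    simp only [Finset.prod_range_succ, Finset.prod_range_zero, one_mul] at hdvd
    norm_num at hdvd
    rw [mul_comm p, mul_dvd_mul_iff_left (pow_ne_zero 4 hpp.ne_zero)] at hdvd
    have hno : ∀ e, 0 < e → ¬ p ∣ p ^ e - 1 := by
      intro e he hd
      have h3 := Nat.dvd_sub (dvd_pow_self p he.ne') hd
      rw [Nat.sub_sub_self (Nat.one_le_pow _ _ hpp.pos)] at h3
      exact hpp.one_lt.ne' (Nat.dvd_one.1 h3)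
    rcases hpp.dvd_mul.1 hdvd with hd | hd
    exacts [hno 2 (by norm_num) hd, hno 4 (by norm_num) hd]
  exact ⟨Q, nf z r v t, hinj, hR.nf_mul hp2, fun g => by rw [hQP]; exact hrange g⟩

end Model

/-- A group of order `p ^ 4` with the relations is a Sylow subgroup of `Sp_4(p)`. -/
theorem Rel.sylow_iso [Finite K] (h : Rel p z r v t) (hp2 : p ≠ 2) (hc : Nat.card K = p ^ 4)
    (hgen : Subgroup.closure {z, r, v, t} = ⊤) :
    ∃ P : Sylow p ↥(Matrix.symplecticGroup (Fin 2) (ZMod p)),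
      Nonempty (K ≃* ↥(P : Subgroup ↥(Matrix.symplecticGroup (Fin 2) (ZMod p)))) := by
  obtain ⟨P, f, hinj, hmul, hmem⟩ := exists_model (p := p) hp2
  have hsur : Function.Surjective (nf (p := p) z r v t) :=
    fun g => h.mem_range hp2 (hgen.symm ▸ Subgroup.mem_top g)
  have hbij : Function.Bijective (nf (p := p) z r v t) :=
    (Nat.bijective_iff_surjective_and_card _).2 ⟨hsur, by
      rw [hc]; simp only [Nat.card_prod, Nat.card_zmod]; ring⟩
  refine ⟨P, ⟨MulEquiv.mk'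
    ((Equiv.ofBijective _ hbij).symm.trans (Equiv.ofBijective
      (fun x => (⟨f x, (hmem _).2 ⟨x, rfl⟩⟩ : (P : Subgroup _)))
      ⟨fun x y e => hinj (congrArg Subtype.val e), fun ⟨g, hg⟩ => by
        obtain ⟨x, hx⟩ := (hmem g).1 hg
        exact ⟨x, Subtype.ext hx⟩⟩)) fun a b => ?_⟩⟩
  obtain ⟨x, rfl⟩ := hsur a
  obtain ⟨y, rfl⟩ := hsur b
  refine Subtype.ext ?_
  simp only [Equiv.trans_apply, Subgroup.coe_mul, h.nf_mul hp2,
    Equiv.ofBijective_symm_apply_apply]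
  exact (hmul x y).symm

end CfsgLib.RankThreeAmalgam
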