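import Cfsg.Agent.Lib.Fusion.RankThreeAmalgam.Shape
import Cfsg.Agent.Lib.Fusion.RankThreeAmalgam.SympSylow
import Cfsg.Agent.Lib.Fusion.SmallNonabelian

/-!
A split pair with central part of order `p` generated by a commutator.
-/

set_option autoImplicit false
set_option linter.style.haveILetI false
set_option linter.unusedSectionVars false

namespace CfsgLib.RankThreeAmalgam

open Cfsg
open scoped commutatorElement

variable {Y : Type*} [Group Y] [Finite Y] {p : ℕ} [hp : Fact p.Prime] {E E' G : Subgroup Y}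
  {v r s : Y}

namespace Shape

theorem sp4 (hS : Shape p E E' G v r s) (hY : IsPGroup p Y) (hp2 : p ≠ 2)
    (hrk : Cfsg.SectionalPRankLE p 3 Y) (hi : E.index = p) (hi' : E'.index = p)
    (hG : Nat.card G = p) (hz : ⁅r, s⁆ ≠ 1) :
    (∃ P : Sylow p ↥(Matrix.symplecticGroup (Fin 2) (ZMod p)),
        Nonempty (Y ≃* ↥(P : Subgroup ↥(Matrix.symplecticGroup (Fin 2) (ZMod p))))) ∧
      Elem p E ∧ Nat.card E = p ^ 3 ∧
      Cfsg.IsExtraspecial p ↥E' ∧ Nat.card E' = p ^ 3 ∧ ∀ x ∈ E', x ^ p = 1 := by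
  have hc := hS.central hY hp2 hrk hi'
  obtain ⟨hcE', hcE, hcY⟩ := hS.cards hY hi hi'
  rw [hG, ← pow_succ] at hcY hcE hcE'
  obtain ⟨czr, czs, czv, hzp⟩ := hS.z_comm
  obtain ⟨hrg, hvg, hrv, -⟩ := hS.comm_facts
  have hGz : G = Subgroup.zpowers ⁅r, s⁆ :=
    (Subgroup.eq_of_le_of_card_ge (Subgroup.zpowers_le.2 hS.zG)
      (by rw [hG, Nat.card_zpowers, orderOf_eq_prime hzp hz])).symm
  have hGp : ∀ g ∈ G, g ^ p = 1 := fun g hg => by
    obtain ⟨n, rfl⟩ := Subgroup.mem_zpowers_iff.1 (hGz ▸ hg)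
    rw [← zpow_natCast, ← zpow_mul, mul_comm, zpow_mul, zpow_natCast, hzp, one_zpow]
  have hrel : Rel p ⁅r, s⁆ r v s⁻¹ := by
    refine ⟨hzp, hS.rp, hS.vp, by rw [inv_pow, hS.sp, inv_one], czr, czv, czs.inv_right, hrv, ?_, ?_⟩
    · calc s⁻¹ * r = s⁻¹ * ⁅r, s⁆ * (s * r * s⁻¹) := by rw [commutatorElement_def]; group
        _ = ⁅r, s⁆ * r * s⁻¹ := by rw [← (czs.inv_right).eq]; group
        _ = r * ⁅r, s⁆ * s⁻¹ := by rw [czr.eq]
    · calc s⁻¹ * v = s⁻¹ * (v * s * v⁻¹) * v * s⁻¹ := by group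
        _ = r * v * s⁻¹ := by rw [hS.rdef]; group
        _ = v * r * s⁻¹ := by rw [hrv]
  obtain ⟨H, hH⟩ : ∃ H, H = Subgroup.closure {⁅r, s⁆, r, v, s⁻¹} := ⟨_, rfl⟩
  have hgen : H = ⊤ := by
    refine eq_top_iff.2 fun y _ => ?_
    obtain ⟨g, hg, i, j, k, rfl⟩ := hS.decomp_top hY hi' y
    obtain ⟨n, rfl⟩ := Subgroup.mem_zpowers_iff.1 (hGz ▸ hg)
    have hs : s ∈ H := by
      have := H.inv_mem (hH ▸ Subgroup.subset_closure (by simp) : s⁻¹ ∈ H)
      rwa [inv_inv] at this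
    exact H.mul_mem (H.mul_mem (H.mul_mem
      (H.zpow_mem (hH ▸ Subgroup.subset_closure (by simp) : ⁅r, s⁆ ∈ H) n)
      (H.pow_mem (hH ▸ Subgroup.subset_closure (by simp) : r ∈ H) i)) (H.pow_mem hs j))
      (H.pow_mem (hH ▸ Subgroup.subset_closure (by simp) : v ∈ H) k)
  refine ⟨hrel.sylow_iso hp2 hcY (hH ▸ hgen), ?_, hcE, ?_, hcE', ?_⟩
  · obtain ⟨S, hS'⟩ : ∃ S : Set Y, S = {⁅r, s⁆, r, v} := ⟨_, rfl⟩
    refine Elem.mono (B := Subgroup.closure S) (hS' ▸ elem_closure ?_ ?_) fun e he => ?_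
    · rintro a (rfl | rfl | rfl) b (rfl | rfl | rfl) <;> first
        | rfl | exact czr.eq | exact czr.eq.symm | exact czv.eq | exact czv.eq.symm
        | exact hrv | exact hrv.symm
    · rintro a (rfl | rfl | rfl)
      exacts [hzp, hS.rp, hS.vp]
    · obtain ⟨g, hg, i, k, rfl⟩ := hS.gen e he
      obtain ⟨n, rfl⟩ := Subgroup.mem_zpowers_iff.1 (hGz ▸ hg)
      refine Subgroup.mul_mem _ (Subgroup.mul_mem _ (Subgroup.zpow_mem _ ?_ n)
        (Subgroup.pow_mem _ ?_ i)) (Subgroup.pow_mem _ ?_ k) <;>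
        exact hS' ▸ Subgroup.subset_closure (by simp)
  all_goals
    have hexp : ∀ x ∈ E', x ^ p = 1 := by
      intro x hx
      obtain ⟨g, hg, i, j, rfl⟩ := hS.gen' x hx
      have hgc : Commute g (r ^ i * s ^ j) := hc g hg _
      obtain ⟨d, hd⟩ : ∃ d, d = (r ^ i)⁻¹ * s ^ j * r ^ i * (s ^ j)⁻¹ := ⟨_, rfl⟩
      have hdG : d ∈ G := by
        haveI : G.Normal := ⟨fun w hw u => by rw [← hc w hw, mul_inv_cancel_right]; exact hw⟩
        rw [← QuotientGroup.eq_one_iff (N := G), ← QuotientGroup.mk'_apply, hd]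
        have hcq : Commute (QuotientGroup.mk' G r) (QuotientGroup.mk' G s) := by
          rw [← commutatorElement_eq_one_iff_commute, ← map_commutatorElement,
            QuotientGroup.mk'_apply, QuotientGroup.eq_one_iff]
          exact hS.zG
        simp only [map_mul, map_inv, map_pow]
        rw [mul_assoc (_⁻¹), ← (hcq.pow_pow i j).eq, inv_mul_cancel_left, mul_inv_cancel]
      rw [mul_assoc, hgc.mul_pow, hGp g hg, one_mul,
        mul_pow_two (d := d) (by rw [hd]; group) (hc d hdG _).symm (hc d hdG _) (hGp d hdG) hp2,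
        ← pow_mul, mul_comm i p, pow_mul, hS.rp, one_pow, ← pow_mul, mul_comm j p, pow_mul, hS.sp,
        one_pow, mul_one]
  · refine CfsgLib.Fusion.SmallNonabelian.isExtraspecial_of_exp hcE' (fun hab => hz ?_)
      (fun a => Subtype.ext (by rw [SubgroupClass.coe_pow, hexp a a.2]; rfl))
    exact commutatorElement_eq_one_iff_mul_comm.2
      (congrArg Subtype.val (hab ⟨r, hS.rE'⟩ ⟨s, hS.sE'⟩))
  · exact hexp

end Shape

end CfsgLib.RankThreeAmalgam
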