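import Cfsg.Agent.Lib.Fusion.RankThreeAmalgam.Lift
import Cfsg.Agent.Lib.Fusion.RankThreeAmalgam.Sp4Shape

/-!
A symplectic pair modulo a nontrivial invariant subgroup is impossible.
-/

set_option autoImplicit false
set_option linter.style.haveILetI false
set_option linter.unusedSectionVars false

namespace CfsgLib.RankThreeAmalgam

open Cfsg CfsgLib.RankThree
open scoped commutatorElement

variable {Y : Type*} [Group Y] [Finite Y] {p : ℕ} [hp : Fact p.Prime] {Γ : Sys Y} {K : Subgroup Y}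

theorem Sys.Good.no_big (h : Γ.Good p) (hK : Γ.Inv K) [K.Normal] (hK0 : K ≠ ⊥)
    {Q Q' : Subgroup (Y ⧸ K)} (hE : Q.comap (QuotientGroup.mk' K) ∈ Γ.ℰ)
    (hE' : Q'.comap (QuotientGroup.mk' K) ∈ Γ.ℰ)
    (ht : TrivOn K (Q'.comap (QuotientGroup.mk' K)))
    {G : Subgroup (Y ⧸ K)} {v r s : Y ⧸ K} (hS : Shape p Q Q' G v r s) (hG : Nat.card G = p)
    (hz : ⁅r, s⁆ ≠ 1) (hirr : Irr Γ K (Q.comap (QuotientGroup.mk' K))) : False := by
  classical
  have hY := h.pY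
  have hpp := hp.out
  haveI := phi_normal_of_normal (p := p) hY (inferInstance : K.Normal)
  have hidx : ∀ {R : Subgroup (Y ⧸ K)}, R.comap (QuotientGroup.mk' K) ∈ Γ.ℰ → R.index = p := fun hR => by
    rw [← Subgroup.index_comap_of_surjective _ (QuotientGroup.mk'_surjective K)]
    exact h.idx _ hR
  obtain ⟨-, hel, hcE, -, -, -⟩ :=
    hS.sp4 (hY.to_quotient K) h.podd (quot_rank h.rank) (hidx hE) (hidx hE') hG hz
  have hcen := hS.central (hY.to_quotient K) h.podd (quot_rank h.rank) (hidx hE')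
  obtain ⟨ρ, hρ⟩ : ∃ ρ, ρ = QuotientGroup.mk' K := ⟨_, rfl⟩
  have hρs : Function.Surjective ρ := hρ ▸ QuotientGroup.mk'_surjective K
  have hρ1 : ∀ {w}, ρ w = 1 ↔ w ∈ K := fun {w} => by
    rw [hρ, QuotientGroup.mk'_apply, QuotientGroup.eq_one_iff]
  obtain ⟨E, hEdef⟩ : ∃ E, E = Q.comap (QuotientGroup.mk' K) := ⟨_, rfl⟩
  obtain ⟨E', hE'def⟩ : ∃ E', E' = Q'.comap (QuotientGroup.mk' K) := ⟨_, rfl⟩
  rw [← hEdef] at hE hirr
  rw [← hE'def] at hE' ht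
  have hmem : ∀ {w}, w ∈ E ↔ ρ w ∈ Q := fun {w} => by rw [hEdef, hρ]; rfl
  have hmem' : ∀ {w}, w ∈ E' ↔ ρ w ∈ Q' := fun {w} => by rw [hE'def, hρ]; rfl
  obtain ⟨v0, hv0⟩ := hρs v
  obtain ⟨s0, hs0⟩ := hρs s
  obtain ⟨r0, hr0⟩ := hρs r
  have hKE := hK.le E hE
  have hKE' := hK.le E' hE'
  have hvE : v0 ∈ E := hmem.2 (hv0 ▸ hS.vE)
  have hrE : r0 ∈ E := hmem.2 (hr0 ▸ hS.rE)
  have hsE : s0 ∉ E := fun hc => hS.sE (hs0 ▸ hmem.1 hc)
  have hsE' : s0 ∈ E' := hmem'.2 (hs0 ▸ hS.sE')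
  have hvE' : v0 ∉ E' := fun hc => hS.vE' (hv0 ▸ hmem'.1 hc)
  obtain ⟨π, hπ⟩ : ∃ π, π = QuotientGroup.mk' (phi K) := ⟨_, rfl⟩
  have hπs : Function.Surjective π := hπ ▸ QuotientGroup.mk'_surjective _
  have hπ1 : ∀ {w}, π w = 1 ↔ w ∈ phi K := fun {w} => by
    rw [hπ, QuotientGroup.mk'_apply, QuotientGroup.eq_one_iff]
  obtain ⟨A, c, hs'⟩ := exists_series (hY.to_quotient (phi K)) (quot_rank h.rank)
    ((inferInstance : K.Normal).map _ (QuotientGroup.mk'_surjective _))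
    (elem_map_phi (p := p) (K := K) hY)
  obtain ⟨hzr, hzs, hzv, -⟩ := hS.z_comm
  -- the triple commutator
  have hsrs : s * r * s⁻¹ = ⁅r, s⁆⁻¹ * r := by rw [commutatorElement_def]; group
  have hvs : ⁅v, s⁆ = ⁅r, s⁆⁻¹ * r := by
    rw [commutatorElement_def v s, hS.rdef, hsrs]
  have hvss : ⁅⁅v, s⁆, s⁆ = ⁅r, s⁆ := by
    rw [hvs]
    have hzi : ∀ y, ⁅r, s⁆⁻¹ * y = y * ⁅r, s⁆⁻¹ := fun y => hcen _ (G.inv_mem hS.zG) y
    calc ⁅⁅r, s⁆⁻¹ * r, s⁆ = ⁅r, s⁆⁻¹ * (r * s * r⁻¹) * ⁅r, s⁆ * s⁻¹ := by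
          rw [commutatorElement_def (⁅r, s⁆⁻¹ * r) s]; group
      _ = ⁅r, s⁆ := by
          rw [hzi (r * s * r⁻¹), inv_mul_cancel_right]; rfl
  obtain ⟨z0, hz0⟩ : ∃ z0, z0 = ⁅⁅v0, s0⁆, s0⁆ := ⟨_, rfl⟩
  have hz0v : ρ z0 = ⁅r, s⁆ := by
    rw [hz0, map_commutatorElement, map_commutatorElement, hv0, hs0, hvss]
  have hzE : z0 ∈ E := hmem.2 (hz0v ▸ hS.GE hS.zG)
  have hzK : z0 ∉ K := fun hc => hz (by rw [← hz0v, hρ1.2 hc])
  have hzA : z0 ∈ actKer K := mem_actKer.2 fun k hk => by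
    rw [hz0, ← commutatorElement_inv, map_inv, map_commutatorElement, map_commutatorElement]
    exact (hs'.triple _ _ _ ⟨k, hk, rfl⟩).inv_left
  have hEA : E ≤ actKer K := by
    rcases hirr (E ⊓ actKer K) (le_inf hKE (self_le_actKer hY)) inf_le_left
      (fun α hα e he => hK.actKer_inter hY hE hα he) with h1 | h1
    · exact absurd (h1.le ⟨hzE, hzA⟩) hzK
    · exact h1 ▸ inf_le_right
  haveI hEn := h.normal hE
  haveI hE'n := h.normal hE'
  haveI := h.phi_normal hE'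
  have hEE : ∀ {a b}, a ∈ E → b ∈ E → ⁅a, b⁆ ∈ K := fun ha hb => hρ1.1 (by
    rw [map_commutatorElement, commutatorElement_eq_one_iff_mul_comm]
    exact hel.1 _ (hmem.1 ha) _ (hmem.1 hb))
  have hall : ∀ y : Y, y ∈ actKer K := by
    by_cases hc : E' ⊓ actKer K ≤ E
    · exfalso
      have hΦ : phi E' ≤ E' ⊓ actKer K := by
        refine le_inf (phi_le E') fun w hw => hEA ?_
        refine ((phi_le_of_index hY (inf_le_right : E ⊓ E' ≤ E')
          (fun e _ y hy => (inferInstance : (E ⊓ E').Normal).conj_mem y hy e)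
          (inf_relIndex hEn (h.idx E hE) fun hle => hsE (hle hsE'))) hw).1
      refine h.flag hE' (C₁ := K ⊔ phi E') (C₂ := E' ⊓ actKer K) le_sup_right
        (sup_le (le_inf hKE' (self_le_actKer hY)) hΦ) inf_le_left
        (fun α hα e he => hK.sup_phi hE' hα he) (fun α hα e he => hK.actKer_inter hY hE' hα he)
        hvE' (fun y hy => triv_sup (ht v0) hy) (fun y hy => ?_) fun y hy => ?_
      · refine Subgroup.mem_sup_left ?_
        have h1 := hEE (E.inv_mem (hc hy)) hvE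
        rwa [commutatorElement_def, inv_inv, mul_assoc, mul_assoc, ← mul_assoc v0] at h1
      · refine ⟨E'.mul_mem (E'.inv_mem hy) (hE'n.conj_mem _ hy v0), hEA ?_⟩
        rw [show y⁻¹ * (v0 * y * v0⁻¹) = (y⁻¹ * v0 * y⁻¹⁻¹) * v0⁻¹ by group]
        exact E.mul_mem (hEn.conj_mem _ hvE y⁻¹) (E.inv_mem hvE)
    · obtain ⟨w, hw, hwE⟩ := SetLike.not_le_iff_exists.1 hc
      exact le_of_member_le (h.idx E hE) hEA hw.2 hwE
  have hcent : ∀ k ∈ K, ∀ w : Y ⧸ phi K, Commute w (π k) := fun k hk w => by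
    obtain ⟨y, rfl⟩ := hπs w
    exact hπ ▸ mem_actKer.1 (hall y) k hk
  have hcommcen : ∀ {a b}, a ∈ E → b ∈ E → ∀ w : Y ⧸ phi K, Commute w ⁅π a, π b⁆ := fun ha hb w => by
    rw [← map_commutatorElement]
    exact hcent _ (hEE ha hb) w
  -- the commutator form
  obtain ⟨a, ha⟩ : ∃ a, a = π z0 := ⟨_, rfl⟩
  obtain ⟨b, hb⟩ : ∃ b, b = π r0 := ⟨_, rfl⟩
  obtain ⟨d, hd⟩ : ∃ d, d = π v0 := ⟨_, rfl⟩
  have hconj : ∀ {x w : Y}, ρ (s0 * x * s0⁻¹) = ρ w → ∃ k ∈ K, π s0 * π x * (π s0)⁻¹ = π w * π k := by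
    intro x w he
    refine ⟨w⁻¹ * (s0 * x * s0⁻¹), hρ1.1 (by rw [map_mul, map_inv, he, inv_mul_cancel]), ?_⟩
    rw [← map_mul π w, mul_inv_cancel_left, map_mul, map_mul, map_inv]
  obtain ⟨k1, hk1, hSa⟩ := hconj (x := z0) (w := z0) (by
    rw [map_mul, map_mul, map_inv, hz0v, hs0, ← hcen _ hS.zG, mul_inv_cancel_right])
  obtain ⟨k2, hk2, hSb⟩ := hconj (x := r0) (w := z0⁻¹ * r0) (by
    rw [map_mul, map_mul, map_inv, map_mul, map_inv, hz0v, hr0, hs0, hsrs])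
  obtain ⟨k3, hk3, hSd⟩ := hconj (x := v0) (w := r0⁻¹ * z0 * v0) (by
    simp only [map_mul, map_inv, hz0v, hr0, hv0, hs0]
    calc s * v * s⁻¹ = (s * r * s⁻¹)⁻¹ * (s * (r * v) * s⁻¹) := by group
      _ = (s * r * s⁻¹)⁻¹ * (s * (s⁻¹ * (v * s * v⁻¹) * v) * s⁻¹) := by rw [hS.rdef]; group
      _ = r⁻¹ * ⁅r, s⁆ * v := by rw [hsrs, mul_inv_rev, inv_inv]; group)
  rw [map_mul, map_inv] at hSb
  rw [map_mul, map_mul, map_inv] at hSd
  rw [← ha] at hSa hSb hSd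
  rw [← hb] at hSb hSd
  rw [← hd] at hSd
  have habs : ∀ (x w : Y ⧸ phi K) (k : Y) (k' : Y), k ∈ K → k' ∈ K →
      ⁅x * π k, w * π k'⁆ = ⁅x, w⁆ := by
    intro x w k k' hk hk'
    simp only [commutatorElement_def]
    calc x * π k * (w * π k') * (x * π k)⁻¹ * (w * π k')⁻¹
        = x * (π k * (w * π k') * (π k)⁻¹) * x⁻¹ * ((π k')⁻¹ * w⁻¹) := by group
      _ = x * w * (π k' * x⁻¹ * (π k')⁻¹) * w⁻¹ := by
          rw [← (hcent k hk (w * π k')).eq, mul_inv_cancel_right]; group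
      _ = x * w * x⁻¹ * w⁻¹ := by rw [← (hcent k' hk' x⁻¹).eq, mul_inv_cancel_right]
  have hSfix : ∀ {x w}, x ∈ E → w ∈ E →
      ⁅π s0 * π x * (π s0)⁻¹, π s0 * π w * (π s0)⁻¹⁆ = ⁅π x, π w⁆ := fun {x w} hx hw => by
    calc ⁅π s0 * π x * (π s0)⁻¹, π s0 * π w * (π s0)⁻¹⁆ = π s0 * ⁅π x, π w⁆ * (π s0)⁻¹ := by
          simp only [commutatorElement_def]; group
      _ = ⁅π x, π w⁆ := by rw [(hcommcen hx hw (π s0)).eq, mul_inv_cancel_right]
  have hexp : ∀ {x y w : Y ⧸ phi K}, Commute y ⁅x, w⁆ → ⁅x, y * w⁆ = ⁅x, y⁆ * ⁅x, w⁆ := by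
    intro x y w hc
    calc ⁅x, y * w⁆ = ⁅x, y⁆ * (y * ⁅x, w⁆ * y⁻¹) := by simp only [commutatorElement_def]; group
      _ = ⁅x, y⁆ * ⁅x, w⁆ := by rw [hc.eq, mul_inv_cancel_right]
  have hexp' : ∀ {x y w : Y ⧸ phi K}, Commute x ⁅y, w⁆ → ⁅x * y, w⁆ = ⁅y, w⁆ * ⁅x, w⁆ := by
    intro x y w hc
    calc ⁅x * y, w⁆ = x * ⁅y, w⁆ * x⁻¹ * ⁅x, w⁆ := by simp only [commutatorElement_def]; group
      _ = ⁅y, w⁆ * ⁅x, w⁆ := by rw [hc.eq, mul_inv_cancel_right]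
  have hab : Commute a b := by
    have h1 := hSfix hzE hvE
    rw [← ha, ← hd, hSa, hSd, habs _ _ _ _ hk1 hk3] at h1
    rw [hexp (y := b⁻¹ * a) (w := d) (ha ▸ hd ▸ hcommcen hzE hvE _), mul_eq_right,
      commutatorElement_eq_one_iff_commute] at h1
    have h2 := h1.mul_right (Commute.refl a).inv_right
    rw [mul_inv_cancel_right] at h2
    exact Commute.inv_right_iff.1 h2
  have had : Commute a d := by
    have h1 := hSfix hrE hvE
    rw [← hb, ← hd, hSb, hSd, habs _ _ _ _ hk2 hk3] at h1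
    rw [hexp (y := b⁻¹ * a) (w := d) (by
      rw [ha, hb, hd, ← map_inv π z0, ← map_mul]
      exact hcommcen (E.mul_mem (E.inv_mem hzE) hrE) hvE _)] at h1
    rw [show ⁅a⁻¹ * b, b⁻¹ * a⁆ = 1 from commutatorElement_eq_one_iff_commute.2 (by
      rw [show b⁻¹ * a = (a⁻¹ * b)⁻¹ by group]; exact (Commute.refl _).inv_right), one_mul,
      hexp' (x := a⁻¹) (y := b) (hb ▸ hd ▸ hcommcen hrE hvE _), mul_eq_left,
      commutatorElement_eq_one_iff_commute] at h1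
    exact Commute.inv_left_iff.1 h1
  obtain ⟨Z, hZ⟩ : ∃ Z, Z = E ⊓ (Subgroup.centralizer ((E.map π : Subgroup _) : Set (Y ⧸ phi K))).comap π :=
    ⟨_, rfl⟩
  have hZm : ∀ x, x ∈ Z ↔ x ∈ E ∧ ∀ w ∈ E, Commute (π x) (π w) := fun x => by
    rw [hZ, Subgroup.mem_inf, Subgroup.mem_comap, Subgroup.mem_centralizer_iff]
    exact and_congr_right fun _ => ⟨fun h w hw => (h _ ⟨w, hw, rfl⟩).symm,
      fun h u ⟨w, hw, hwu⟩ => hwu ▸ (h w hw).symm⟩
  have hdec : ∀ w ∈ E, ∃ k ∈ K, ∃ n : ℤ, ∃ i j : ℕ, w = z0 ^ n * r0 ^ i * v0 ^ j * k := by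
    intro w hw
    obtain ⟨g, hg, i, j, he⟩ := hS.gen (ρ w) (hmem.1 hw)
    have hGz : Subgroup.zpowers ⁅r, s⁆ = G := Subgroup.eq_of_le_of_card_ge
      (Subgroup.zpowers_le.2 hS.zG) (by
        rw [hG, Nat.card_zpowers, orderOf_eq_prime (orderOf_dvd_iff_pow_eq_one.1
          (hG ▸ Subgroup.orderOf_dvd_natCard G hS.zG)) hz])
    obtain ⟨n, rfl⟩ := Subgroup.mem_zpowers_iff.1 (hGz.ge hg)
    refine ⟨(z0 ^ n * r0 ^ i * v0 ^ j)⁻¹ * w, hρ1.1 ?_, n, i, j, by rw [mul_inv_cancel_left]⟩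
    simp only [map_mul, map_inv, map_zpow, map_pow, hz0v, hr0, hv0]
    rw [← he, inv_mul_cancel]
  have hzZ : z0 ∈ Z := (hZm _).2 ⟨hzE, fun w hw => by
    obtain ⟨k, hk, n, i, j, rfl⟩ := hdec w hw
    simp only [map_mul, map_zpow, map_pow, ← ha, ← hb, ← hd]
    exact ((((Commute.refl a).zpow_right n).mul_right (hab.pow_right i)).mul_right
      (had.pow_right j)).mul_right (hcent k hk a)⟩
  have hZi : ∀ α ∈ Γ.𝔸 E, ∀ x : E, (x : Y) ∈ Z → (α x : Y) ∈ Z := fun α hα x hx => by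
    refine (hZm _).2 ⟨(α x).2, fun w hw => ?_⟩
    obtain ⟨w', hw'⟩ := α.surjective ⟨w, hw⟩
    have h2 := phi_invariant_of (p := p) hY hKE α (hK.A E hE α hα) (e := ⁅x, w'⁆)
      (by
        refine hπ1.1 ?_
        simp only [commutatorElement_def, Subgroup.coe_mul, Subgroup.coe_inv, map_mul, map_inv]
        rw [(((hZm _).1 hx).2 _ w'.2).eq, mul_inv_cancel_right, mul_inv_cancel])
    rw [map_commutatorElement, hw'] at h2
    rw [← commutatorElement_eq_one_iff_commute, ← map_commutatorElement, hπ1]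
    simpa [commutatorElement_def] using h2
  have hEab : E ≤ Z := by
    rcases hirr Z (fun k hk => (hZm k).2 ⟨hKE hk, fun w _ => (hcent k hk (π w)).symm⟩)
      (hZ ▸ inf_le_left) hZi with h1 | h1
    · exact absurd (h1.le hzZ) hzK
    · exact h1.ge
  have hcommE : ∀ {x w}, x ∈ E → w ∈ E → Commute (π x) (π w) := fun hx hw => ((hZm _).1 (hEab hx)).2 _ hw
  obtain ⟨P, hP⟩ : ∃ P : Subgroup Y, ∀ x, x ∈ P ↔ x ∈ E ∧ π x ^ p = 1 := by
    refine ⟨{ carrier := {x | x ∈ E ∧ π x ^ p = 1}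
              one_mem' := ⟨E.one_mem, by rw [map_one, one_pow]⟩
              mul_mem' := fun {x w} hx hw => ⟨E.mul_mem hx.1 hw.1, by
                rw [map_mul, (hcommE hx.1 hw.1).mul_pow, hx.2, hw.2, one_mul]⟩
              inv_mem' := fun {x} hx => ⟨E.inv_mem hx.1, by rw [map_inv, inv_pow, hx.2, inv_one]⟩ },
      fun x => Iff.rfl⟩
  have hkp : ∀ k ∈ K, π k ^ p = 1 := fun k hk => by rw [← map_pow]; exact hπ1.2 (pow_phi hY hk)
  have hzP : z0 ∈ P := by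
    refine (hP _).2 ⟨hzE, ?_⟩
    have hbp : Commute (π s0) (b ^ p) := by
      rw [hb, ← map_pow]
      refine hcent _ (hρ1.1 ?_) _
      rw [map_pow, hr0, hS.rp]
    have h1 : (π s0 * b * (π s0)⁻¹) ^ p = b ^ p := by
      rw [conj_pow, hbp.eq, mul_inv_cancel_right]
    rw [hSb, ((hcent k2 hk2 _).mul_pow), hkp k2 hk2, mul_one, (hab.inv_left).mul_pow,
      mul_eq_right, inv_pow, inv_eq_one] at h1
    rw [← ha]
    exact h1
  have hPi : ∀ α ∈ Γ.𝔸 E, ∀ x : E, (x : Y) ∈ P → (α x : Y) ∈ P := fun α hα x hx => by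
    refine (hP _).2 ⟨(α x).2, ?_⟩
    rw [← map_pow, ← SubgroupClass.coe_pow, ← map_pow α]
    refine hπ1.2 (phi_invariant_of (p := p) hY hKE α (hK.A E hE α hα) ?_)
    rw [SubgroupClass.coe_pow]
    exact hπ1.1 (by rw [map_pow]; exact ((hP _).1 hx).2)
  have hEp : ∀ x ∈ E, x ^ p ∈ phi K := by
    rcases hirr P (fun k hk => (hP k).2 ⟨hKE hk, hkp k hk⟩) (fun x hx => ((hP x).1 hx).1) hPi
      with h1 | h1
    · exact absurd (h1.le hzP) hzK
    · exact fun x hx => hπ1.1 (by rw [map_pow]; exact ((hP x).1 (h1.ge hx)).2)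
  have h3 := relIndex_le (p := p) h.rank (N := phi K) (H := E)
    (fun g _ y hy => (inferInstance : (phi K).Normal).conj_mem y hy g)
    (fun x hx w hw => hπ1.1 (by
      rw [map_commutatorElement, commutatorElement_eq_one_iff_commute]; exact hcommE hx hw))
    hEp
  rw [← Subgroup.relIndex_mul_relIndex (phi K) K E (phi_le K) hKE,
    show K.relIndex E = p ^ 3 by
      rw [← hcE, ← Subgroup.relIndex_bot_left, ← Subgroup.map_comap_eq_self_of_surjective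
        (QuotientGroup.mk'_surjective K) Q, ← hEdef, ← Subgroup.relIndex_comap,
        MonoidHom.comap_bot, QuotientGroup.ker_mk']] at h3
  refine not_le_phi hK0 (Subgroup.relIndex_eq_one.1 (le_antisymm ?_
    (Nat.pos_of_ne_zero Subgroup.index_ne_zero_of_finite)))
  exact Nat.le_of_mul_le_mul_right (h3.trans (one_mul _).ge) (pow_pos hpp.pos 3)

end CfsgLib.RankThreeAmalgam
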