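import Cfsg.Agent.Lib.Fusion.RankThreeAmalgam.MovingBasic

/-!
Some pair of members does not share its central elements of order `p`.
-/

set_option autoImplicit false
set_option linter.style.haveILetI false
set_option linter.unusedSectionVars false

namespace CfsgLib.RankThreeAmalgam

open Cfsg CfsgLib.Fusion CfsgLib.RankThree
open scoped commutatorElement

variable {Y : Type*} [Group Y] [Finite Y] {p : ℕ} [hp : Fact p.Prime]

/-- Commutators with a fixed element, whose values commute with the first entry. -/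
theorem comm_pow_left {u g : Y} (h : Commute u ⁅u, g⁆) (k : ℕ) : ⁅u ^ k, g⁆ = ⁅u, g⁆ ^ k := by
  induction k with
  | zero => simp
  | succ k ih => rw [pow_succ, comm_mul_left (h.pow_left k).eq
      (by rw [ih]; exact Commute.pow_self _ k), ih, pow_succ]

/-- A nontrivial normal subgroup of a quotient meets its centre. -/
theorem exists_central_mod (hY : IsPGroup p Y) {M K : Subgroup Y} [M.Normal] [K.Normal]
    (hnle : ¬ K ≤ M) : ∃ q ∈ K ⊔ M, q ∉ M ∧ q ^ p ∈ M ∧ ∀ g : Y, ⁅q, g⁆ ∈ M := by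
  obtain ⟨π, hπ⟩ : ∃ π : Y →* Y ⧸ M, π = QuotientGroup.mk' M := ⟨_, rfl⟩
  haveI : (K.map π).Normal :=
    Subgroup.Normal.map inferInstance _ (hπ ▸ QuotientGroup.mk'_surjective M)
  haveI := (hY.to_quotient M).isNilpotent
  have hne : K.map π ≠ ⊥ := by
    intro he
    refine hnle fun w hw => ?_
    rw [← QuotientGroup.eq_one_iff (N := M), ← QuotientGroup.mk'_apply, ← hπ]
    exact Subgroup.mem_bot.1 (he ▸ Subgroup.mem_map_of_mem π hw)
  obtain ⟨w, hw, hw1, hwp, -⟩ := exists_central (Y := Y ⧸ M) (hY.to_quotient M)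
    (CfsgLib.Critical.inf_center_ne_bot (K.map π) hne)
  obtain ⟨⟨q, hq, rfl⟩, hcen⟩ := Subgroup.mem_inf.1 hw
  refine ⟨q, Subgroup.mem_sup_left hq, fun hh => hw1 ?_, ?_, fun g => ?_⟩
  · rw [hπ]; exact (QuotientGroup.eq_one_iff q).2 hh
  · rw [← QuotientGroup.eq_one_iff (N := M), ← QuotientGroup.mk'_apply, map_pow, ← hπ]
    exact hwp
  · rw [comm_iff, ← hπ]
    exact (Subgroup.mem_center_iff.1 hcen (π g)).symm

namespace Sys.Good

variable {Γ : Sys Y} (h : Γ.Good p) (hdag : Dagger Γ p) (hcore : Γ.NoCore) {E E' : Subgroup Y}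

include h hdag hcore

/-- The subgroup of order `p ^ 3` lies in the other member. -/
theorem le_member (hE : E ∈ Γ.ℰ) (hE' : E' ∈ Γ.ℰ) (hm : Moving Γ p E) {W : Subgroup Y}
    (hW : Triple p E (zeta p E) W) (hWn : W.Normal)
    (hAi : ∀ α ∈ Γ.𝔸 E', ∀ e : E', (e : Y) ∈ zeta p E → (α e : Y) ∈ zeta p E) : W ≤ E' := by
  by_contra hle
  obtain ⟨w, hw, hwE'⟩ := SetLike.not_le_iff_exists.1 hle
  haveI := h.normal hE
  haveI hnE' := h.normal hE'
  haveI := h.phi_normal hE'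
  haveI := h.zeta_normal hE
  have hne' : ¬ E' ≤ E := fun hh => by
    have h1 := E.index_mul_card
    have h2 := E'.index_mul_card
    rw [h.idx E hE] at h1
    rw [h.idx E' hE', ← h1] at h2
    exact hwE' ((Subgroup.eq_of_le_of_card_ge hh
      (Nat.eq_of_mul_eq_mul_left hp.out.pos h2).ge).ge (hW.leH hw))
  obtain ⟨D, hD⟩ : ∃ D, D = E ⊓ E' := ⟨_, rfl⟩
  have hDn : D.Normal := hD ▸ inferInstance
  have hΦD : phi E' ≤ D := phi_le_of_index h.pY (hD ▸ inf_le_right)
    (fun g _ v hv => hDn.conj_mem v hv g) (hD ▸ inf_relIndex (h.normal hE) (h.idx E hE) hne')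
  obtain ⟨C1, hC1⟩ : ∃ C1, C1 = zeta p E ⊔ phi E' := ⟨_, rfl⟩
  have hC1D : C1 ≤ D := hC1 ▸ sup_le (hD ▸ le_inf (zeta_le p E) (hdag E hE E' hE')) hΦD
  have hWA : ∀ v ∈ W, v ∈ E' → v ∈ zeta p E := by
    intro v hv hv'
    by_contra hvA
    have hb := h.base hdag hcore hE hm
    have := eq_sup_of_card h.pY hW.le hb.card hW.card hv hvA
    exact hwE' ((this ▸ sup_le (hdag E hE E' hE') (Subgroup.zpowers_le.2 hv') : W ≤ E') hw)
  have hcomm : ∀ v ∈ E', v⁻¹ * (w * v * w⁻¹) ∈ zeta p E := fun v hv => by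
    refine hWA _ ?_ (E'.mul_mem (E'.inv_mem hv) (hnE'.conj_mem v hv w))
    rw [show v⁻¹ * (w * v * w⁻¹) = (v⁻¹ * w * v⁻¹⁻¹) * w⁻¹ by group]
    exact W.mul_mem (hWn.conj_mem w hw v⁻¹) (W.inv_mem hw)
  have hC1C2 : phi E' ≤ C1 := hC1 ▸ le_sup_right
  refine h.flag hE' hC1C2 hC1D (hD ▸ inf_le_right) (fun α hα e he => ?_) (fun α hα e he => ?_) hwE'
    (fun v hv => ?_) (fun v hv => hC1 ▸ Subgroup.mem_sup_left
      (hcomm v ((hD ▸ hv : v ∈ E ⊓ E').2)))
    fun v hv => hC1D (hC1 ▸ Subgroup.mem_sup_left (hcomm v hv))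
  · rw [hC1] at he ⊢
    have h1 : zeta p E ⊔ phi E' ≤ ((((zeta p E ⊔ phi E').subgroupOf E').comap α.toMonoidHom)).map
        E'.subtype := sup_le
      (fun v hv => ⟨⟨v, hdag E hE E' hE' hv⟩, Subgroup.mem_sup_left (hAi α hα _ hv), rfl⟩)
      (fun v hv => ⟨⟨v, phi_le E' hv⟩, Subgroup.mem_sup_right (phi_invariant α hv), rfl⟩)
    obtain ⟨e', he', hee⟩ := h1 he
    exact (Subtype.ext hee : e' = e) ▸ he'
  · rw [hD] at he ⊢
    refine Subgroup.mem_inf.2 ⟨h.mem_of_comm hE hm fun a ha => ?_, (α e).2⟩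
    obtain ⟨f, hf⟩ := α.surjective ⟨a, hdag E hE E' hE' ha⟩
    have hfA : (f : Y) ∈ zeta p E := by
      have h1 := hAi α⁻¹ ((Γ.𝔸 E').inv_mem hα) (α f) (by rw [hf]; exact ha)
      rwa [MulAut.inv_apply_self] at h1
    have h2 : e * f = f * e := Subtype.ext (hfA.2.2 e (Subgroup.mem_inf.1 he).1).symm
    have h3 := congrArg (fun v => ((α v : E') : Y)) h2
    simpa [hf] using h3
  · rw [conj_step_iff]
    have hle' : C1 ≤ (Subgroup.centralizer {QuotientGroup.mk' (phi E') w}).comap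
        (QuotientGroup.mk' (phi E')) := by
      rw [hC1]
      refine sup_le (fun u hu => ?_) fun u hu => ?_
      · refine Subgroup.mem_centralizer_singleton_iff.2 ?_
        rw [← map_mul, ← map_mul, hu.2.2 w (hW.leH hw)]
      · refine Subgroup.mem_centralizer_singleton_iff.2 ?_
        rw [show QuotientGroup.mk' (phi E') u = 1 from (QuotientGroup.eq_one_iff u).2 hu,
          one_mul, mul_one]
    exact (Subgroup.mem_centralizer_singleton_iff.1 (hle' hv)).symm

/-- The subgroup of order `p ^ 3` is invariant under the other member's automizer. -/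
theorem member_invariant (hE : E ∈ Γ.ℰ) (hE' : E' ∈ Γ.ℰ) (hne : E' ≠ E) (hm : Moving Γ p E)
    {W : Subgroup Y} (hW : Triple p E (zeta p E) W) (hWn : W.Normal) (hWE' : W ≤ E')
    (hAi : ∀ α ∈ Γ.𝔸 E', ∀ e : E', (e : Y) ∈ zeta p E → (α e : Y) ∈ zeta p E) {α : MulAut E'}
    (hα : α ∈ Γ.𝔸 E') : img α W ≤ W := by
  by_contra hle
  have hpp := hp.out
  haveI hnE := h.normal hE
  haveI hnE' := h.normal hE'
  haveI := h.zeta_normal hE
  haveI := hWn
  obtain ⟨hcA, hcZ⟩ := h.zeta_cards hdag hcore hE hm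
  obtain ⟨A, hA⟩ : ∃ A, A = zeta p E := ⟨_, rfl⟩
  haveI hAn : A.Normal := hA ▸ h.zeta_normal hE
  have hnle : ¬ E ≤ E' := fun hh => hne (Subgroup.eq_of_le_of_card_ge hh (by
    have h1 := E.index_mul_card
    have h2 := E'.index_mul_card
    rw [h.idx E hE] at h1
    rw [h.idx E' hE', ← h1] at h2
    exact (Nat.eq_of_mul_eq_mul_left hpp.pos h2).le)).symm
  have hnle' : ¬ E' ≤ E := fun hh => hne (Subgroup.eq_of_le_of_card_ge hh (by
    have h1 := E.index_mul_card
    have h2 := E'.index_mul_card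
    rw [h.idx E hE] at h1
    rw [h.idx E' hE', ← h1] at h2
    exact (Nat.eq_of_mul_eq_mul_left hpp.pos h2).ge))
  obtain ⟨D, hD⟩ : ∃ D, D = E ⊓ E' := ⟨_, rfl⟩
  have hmemD : ∀ v, v ∈ D ↔ v ∈ E ∧ v ∈ E' := fun v => by rw [hD, Subgroup.mem_inf]
  haveI hDn : D.Normal := hD ▸ inferInstance
  have hDi : ∀ β ∈ Γ.𝔸 E', ∀ e : E', (e : Y) ∈ D → (β e : Y) ∈ D := by
    intro β hβ e he
    refine (hmemD _).2 ⟨h.mem_of_comm hE hm fun a ha => ?_, (β e).2⟩
    obtain ⟨f, hf⟩ := β.surjective ⟨a, hdag E hE E' hE' ha⟩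
    have hfA : (f : Y) ∈ zeta p E := by
      have h1 := hAi β⁻¹ ((Γ.𝔸 E').inv_mem hβ) (β f) (by rw [hf]; exact ha)
      rwa [MulAut.inv_apply_self] at h1
    have h2 : e * f = f * e := Subtype.ext (hfA.2.2 e ((hmemD _).1 he).1).symm
    have h3 := congrArg (fun v => ((β v : E') : Y)) h2
    simpa [hf] using h3
  have hb : Base p D A := ⟨h.pY, h.podd, h.rank, hA ▸ zeta_elem p E, hA ▸ hcA,
    fun v hv a ha => (hA ▸ ha : a ∈ zeta p E).2.2 v ((hmemD v).1 hv).1⟩
  have hT : ∀ β ∈ Γ.𝔸 E', Triple p D A (img β W) := by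
    intro β hβ
    refine ⟨hW.elem.img β, fun v hv => ?_, fun v hv => ?_, (card_img β hWE').trans hW.card,
      fun g hg v hv => ?_⟩
    · rw [hA] at hv
      exact img_mono β hW.le (le_img_of_invariant β (hdag E hE E' hE') (hAi β hβ) hv)
    · obtain ⟨e, he, rfl⟩ := exists_of_mem_img hv
      exact hDi β hβ e ((hmemD _).2 ⟨hW.leH he, e.2⟩)
    · obtain ⟨e, he, rfl⟩ := exists_of_mem_img hv
      obtain ⟨f, hf⟩ := β.surjective ⟨g, ((hmemD g).1 hg).2⟩
      have hg' : g = (β f : Y) := by rw [hf]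
      rw [hg', ← Subgroup.coe_inv, ← Subgroup.coe_mul, ← Subgroup.coe_mul, ← map_inv, ← map_mul,
        ← map_mul, mem_img]
      simpa using hWn.conj_mem e he f
  have hT1 : Triple p D A W := ⟨hW.elem, hA ▸ hW.le,
    fun v hv => (hmemD v).2 ⟨hW.leH hv, hWE' hv⟩, hW.card, fun g _ v hv => hWn.conj_mem v hv g⟩
  obtain ⟨W', hW'⟩ : ∃ W', W' = img α W := ⟨_, rfl⟩
  have hT2 : Triple p D A W' := hW' ▸ hT α hα
  have hneW : W ≠ W' := fun e => hle (hW' ▸ e.ge)
  obtain ⟨n, hn, hnA⟩ := hT1.exists_notMem hb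
  obtain ⟨n', hn', hn'A⟩ := hT2.exists_notMem hb
  obtain ⟨M, hM⟩ : ∃ M, M = W ⊔ W' := ⟨_, rfl⟩
  have hME' : M ≤ E' := hM ▸ sup_le hWE' (hW' ▸ img_le α W)
  have hMD : M ≤ D := hM ▸ sup_le hT1.leH hT2.leH
  have hAM : A ≤ M := hM ▸ hT1.le.trans le_sup_left
  have hnM : n ∈ M := hM ▸ Subgroup.mem_sup_left hn
  have hn'M : n' ∈ M := hM ▸ Subgroup.mem_sup_right hn'
  have hMi : ∀ β ∈ Γ.𝔸 E', ∀ e : E', (e : Y) ∈ M → (β e : Y) ∈ M := by
    intro β hβ e he
    have h1 : M ≤ (((M.subgroupOf E').comap β.toMonoidHom)).map E'.subtype := by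
      conv_lhs => rw [hM]
      refine sup_le (fun v hv => ⟨⟨v, hWE' hv⟩, ?_, rfl⟩) fun v hv => ?_
      · exact hM ▸ Triple.third hb hT1 hT2 (hT β hβ) hneW (mem_img.2 hv)
      · obtain ⟨f, hf, rfl⟩ := exists_of_mem_img (hW' ▸ hv)
        exact ⟨α f, hM ▸ Triple.third hb hT1 hT2 (hT (β * α) ((Γ.𝔸 E').mul_mem hβ hα)) hneW
          (show ((β * α) f : Y) ∈ img (β * α) W from mem_img.2 hf), rfl⟩
    obtain ⟨e', he', hee⟩ := h1 he
    exact (Subtype.ext hee : e' = e) ▸ he'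
  haveI hMn : M.Normal := h.normal_of_invariant hE' hME' hMi
  have hW'n : ∀ g ∈ E', ∀ v ∈ W', g * v * g⁻¹ ∈ W' := by
    intro g hg v hv
    rw [hW'] at hv ⊢
    obtain ⟨e, he, rfl⟩ := exists_of_mem_img hv
    obtain ⟨f, hf⟩ := α.surjective ⟨g, hg⟩
    have hg' : g = (α f : Y) := by rw [hf]
    rw [hg', ← Subgroup.coe_inv, ← Subgroup.coe_mul, ← Subgroup.coe_mul, ← map_inv, ← map_mul,
      ← map_mul, mem_img]
    simpa using hWn.conj_mem e he f
  -- steps
  have hstepW : ∀ v ∈ W, ∀ g : Y, ⁅v, g⁆ ∈ A := by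
    refine comm_mem_of_step h.pY (hA ▸ hW.le) ?_
    have h1 := (A.subgroupOf W).index_mul_card
    rw [Nat.card_congr (Subgroup.subgroupOfEquivOfLe (hA ▸ hW.le)).toEquiv, hb.card, hW.card,
      pow_succ' p 2] at h1
    exact Nat.eq_of_mul_eq_mul_right (pow_pos hpp.pos 2) h1
  have hstepW' : ∀ v ∈ W', ∀ g ∈ E', ⁅v, g⁆ ∈ A := by
    intro v hv g hg
    have hW'E' : W' ≤ E' := hW' ▸ img_le α W
    haveI : (W'.subgroupOf E').Normal := ⟨fun u hu f => hW'n f f.2 u hu⟩
    have h1 := comm_mem_of_step (h.pY.to_subgroup E') (A := A.subgroupOf E')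
      (B := W'.subgroupOf E') (fun u hu => hT2.le hu) (by
        rw [Subgroup.relIndex_subgroupOf hW'E']
        have h1 := (A.subgroupOf W').index_mul_card
        rw [Nat.card_congr (Subgroup.subgroupOfEquivOfLe hT2.le).toEquiv, hb.card, hT2.card,
          pow_succ' p 2] at h1
        exact Nat.eq_of_mul_eq_mul_right (pow_pos hpp.pos 2) h1) ⟨v, hW'E' hv⟩ hv ⟨g, hg⟩
    simpa [Subgroup.mem_subgroupOf, commutatorElement_def] using h1
  have hnD := hT1.leH hn
  have hn'D := hT2.leH hn'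
  -- the commutator
  obtain ⟨z, hz⟩ : ∃ z, z = ⁅n, n'⁆ := ⟨_, rfl⟩
  have hzA : z ∈ A := hz ▸ Triple.comm_mem hb hT1 hT2 hn hn'
  have hz1 : z ≠ 1 := hz ▸ Triple.comm_ne hb hT1 hT2 hneW hn hnA hn' hn'A
  have hzE' : z ∈ E' := hdag E hE E' hE' (hA ▸ hzA)
  -- conjugation by an element of the member fixes the commutator
  obtain ⟨y, hy, hyE⟩ := SetLike.not_le_iff_exists.1 hnle'
  have hyz : y * z = z * y := by
    obtain ⟨w1, hw1, e1⟩ : ∃ w1 ∈ A, y * n * y⁻¹ = n * w1 := by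
      refine ⟨⁅n⁻¹, y⁆, hstepW _ (W.inv_mem hn) y, ?_⟩
      rw [commutatorElement_def]; group
    obtain ⟨w2, hw2, e2⟩ : ∃ w2 ∈ A, y * n' * y⁻¹ = n' * w2 := by
      refine ⟨⁅n'⁻¹, y⁆, hstepW' _ (W'.inv_mem hn') y hy, ?_⟩
      rw [commutatorElement_def]; group
    have hA1 : ∀ v ∈ D, Commute w1 v := fun v hv => hb.cen v hv w1 hw1
    have hA2 : ∀ v ∈ D, Commute w2 v := fun v hv => hb.cen v hv w2 hw2
    have h3 : y * z * y⁻¹ = z := by
      rw [hz]
      calc y * ⁅n, n'⁆ * y⁻¹ = ⁅y * n * y⁻¹, y * n' * y⁻¹⁆ := by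
            simp only [commutatorElement_def]; group
        _ = ⁅n * w1, n' * w2⁆ := by rw [e1, e2]
        _ = ⁅n, n'⁆ := by
          have hw1D : w1 ∈ D := hMD (hAM hw1)
          have hw2D : w2 ∈ D := hMD (hAM hw2)
          have k1 : ⁅w1, n' * w2⁆ = 1 := commutatorElement_eq_one_iff_commute.2
            (hA1 _ (D.mul_mem hn'D hw2D))
          have k2 : ⁅n, w2⁆ = 1 := commutatorElement_eq_one_iff_commute.2 (hA2 _ hnD).symm
          rw [comm_mul_left (by rw [k1, mul_one, one_mul]) (k1 ▸ Commute.one_right _), k1, mul_one,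
            comm_mul_right (by rw [k2, mul_one, one_mul]), k2, mul_one]
    exact mul_inv_eq_iff_eq_mul.1 h3
  have hzZ : z ∈ zeta p (⊤ : Subgroup Y) := by
    refine mem_zeta_top.2 ⟨hb.elem.2 z hzA, fun g => ?_⟩
    exact (Subgroup.mem_centralizer_singleton_iff.1 (top_of_gen (h.idx E hE)
      (K := Subgroup.centralizer {z}) (fun v hv => Subgroup.mem_centralizer_singleton_iff.2
        ((hA ▸ hzA : z ∈ zeta p E).2.2 v hv).symm)
      (Subgroup.mem_centralizer_singleton_iff.2 hyz) hyE g)).symm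
  obtain ⟨Z, hZ⟩ : ∃ Z, Z = zeta p (⊤ : Subgroup Y) := ⟨_, rfl⟩
  haveI hZn : Z.Normal := ⟨fun u hu g => by
    rw [← (mem_zeta_top.1 (hZ ▸ hu)).2 g, mul_inv_cancel_right]; exact hu⟩
  have hZcen : ∀ u ∈ Z, ∀ g : Y, Commute u g := fun u hu g => (mem_zeta_top.1 (hZ ▸ hu)).2 g
  have hZp : ∀ u ∈ Z, u ^ p = 1 := fun u hu => (mem_zeta_top.1 (hZ ▸ hu)).1
  have hzZ' : z ∈ Z := hZ ▸ hzZ
  have hcardZ : Nat.card Z = p := hZ ▸ hcZ
  have hZA : Z ≤ A := hZ ▸ hA ▸ h.top_le_zeta hE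
  obtain ⟨π, hπ⟩ : ∃ π : Y →* Y ⧸ Z, π = QuotientGroup.mk' Z := ⟨_, rfl⟩
  have hπ1 : ∀ v, π v = 1 ↔ v ∈ Z := fun v => hπ ▸ QuotientGroup.eq_one_iff v
  have hAstep : ∀ a ∈ A, ∀ g : Y, ⁅a, g⁆ ∈ Z := by
    refine comm_mem_of_step h.pY hZA ?_
    have h1 := (Z.subgroupOf A).index_mul_card
    rw [Nat.card_congr (Subgroup.subgroupOfEquivOfLe hZA).toEquiv, hb.card, hcardZ, pow_two] at h1
    exact Nat.eq_of_mul_eq_mul_right hpp.pos h1
  have hπA : ∀ a ∈ A, ∀ g, Commute (π a) g := fun a ha g => by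
    obtain ⟨g, rfl⟩ := (hπ ▸ QuotientGroup.mk'_surjective Z : Function.Surjective π) g
    exact hπ ▸ comm_iff.1 (hAstep a ha g)
  -- generators of `M`
  obtain ⟨S, hS⟩ : ∃ S : Set Y, S = (A : Set Y) ∪ {n, n'} := ⟨_, rfl⟩
  have hnS : n ∈ S := hS ▸ Or.inr (Or.inl rfl)
  have hn'S : n' ∈ S := hS ▸ Or.inr (Or.inr rfl)
  have hMS : M ≤ Subgroup.closure S := by
    have hAS : A ≤ Subgroup.closure S := fun v hv => Subgroup.subset_closure (hS ▸ Or.inl hv)
    rw [hM, eq_sup_of_card h.pY hT1.le hb.card hT1.card hn hnA,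
      eq_sup_of_card h.pY hT2.le hb.card hT2.card hn' hn'A]
    exact sup_le (sup_le hAS (Subgroup.zpowers_le.2 (Subgroup.subset_closure hnS)))
      (sup_le hAS (Subgroup.zpowers_le.2 (Subgroup.subset_closure hn'S)))
  have hSc : ∀ u ∈ S, ∀ v ∈ S, ⁅u, v⁆ ∈ Z := by
    rw [hS]
    intro u hu v hv
    rcases hu with hu | hu | hu
    · exact hAstep u hu v
    · rcases hv with hv | hv | hv
      · rw [← commutatorElement_inv]; exact Z.inv_mem (hAstep v hv u)
      · rw [hu, hv, commutatorElement_self]; exact Z.one_mem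
      · rw [hu, hv, ← hz]; exact hzZ'
    · rcases hv with hv | hv | hv
      · rw [← commutatorElement_inv]; exact Z.inv_mem (hAstep v hv u)
      · rw [hu, hv, ← commutatorElement_inv, ← hz]; exact Z.inv_mem hzZ'
      · rw [hu, hv, commutatorElement_self]; exact Z.one_mem
  have hSp : ∀ u ∈ S, u ^ p ∈ Z := by
    rw [hS]
    rintro u (hu | rfl | rfl)
    · rw [hb.elem.2 u hu]; exact Z.one_mem
    · rw [hT1.elem.2 _ hn]; exact Z.one_mem
    · rw [hT2.elem.2 _ hn']; exact Z.one_mem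
  have hMcard : p ^ 4 ≤ Nat.card M := by
    have h1 := card_mul_le (p := p) h.pY (hM ▸ le_sup_left : W ≤ M) hn'M
      (fun hh => hn'A (Triple.inf hb hT1 hT2 hneW hh hn'))
    rw [hW.card, ← pow_succ'] at h1
    exact h1
  -- an element centralising the generators modulo `Z` cannot lie outside with its power in `Z`
  have hno : ∀ q : Y, q ∉ M → q ^ p ∈ Z → ⁅n, q⁆ ∈ Z → ⁅n', q⁆ ∈ Z → False := by
    intro q hq hqp k1 k2
    refine five h.pY h.rank hcardZ (s := insert q S) ?_ ?_ ?_ ?_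
    · exact hZA.trans (fun v hv => Subgroup.subset_closure
        (Set.mem_insert_of_mem q (hS ▸ Or.inl hv)))
    · have hqS : ∀ v ∈ S, ⁅v, q⁆ ∈ Z := by
        rw [hS]
        rintro v (hv | rfl | rfl)
        exacts [hAstep v hv q, k1, k2]
      rintro u (rfl | hu) v (rfl | hv)
      · rw [commutatorElement_self]; exact Z.one_mem
      · rw [← commutatorElement_inv]; exact Z.inv_mem (hqS v hv)
      · exact hqS u hu
      · exact hSc u hu v hv
    · rintro u (rfl | hu)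
      exacts [hqp, hSp u hu]
    · have h1 := card_mul_le (p := p) h.pY
        (hMS.trans (Subgroup.closure_mono (Set.subset_insert q S)))
        (Subgroup.subset_closure (Set.mem_insert q S)) hq
      calc p ^ 5 = p * p ^ 4 := by ring
        _ ≤ p * Nat.card M := Nat.mul_le_mul_left _ hMcard
        _ ≤ _ := h1
  have hcpow : ∀ m ∈ M, ∀ g, ⁅m, g⁆ ∈ Z → ⁅m, g ^ p⁆ = 1 := by
    intro m _ g hg
    have h1 := comm_pow_left (u := g) (g := m) (by
      rw [← commutatorElement_inv m g]; exact ((hZcen _ hg g).inv_left).symm) p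
    rw [← commutatorElement_inv m g, inv_pow, hZp _ hg, inv_one, ← commutatorElement_inv m] at h1
    rwa [inv_eq_one] at h1
  have hMcen : ∀ m ∈ M, ⁅n, m⁆ = 1 → ⁅n', m⁆ = 1 → m ∈ A := by
    intro m hm2 k1 k2
    by_contra hmA
    have hWm : m ∈ W := by
      by_contra hmW
      have htop : M ≤ W ⊔ Subgroup.zpowers m := by
        refine (Subgroup.eq_of_le_of_card_ge (sup_le (hM ▸ le_sup_left)
          (Subgroup.zpowers_le.2 hm2)) ?_).ge
        have h1 := card_mul_le (p := p) h.pY (le_sup_left : W ≤ W ⊔ Subgroup.zpowers m)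
          (Subgroup.mem_sup_right (Subgroup.mem_zpowers m)) hmW
        rw [hW.card, ← pow_succ'] at h1
        refine le_trans ?_ h1
        obtain ⟨i, hi⟩ := (h.pY.to_subgroup M).exists_card_eq
        rw [hi]
        refine Nat.pow_le_pow_right hpp.pos ?_
        by_contra hlt
        refine five h.pY h.rank hcardZ (s := S) (hZA.trans fun v hv =>
          Subgroup.subset_closure (hS ▸ Or.inl hv)) hSc hSp ?_
        calc p ^ 5 ≤ p ^ i := Nat.pow_le_pow_right hpp.pos (by omega)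
          _ = _ := hi.symm
          _ ≤ _ := Subgroup.card_le_of_le hMS
      refine hz1 (hz ▸ commutatorElement_eq_one_iff_mul_comm.2 ?_)
      have hle2 : W ⊔ Subgroup.zpowers m ≤ Subgroup.centralizer {n} := sup_le
        (fun v hv => Subgroup.mem_centralizer_singleton_iff.2 (hW.elem.1 v hv n hn))
        (Subgroup.zpowers_le.2 (Subgroup.mem_centralizer_singleton_iff.2
          (commutatorElement_eq_one_iff_mul_comm.1 k1).symm))
      exact (Subgroup.mem_centralizer_singleton_iff.1 (hle2 (htop hn'M))).symm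
    refine hz1 (hz ▸ commutatorElement_eq_one_iff_mul_comm.2 ?_)
    have hle2 : A ⊔ Subgroup.zpowers m ≤ Subgroup.centralizer {n'} := sup_le
      (fun v hv => Subgroup.mem_centralizer_singleton_iff.2 (hb.cen n' hn'D v hv))
      (Subgroup.zpowers_le.2 (Subgroup.mem_centralizer_singleton_iff.2
        (commutatorElement_eq_one_iff_mul_comm.1 k2).symm))
    refine Subgroup.mem_centralizer_singleton_iff.1 (hle2 ?_)
    rw [← eq_sup_of_card h.pY hT1.le hb.card hT1.card hWm hmA]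
    exact hn
  -- centralisers of `M` modulo `Z` in `D` lie in `M`
  have hKM : ∀ v ∈ D, ⁅n, v⁆ ∈ Z → ⁅n', v⁆ ∈ Z → v ∈ M := by
    intro v hv k1 k2
    obtain ⟨K, hK⟩ : ∃ K : Subgroup Y, K = D ⊓ (Subgroup.centralizer
        ((M.map π : Subgroup (Y ⧸ Z)) : Set (Y ⧸ Z))).comap π := ⟨_, rfl⟩
    haveI : K.Normal := by
      haveI : (M.map π).Normal :=
        Subgroup.Normal.map inferInstance _ (hπ ▸ QuotientGroup.mk'_surjective Z)
      rw [hK]; infer_instance
    have hmemK : ∀ u, u ∈ D → ⁅n, u⁆ ∈ Z → ⁅n', u⁆ ∈ Z → u ∈ K := by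
      intro u hu l1 l2
      rw [hK]
      refine Subgroup.mem_inf.2 ⟨hu, Subgroup.mem_centralizer_iff.2 ?_⟩
      rintro _ ⟨m, hm2, rfl⟩
      have hle2 : Subgroup.closure S ≤ (Subgroup.centralizer {π u}).comap π := by
        refine (Subgroup.closure_le _).2 ?_
        rw [hS]
        rintro r (hr | rfl | rfl)
        · exact Subgroup.mem_centralizer_singleton_iff.2 (hπA r hr _).eq
        · exact Subgroup.mem_centralizer_singleton_iff.2 (hπ ▸ comm_iff.1 l1).eq
        · exact Subgroup.mem_centralizer_singleton_iff.2 (hπ ▸ comm_iff.1 l2).eq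
      exact Subgroup.mem_centralizer_singleton_iff.1 (hle2 (hMS hm2))
    by_contra hvM
    obtain ⟨q, hqKM, hqM, hqp, hqc⟩ := exists_central_mod h.pY
      (K := K) (M := M) fun hle2 => hvM (hle2 (hmemK v hv k1 k2))
    have hMK : M ≤ K := by
      intro m hm2
      refine hmemK m (hMD hm2) ?_ ?_
      · exact comm_iff.2 (Subgroup.mem_centralizer_singleton_iff.1
          (((Subgroup.closure_le _).2 fun r hr => Subgroup.mem_centralizer_singleton_iff.2
            (comm_iff.1 (hSc r hr n hnS)).eq : Subgroup.closure S ≤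
            (Subgroup.centralizer {QuotientGroup.mk' Z n}).comap (QuotientGroup.mk' Z)) (hMS hm2))).symm
      · exact comm_iff.2 (Subgroup.mem_centralizer_singleton_iff.1
          (((Subgroup.closure_le _).2 fun r hr => Subgroup.mem_centralizer_singleton_iff.2
            (comm_iff.1 (hSc r hr n' hn'S)).eq : Subgroup.closure S ≤
            (Subgroup.centralizer {QuotientGroup.mk' Z n'}).comap (QuotientGroup.mk' Z)) (hMS hm2))).symm
    rw [sup_eq_left.2 hMK, hK] at hqKM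
    obtain ⟨hqD, hqC⟩ := Subgroup.mem_inf.1 hqKM
    have hqcomm : ∀ m ∈ M, ⁅m, q⁆ ∈ Z := fun m hm2 => by
      refine comm_iff.2 ?_
      exact hπ ▸ (Subgroup.mem_centralizer_iff.1 hqC (π m) ⟨m, hm2, rfl⟩)
    have hqA : q ^ p ∈ A := hMcen _ hqp (hcpow n hnM q (hqcomm n hnM))
      (hcpow n' hn'M q (hqcomm n' hn'M))
    have hqZ : q ^ p ∉ Z := fun hh => hno q hqM hh (hqcomm n hnM) (hqcomm n' hn'M)
    -- conjugation fixes the power
    obtain ⟨m, hm2, hm3⟩ : ∃ m ∈ M, y * q * y⁻¹ = q * m := by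
      refine ⟨⁅q⁻¹, y⁆, ?_, by rw [commutatorElement_def]; group⟩
      rw [show ⁅q⁻¹, y⁆ = q⁻¹ * ⁅q, y⁆⁻¹ * q⁻¹⁻¹ by simp only [commutatorElement_def]; group]
      exact hMn.conj_mem _ (M.inv_mem (hqc y)) _
    have hMp : m ^ p = 1 := by
      have hm4 := hm2
      rw [hM, ← SetLike.mem_coe, Subgroup.normal_mul] at hm4
      obtain ⟨w1, hw1, w2, hw2, rfl⟩ := hm4
      have hd : ⁅w1⁻¹, w2⁆ ∈ Z := by
        refine comm_iff.2 ?_
        have hc1 : Elem p (Subgroup.closure (QuotientGroup.mk' Z '' S)) := elem_closure (by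
            rintro _ ⟨u, hu, rfl⟩ _ ⟨u', hu', rfl⟩
            exact (comm_iff.1 (hSc u hu u' hu')).eq) (by
            rintro _ ⟨u, hu, rfl⟩
            rw [← map_pow, QuotientGroup.mk'_apply, QuotientGroup.eq_one_iff]
            exact hSp u hu)
        rw [← MonoidHom.map_closure] at hc1
        exact hc1.1 _ ⟨w1⁻¹, hMS (hM ▸ Subgroup.mem_sup_left (W.inv_mem hw1)), rfl⟩ _
          ⟨w2, hMS (hM ▸ Subgroup.mem_sup_right hw2), rfl⟩
      show (w1 * w2) ^ p = 1
      rw [mul_pow_two (d := ⁅w1⁻¹, w2⁆) (by simp only [commutatorElement_def]; group)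
        (hZcen _ hd w2).symm.eq (hZcen _ hd w1).eq (hZp _ hd) h.podd, hW.elem.2 _ hw1,
        hT2.elem.2 _ hw2, one_mul]
    have hd : ⁅q⁻¹, m⁆ ∈ Z := by
      rw [show ⁅q⁻¹, m⁆ = q⁻¹ * ⁅m, q⁆ * q⁻¹⁻¹ by simp only [commutatorElement_def]; group]
      exact hZn.conj_mem _ (hqcomm m hm2) _
    have hfix : y * q ^ p * y⁻¹ = q ^ p := by
      rw [← conj_pow, hm3, mul_pow_two (d := ⁅q⁻¹, m⁆) (by simp only [commutatorElement_def]; group)
        (hZcen _ hd m).symm.eq (hZcen _ hd q).eq (hZp _ hd) h.podd, hMp, mul_one]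
    have hAgen : A = Z ⊔ Subgroup.zpowers (q ^ p) := by
      refine (Subgroup.eq_of_le_of_card_ge (sup_le hZA (Subgroup.zpowers_le.2 hqA)) ?_).symm
      have h1 := card_mul_le (p := p) h.pY (le_sup_left : Z ≤ Z ⊔ Subgroup.zpowers (q ^ p))
        (Subgroup.mem_sup_right (Subgroup.mem_zpowers _)) hqZ
      rw [hcardZ, ← pow_two] at h1
      rw [hb.card]
      exact h1
    refine hyE (h.mem_of_comm hE hm fun a ha => ?_)
    have hle2 : A ≤ Subgroup.centralizer {y} := hAgen ▸ sup_le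
      (fun u hu => Subgroup.mem_centralizer_singleton_iff.2 (hZcen u hu y).eq)
      (Subgroup.zpowers_le.2 (Subgroup.mem_centralizer_singleton_iff.2
        (mul_inv_eq_iff_eq_mul.1 hfix).symm))
    exact (Subgroup.mem_centralizer_singleton_iff.1 (hle2 (hA ▸ ha))).symm
  -- an element of the member outside `E` centralising `M` modulo `Z`
  obtain ⟨y2, hy2, hy2E, f1, f2⟩ : ∃ g ∈ E', g ∉ E ∧ ⁅n, g⁆ ∈ Z ∧ ⁅n', g⁆ ∈ Z := by
    obtain ⟨x, hx, hxE'⟩ := SetLike.not_le_iff_exists.1 hnle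
    have hxn' : ∃ (a1 : Y) (k : ℕ), a1 ∈ A ∧ ¬ p ∣ k ∧ x * n' * x⁻¹ = a1 * n ^ k * n' := by
      have hWM : W.relIndex M = p := by
        have h1 := (W.subgroupOf M).index_mul_card
        rw [Nat.card_congr (Subgroup.subgroupOfEquivOfLe (hM ▸ le_sup_left : W ≤ M)).toEquiv,
          hW.card] at h1
        have h2 : Nat.card M = p * p ^ 3 := by
          refine le_antisymm ?_ (hMcard.trans' (le_of_eq (by ring)))
          have h3 : Nat.card M ≤ Nat.card (Subgroup.closure S) := Subgroup.card_le_of_le hMS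
          obtain ⟨i, hi⟩ := (h.pY.to_subgroup M).exists_card_eq
          rw [← pow_succ', hi]
          refine Nat.pow_le_pow_right hpp.pos ?_
          by_contra hlt
          refine five h.pY h.rank hcardZ (s := S) (hZA.trans fun v hv =>
            Subgroup.subset_closure (hS ▸ Or.inl hv)) hSc hSp ?_
          calc p ^ 5 ≤ p ^ i := Nat.pow_le_pow_right hpp.pos (by omega)
            _ = _ := hi.symm
            _ ≤ _ := h3
        rw [h2] at h1
        exact Nat.eq_of_mul_eq_mul_right (pow_pos hpp.pos 3) h1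
      have hw : x * n' * x⁻¹ * n'⁻¹ ∈ W := by
        have h1 := comm_mem_of_step h.pY (hM ▸ le_sup_left : W ≤ M) hWM _ (M.inv_mem hn'M) x
        rw [show x * n' * x⁻¹ * n'⁻¹ = n' * ⁅n'⁻¹, x⁆ * n'⁻¹ by
          simp only [commutatorElement_def]; group]
        exact hWn.conj_mem _ h1 _
      obtain ⟨a1, ha1, k, hk⟩ := decomp hT1.le (by
        have h1 := (A.subgroupOf W).index_mul_card
        rw [Nat.card_congr (Subgroup.subgroupOfEquivOfLe hT1.le).toEquiv, hb.card, hW.card,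
          pow_succ' p 2] at h1
        exact Nat.eq_of_mul_eq_mul_right (pow_pos hpp.pos 2) h1)
        (fun g _ v hv => hAn.conj_mem v hv g) hn hnA (hT1.elem.2 n hn) hw
      refine ⟨a1, k, ha1, fun hdvd => ?_, by rw [← hk, inv_mul_cancel_right]⟩
      obtain ⟨r, rfl⟩ := hdvd
      rw [pow_mul, hT1.elem.2 n hn, one_pow, mul_one] at hk
      -- then `x` normalises the second subgroup
      have hxW' : x * n' * x⁻¹ ∈ W' := by
        rw [show x * n' * x⁻¹ = a1 * n' by rw [← hk]; group]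
        exact W'.mul_mem (hT2.le ha1) hn'
      have hnor : ∀ g : Y, ∀ v ∈ W', g * v * g⁻¹ ∈ W' := by
        obtain ⟨N, hN⟩ : ∃ N : Subgroup Y, N = Subgroup.normalizer (W' : Set Y) := ⟨_, rfl⟩
        have hE'N : E' ≤ N := fun g hg => hN ▸ Subgroup.mem_normalizer_fintype (hW'n g hg)
        have hxN : x ∈ N := by
          rw [hN]
          refine Subgroup.mem_normalizer_fintype fun v hv => ?_
          have hle2 : W' ≤ W'.comap (MulAut.conj x).toMonoidHom := by
            conv_lhs => rw [eq_sup_of_card h.pY hT2.le hb.card hT2.card hn' hn'A]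
            refine sup_le (fun u hu => ?_) (Subgroup.zpowers_le.2 hxW')
            exact hT2.le (hAn.conj_mem u hu x)
          exact hle2 hv
        intro g v hv
        exact (Subgroup.mem_normalizer_iff.1
          (hN ▸ top_of_gen (h.idx E' hE') hE'N hxN hxE' g) v).1 hv
      have hT3 : Triple p E (zeta p E) W' := ⟨hT2.elem, hA ▸ hT2.le,
        fun v hv => ((hmemD v).1 (hT2.leH hv)).1, hT2.card, fun g _ v hv => hnor g v hv⟩
      exact hneW (h.triple_unique hdag hcore hE hm hW hT3)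
    obtain ⟨a1, k, ha1, hk, hxn⟩ := hxn'
    have hπn : ∀ g : Y, ∀ i : ℕ, π ⁅n ^ i, g⁆ = π ⁅n, g⁆ ^ i := fun g i => by
      rw [map_commutatorElement, map_pow, comm_pow_left, map_commutatorElement]
      rw [← map_commutatorElement]
      exact (hπA _ (hstepW n hn g) _).symm
    by_cases hhn : ∀ d ∈ D, ⁅n, d⁆ ∈ Z
    · -- all of `D` centralises `M` modulo `Z`
      have himgZ : ∀ β ∈ Γ.𝔸 E', ∀ e : E', (e : Y) ∈ Z → (β e : Y) ∈ Z := by
        intro β hβ e he
        have hZz : Z = Subgroup.zpowers z := (Subgroup.eq_of_le_of_card_ge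
          (Subgroup.zpowers_le.2 hzZ')
          (by rw [hcardZ, Nat.card_zpowers, orderOf_eq_prime (hZp z hzZ') hz1])).symm
        rw [hZz] at he
        obtain ⟨i, hi⟩ := Subgroup.mem_zpowers_iff.1 he
        have he' : e = ⁅(⟨n, hME' hnM⟩ : E'), ⟨n', hME' hn'M⟩⁆ ^ i := Subtype.ext (by
          rw [← hi, hz]; simp [commutatorElement_def])
        rw [he', map_zpow, map_commutatorElement, SubgroupClass.coe_zpow]
        refine Z.zpow_mem ?_ i
        have hel : Elem p (Subgroup.closure (π '' S)) := elem_closure (by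
            rintro _ ⟨u, hu, rfl⟩ _ ⟨u', hu', rfl⟩
            exact (hπ ▸ comm_iff.1 (hSc u hu u' hu') : Commute (π u) (π u')).eq) (by
            rintro _ ⟨u, hu, rfl⟩
            rw [← map_pow, hπ1]
            exact hSp u hu)
        rw [← MonoidHom.map_closure] at hel
        have h4 : ⁅(β ⟨n, hME' hnM⟩ : Y), (β ⟨n', hME' hn'M⟩ : Y)⁆ ∈ Z := by
          refine comm_iff.2 ?_
          exact hπ ▸ hel.1 _ ⟨_, hMS (hMi β hβ _ hnM), rfl⟩ _ ⟨_, hMS (hMi β hβ _ hn'M), rfl⟩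
        simpa [commutatorElement_def] using h4
      have htrans : ∀ g : E', ∀ v ∈ W', (∀ u ∈ W, ⁅u, ((α⁻¹ g : E') : Y)⁆ ∈ Z) →
          ⁅v, (g : Y)⁆ ∈ Z := by
        intro g v hv hall
        rw [hW'] at hv
        obtain ⟨e, he, rfl⟩ := exists_of_mem_img hv
        have h1 := hall e he
        have h2 := himgZ α hα ⁅e, α⁻¹ g⁆ (by simpa [commutatorElement_def] using h1)
        rw [map_commutatorElement, MulAut.apply_inv_self] at h2
        simpa [commutatorElement_def] using h2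
      have hWall : ∀ g : Y, ⁅n, g⁆ ∈ Z → ∀ u ∈ W, ⁅u, g⁆ ∈ Z := by
        intro g hg u hu
        have hle2 : W ≤ (Subgroup.centralizer {QuotientGroup.mk' Z g}).comap
            (QuotientGroup.mk' Z) := by
          rw [eq_sup_of_card h.pY hT1.le hb.card hT1.card hn hnA]
          exact sup_le (fun v hv => Subgroup.mem_centralizer_singleton_iff.2
            (comm_iff.1 (hAstep v hv g)).eq)
            (Subgroup.zpowers_le.2 (Subgroup.mem_centralizer_singleton_iff.2 (comm_iff.1 hg).eq))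
        exact comm_iff.2 (Subgroup.mem_centralizer_singleton_iff.1 (hle2 hu))
      have hDn' : ∀ d ∈ D, ⁅n', d⁆ ∈ Z := by
        intro d hd
        exact htrans ⟨d, ((hmemD d).1 hd).2⟩ n' hn' fun u hu =>
          hWall _ (hhn _ (hDi α⁻¹ ((Γ.𝔸 E').inv_mem hα) _ hd)) u hu
      have hfn : ∀ g ∈ E', ⁅n, g⁆ ∈ Z := by
        intro g hg
        obtain ⟨d, hd, hgx⟩ : ∃ d ∈ D, g * x * g⁻¹ = x * d := by
          refine ⟨x⁻¹ * (g * x * g⁻¹), (hmemD _).2 ⟨E.mul_mem (E.inv_mem hx)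
            (hnE.conj_mem x hx g), ?_⟩, by group⟩
          rw [show x⁻¹ * (g * x * g⁻¹) = (x⁻¹ * g * x⁻¹⁻¹) * g⁻¹ by group]
          exact E'.mul_mem (hnE'.conj_mem g hg x⁻¹) (E'.inv_mem hg)
        have hdn : Commute (π d) (π n') := by
          rw [hπ]; exact (comm_iff.1 (hDn' d hd)).symm
        obtain ⟨β', hβ', e2⟩ : ∃ β' ∈ A, g * n' * g⁻¹ = n' * β' := by
          refine ⟨⁅n'⁻¹, g⁆, hstepW' _ (W'.inv_mem hn') g hg, ?_⟩
          rw [commutatorElement_def]; group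
        obtain ⟨β0, hβ0, e1⟩ : ∃ β0 ∈ A, g * n * g⁻¹ = n * β0 := by
          refine ⟨⁅n⁻¹, g⁆, hstepW _ (W.inv_mem hn) g, ?_⟩
          rw [commutatorElement_def]; group
        have h1 := congrArg (fun v => π (g * v * g⁻¹)) hxn
        rw [show g * (x * n' * x⁻¹) * g⁻¹ = (g * x * g⁻¹) * (g * n' * g⁻¹) * (g * x * g⁻¹)⁻¹ by
            group, show g * (a1 * n ^ k * n') * g⁻¹ = (g * a1 * g⁻¹) * (g * n * g⁻¹) ^ k *
            (g * n' * g⁻¹) by rw [conj_pow]; group, hgx, e2, e1] at h1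
        simp only [map_mul, map_inv, map_pow] at h1
        rw [((hπA β0 hβ0 (π n)).symm).mul_pow, ← (hπA a1 ha1 (π g)).eq, mul_inv_cancel_right] at h1
        have hxπ : π x * π n' * (π x)⁻¹ = π a1 * π n ^ k * π n' := by
          rw [← map_mul, ← map_inv, ← map_mul, hxn, map_mul, map_mul, map_pow]
        rw [show π x * π d * (π n' * π β') * (π x * π d)⁻¹ =
          π x * (π d * π n' * (π d)⁻¹) * (π x)⁻¹ * (π x * (π d * π β' * (π d)⁻¹) * (π x)⁻¹) by group,
          hdn.eq, mul_inv_cancel_right, ← (hπA β' hβ' (π d)).eq, mul_inv_cancel_right,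
          ← (hπA β' hβ' (π x)).eq, mul_inv_cancel_right, hxπ] at h1
        have h2 : π β0 ^ k = 1 := by
          have h3 : π a1 * π n ^ k * π n' * π β' =
              π a1 * π n ^ k * π n' * π β' * π β0 ^ k := by
            conv_lhs => rw [h1]
            simp only [mul_assoc]
            rw [← mul_assoc (π β0 ^ k), ((hπA β0 hβ0 (π n')).pow_left k).eq, mul_assoc,
              ((hπA β0 hβ0 (π β')).pow_left k).eq]
          exact mul_left_cancel (h3.symm.trans (mul_one _).symm)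
        have h5 : π β0 = 1 := by
          have hord : orderOf (π β0) ∣ p := orderOf_dvd_of_pow_eq_one
            (by rw [← map_pow, hb.elem.2 β0 hβ0, map_one])
          rcases (Nat.dvd_prime hpp).1 hord with h6 | h6
          · exact orderOf_eq_one_iff.1 h6
          · exact absurd (h6 ▸ orderOf_dvd_of_pow_eq_one h2) hk
        refine comm_iff.2 ?_
        rw [← hπ]
        have h6 := congrArg π e1
        rw [map_mul, map_mul, map_mul, map_inv, h5, mul_one, mul_inv_eq_iff_eq_mul] at h6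
        exact h6.symm
      exact ⟨y, hy, hyE, hfn y hy, htrans ⟨y, hy⟩ n' hn' fun u hu =>
        hWall _ (hfn _ (α⁻¹ ⟨y, hy⟩).2) u hu⟩
    · push Not at hhn
      obtain ⟨d0, hd0, hd0Z⟩ := hhn
      obtain ⟨u, hu⟩ : ∃ u, u = π ⁅n, d0⁆ := ⟨_, rfl⟩
      have hu1 : u ≠ 1 := fun e => hd0Z ((hπ1 _).1 (hu ▸ e))
      have huc : ∀ g, Commute u g := hu ▸ hπA _ (hstepW n hn d0)
      have hup : u ^ p = 1 := by rw [hu, ← map_pow, hb.elem.2 _ (hstepW n hn d0), map_one]
      have hpowers : ∀ a ∈ A, ∀ v : Y ⧸ Z, v ≠ 1 → v ∈ A.map π → ∃ i : ℕ, π a = v ^ i := by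
        intro a ha v hv hvA
        have hcard2 : Nat.card (A.map π) = p := by
          have h1 : (A.map π).index = A.index :=
            Subgroup.index_map_eq _ (hπ ▸ QuotientGroup.mk'_surjective Z)
              (by rw [hπ, QuotientGroup.ker_mk']; exact hZA)
          have h2 := (A.map π).index_mul_card
          rw [h1, ← Subgroup.index_eq_card Z, ← Subgroup.relIndex_mul_index hZA, mul_comm] at h2
          have h3 := (Z.subgroupOf A).index_mul_card
          rw [Nat.card_congr (Subgroup.subgroupOfEquivOfLe hZA).toEquiv, hb.card, hcardZ,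
            pow_two] at h3
          rw [show Z.relIndex A = p from Nat.eq_of_mul_eq_mul_right hpp.pos h3] at h2
          exact Nat.eq_of_mul_eq_mul_right (Nat.pos_of_ne_zero Subgroup.index_ne_zero_of_finite) h2
        have heq : Subgroup.zpowers v = A.map π := Subgroup.eq_of_le_of_card_ge
          (Subgroup.zpowers_le.2 hvA) (by
            obtain ⟨a', ha', rfl⟩ := hvA
            rw [hcard2, Nat.card_zpowers, orderOf_eq_prime (by
              rw [← map_pow, hb.elem.2 a' ha', map_one]) hv])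
        have h4 : π a ∈ Subgroup.zpowers v := heq ▸ Subgroup.mem_map_of_mem π ha
        obtain ⟨i, hi⟩ := (isOfFinOrder_of_finite v).mem_powers_iff_mem_zpowers.2 h4
        exact ⟨i, hi.symm⟩
      have hcl : ∀ v : Y, (∀ g ∈ E', ⁅v, g⁆ ∈ A) → ∀ g ∈ E', ∀ g' ∈ E',
          π ⁅v, g * g'⁆ = π ⁅v, g⁆ * π ⁅v, g'⁆ := by
        intro v hv g _ g' hg'
        rw [map_commutatorElement, map_mul, comm_mul_right, map_commutatorElement,
          map_commutatorElement]
        rw [← map_commutatorElement]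
        exact (hπA _ (hv g' hg') _).symm.eq
      have hn_A : ∀ g ∈ E', ⁅n, g⁆ ∈ A := fun g _ => hstepW n hn g
      have hn'_A : ∀ g ∈ E', ⁅n', g⁆ ∈ A := hstepW' n' hn'
      have hcpw : ∀ v : Y, (∀ g ∈ E', ⁅v, g⁆ ∈ A) → ∀ g ∈ E', ∀ i : ℕ,
          π ⁅v, g ^ i⁆ = π ⁅v, g⁆ ^ i := by
        intro v hv g hg i
        induction i with
        | zero => rw [pow_zero, pow_zero, commutatorElement_one_right, map_one]
        | succ i ih => rw [pow_succ, hcl v hv _ (E'.pow_mem hg i) g hg, ih, pow_succ]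
      obtain ⟨d1, hd1⟩ : ∃ d1, d1 = x * d0 * x⁻¹ := ⟨_, rfl⟩
      have hd1D : d1 ∈ D := hd1 ▸ hDn.conj_mem d0 hd0 x
      have hd0E' := ((hmemD d0).1 hd0).2
      have hd1E' := ((hmemD d1).1 hd1D).2
      have hxconj : ∀ v : Y, ⁅x * v * x⁻¹, d1⁆ = x * ⁅v, d0⁆ * x⁻¹ := fun v => by
        rw [hd1]; simp only [commutatorElement_def]; group
      have e1 : π ⁅n, d1⁆ = u := by
        obtain ⟨b0, hb0, e0⟩ : ∃ b0 ∈ A, x * n * x⁻¹ = b0 * n := by
          refine ⟨⁅x, n⁆, ?_, by rw [commutatorElement_def]; group⟩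
          rw [← commutatorElement_inv]; exact A.inv_mem (hstepW n hn x)
        have h1 := congrArg π (hxconj n)
        rw [e0, map_commutatorElement, map_mul π b0, comm_mul_left (hπA b0 hb0 _).eq
          (by rw [commutatorElement_eq_one_iff_commute.2 (hπA b0 hb0 _)]; exact Commute.one_left _),
          commutatorElement_eq_one_iff_commute.2 (hπA b0 hb0 _), one_mul, ← map_commutatorElement,
          map_mul, map_mul, map_inv, ← hu, ← (huc _).eq, mul_inv_cancel_right] at h1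
        exact h1
      have e2 : π ⁅n', d1⁆ = (u ^ k)⁻¹ * π ⁅n', d0⁆ := by
        have h1 := congrArg π (hxconj n')
        rw [hxn, map_commutatorElement, map_mul π (a1 * n ^ k), comm_mul_left
          (by rw [← map_commutatorElement]; exact (hπA _ (hn'_A d1 hd1E') _).symm.eq)
          (by rw [← map_commutatorElement, ← map_commutatorElement]
              exact (hπA _ (hn'_A d1 hd1E') _).symm),
          map_mul π a1, comm_mul_left (hπA a1 ha1 _).eq
          (by rw [commutatorElement_eq_one_iff_commute.2 (hπA a1 ha1 _)]; exact Commute.one_left _),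
          commutatorElement_eq_one_iff_commute.2 (hπA a1 ha1 _), one_mul, ← map_commutatorElement,
          hπn, e1, ← map_commutatorElement, map_mul, map_mul, map_inv,
          ← (hπA _ (hn'_A d0 hd0E') _).eq, mul_inv_cancel_right] at h1
        rw [← h1, inv_mul_cancel_left]
      obtain ⟨d2, hd2⟩ : ∃ d2, d2 = d0 * d1 ^ (p - 1) := ⟨_, rfl⟩
      have hd2D : d2 ∈ D := hd2 ▸ D.mul_mem hd0 (D.pow_mem hd1D _)
      have hd2E' := ((hmemD d2).1 hd2D).2
      have hupow : ∀ v : Y ⧸ Z, v ^ p = 1 → v ^ (p - 1) = v⁻¹ := fun v hv =>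
        eq_inv_of_mul_eq_one_left (by rw [← pow_succ, Nat.sub_add_cancel hpp.one_le, hv])
      have e3 : π ⁅n, d2⁆ = 1 := by
        rw [hd2, hcl n hn_A _ hd0E' _ (E'.pow_mem hd1E' _), hcpw n hn_A _ hd1E', e1, ← hu,
          hupow u hup, mul_inv_cancel]
      have e4 : π ⁅n', d2⁆ = u ^ k := by
        rw [hd2, hcl n' hn'_A _ hd0E' _ (E'.pow_mem hd1E' _), hcpw n' hn'_A _ hd1E', hupow _ (by
          rw [← map_pow, hb.elem.2 _ (hn'_A d1 hd1E'), map_one]), e2, mul_inv_rev, inv_inv,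
          mul_inv_cancel_left]
      have hukne : u ^ k ≠ 1 := fun e => hk (by
        rw [← orderOf_eq_prime hup hu1]; exact orderOf_dvd_of_pow_eq_one e)
      obtain ⟨i, hi⟩ := hpowers _ (hn_A y hy) u hu1 (hu ▸ Subgroup.mem_map_of_mem π (hn_A d0 hd0E'))
      obtain ⟨y1, hy1⟩ : ∃ y1, y1 = y * (d0 ^ i) ^ (p - 1) := ⟨_, rfl⟩
      have hy1E' : y1 ∈ E' := hy1 ▸ E'.mul_mem hy (E'.pow_mem (E'.pow_mem hd0E' i) _)
      have hy1E : y1 ∉ E := fun hh => hyE ((E.mul_mem_cancel_right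
        (E.pow_mem (E.pow_mem ((hmemD d0).1 hd0).1 i) _)).1 (hy1 ▸ hh))
      have g1 : π ⁅n, y1⁆ = 1 := by
        rw [hy1, hcl n hn_A y hy _ (E'.pow_mem (E'.pow_mem hd0E' i) _),
          hcpw n hn_A _ (E'.pow_mem hd0E' i), hcpw n hn_A _ hd0E', ← hu, hi, hupow _ (by
            rw [← pow_mul, mul_comm, pow_mul, hup, one_pow]), mul_inv_cancel]
      obtain ⟨j, hj⟩ := hpowers _ (hn'_A y1 hy1E') (u ^ k) hukne
        ((A.map π).pow_mem (hu ▸ Subgroup.mem_map_of_mem π (hn_A d0 hd0E')) k)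
      obtain ⟨y2, hy2⟩ : ∃ y2, y2 = y1 * (d2 ^ j) ^ (p - 1) := ⟨_, rfl⟩
      refine ⟨y2, hy2 ▸ E'.mul_mem hy1E' (E'.pow_mem (E'.pow_mem hd2E' j) _), fun hh => hy1E
        ((E.mul_mem_cancel_right (E.pow_mem (E.pow_mem ((hmemD d2).1 hd2D).1 j) _)).1 (hy2 ▸ hh)),
        (hπ1 _).1 ?_, (hπ1 _).1 ?_⟩
      · rw [hy2, hcl n hn_A _ hy1E' _ (E'.pow_mem (E'.pow_mem hd2E' j) _),
          hcpw n hn_A _ (E'.pow_mem hd2E' j), hcpw n hn_A _ hd2E', e3, one_pow, one_pow, g1,
          mul_one]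
      · rw [hy2, hcl n' hn'_A _ hy1E' _ (E'.pow_mem (E'.pow_mem hd2E' j) _),
          hcpw n' hn'_A _ (E'.pow_mem hd2E' j), hcpw n' hn'_A _ hd2E', e4, hj, hupow _ (by
            rw [pow_right_comm _ j p, pow_right_comm _ k p, hup, one_pow, one_pow]), mul_inv_cancel]
  have hy2p : y2 ^ p ∈ D := by
    refine (hmemD _).2 ⟨?_, E'.pow_mem hy2 p⟩
    have h1 := Subgroup.pow_index_mem E y2
    rwa [h.idx E hE] at h1
  have k1 := hcpow n hnM y2 f1
  have k2 := hcpow n' hn'M y2 f2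
  have hy2M : y2 ^ p ∈ M := hKM _ hy2p (k1 ▸ Z.one_mem) (k2 ▸ Z.one_mem)
  have hy2A := hMcen _ hy2M k1 k2
  have hy2Z : y2 ^ p ∈ Z := by
    rw [hZ]
    refine mem_zeta_top.2 ⟨hb.elem.2 _ hy2A, fun g => ?_⟩
    exact (Subgroup.mem_centralizer_singleton_iff.1 (top_of_gen (h.idx E hE)
      (K := Subgroup.centralizer {y2 ^ p}) (fun v hv => Subgroup.mem_centralizer_singleton_iff.2
        ((hA ▸ hy2A : y2 ^ p ∈ zeta p E).2.2 v hv).symm)
      (Subgroup.mem_centralizer_singleton_iff.2 (Commute.self_pow y2 p).eq) hy2E g)).symm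
  exact hno y2 (fun hh => hy2E ((hmemD _).1 (hMD hh)).1) hy2Z f1 f2

end Sys.Good

/-- Some member does not contain the central elements of order `p` of another. -/
theorem Sys.Good.exists_not_dagger {Γ : Sys Y} (h : Γ.Good p) (hne : Γ.ℰ.Nonempty)
    (hcore : Γ.NoCore) : ∃ E ∈ Γ.ℰ, ∃ E' ∈ Γ.ℰ, ¬ zeta p E ≤ E' := by
  by_contra hc
  push Not at hc
  have hdag : Dagger Γ p := hc
  obtain ⟨E, hE, hm⟩ := h.exists_moving hne hcore
  obtain ⟨hcA, -⟩ := h.zeta_cards hdag hcore hE hm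
  have hfix : ∀ φ ∈ Γ.𝔹, E.map φ.toMonoidHom = E := fun φ hφ =>
    (h.moving_unique hdag hcore hE (h.perm φ hφ E hE).1 hm (h.moving_map hE hm hφ)).symm
  have hAφ : ∀ φ ∈ Γ.𝔹, ∀ v ∈ zeta p E, φ v ∈ zeta p E := fun φ hφ v hv => by
    have h1 := zeta_map φ E hv
    rwa [hfix φ hφ] at h1
  have hA1 : zeta p E ≠ ⊥ := fun e => by
    rw [e, Subgroup.card_bot] at hcA
    exact absurd hcA (Nat.one_lt_pow (by norm_num) hp.out.one_lt).ne
  by_cases hall : ∀ E' ∈ Γ.ℰ, conjs Γ p E E' = zeta p E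
  · refine hA1 (hcore _ hAφ (fun E' hE' => hdag E hE E' hE') fun E' hE' α hα e he => ?_)
    rw [← hall E' hE'] at he ⊢
    exact h.conjs_invariant hdag hE hE' hm hα he
  push Not at hall
  obtain ⟨E0, hE0, hne0⟩ := hall
  have hmk : ∀ E' ∈ Γ.ℰ, conjs Γ p E E' ≠ zeta p E → Triple p E (zeta p E) (conjs Γ p E E') := by
    intro E' hE' hne'
    refine ⟨h.conjs_elem hdag hE hE' hm, h.le_conjs hdag hE hE', (h.conjs_le hdag hE hE' hm).1, ?_,
      fun g _ v hv => (h.conjs_normal hdag hE hE' hm).conj_mem v hv g⟩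
    refine le_antisymm ((h.conjs_elem hdag hE hE' hm).card_le h.rank) ?_
    obtain ⟨w, hw, hwA⟩ := SetLike.not_le_iff_exists.1
      (fun hle => hne' (le_antisymm hle (h.le_conjs hdag hE hE')))
    have h1 := card_mul_le (p := p) h.pY (h.le_conjs hdag hE hE') hw hwA
    rwa [hcA, ← pow_succ'] at h1
  obtain ⟨W, hW⟩ : ∃ W, W = conjs Γ p E E0 := ⟨_, rfl⟩
  have hT : Triple p E (zeta p E) W := hW ▸ hmk E0 hE0 hne0
  have hWn : W.Normal := hW ▸ h.conjs_normal hdag hE hE0 hm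
  have huniq : ∀ {W'}, Triple p E (zeta p E) W' → W' = W := fun hT' =>
    h.triple_unique hdag hcore hE hm hT' hT
  have hcase : ∀ E' ∈ Γ.ℰ, W ≤ E' ∧ ∀ α ∈ Γ.𝔸 E', ∀ e : E', (e : Y) ∈ W → (α e : Y) ∈ W := by
    intro E' hE'
    by_cases hEE : E' = E
    · subst hEE
      exact ⟨hT.leH, fun α hα e he => (huniq (h.triple_img hE hT hα)).le (mem_img.2 he)⟩
    by_cases hc' : conjs Γ p E E' = zeta p E
    · have hAi : ∀ α ∈ Γ.𝔸 E', ∀ e : E', (e : Y) ∈ zeta p E → (α e : Y) ∈ zeta p E := by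
        intro α hα e he
        rw [← hc'] at he ⊢
        exact h.conjs_invariant hdag hE hE' hm hα he
      have hle := h.le_member hdag hcore hE hE' hm hT hWn hAi
      exact ⟨hle, fun α hα e he =>
        h.member_invariant hdag hcore hE hE' hEE hm hT hWn hle hAi hα (mem_img.2 he)⟩
    · have := huniq (hmk E' hE' hc')
      rw [← this]
      exact ⟨(h.conjs_le hdag hE hE' hm).2, fun α hα e he => h.conjs_invariant hdag hE hE' hm hα he⟩
  have hW1 : W ≠ ⊥ := fun e => hA1 (le_bot_iff.1 (e ▸ hT.le))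
  refine hW1 (hcore _ (fun φ hφ v hv => ?_) (fun E' hE' => (hcase E' hE').1)
    fun E' hE' => (hcase E' hE').2)
  obtain ⟨α, hα, hαv⟩ := h.res E hE φ hφ fun e he => by
    rw [← hfix φ hφ]; exact ⟨e, he, rfl⟩
  have h1 := (hcase E hE).2 α hα ⟨v, hT.leH hv⟩ hv
  rwa [hαv] at h1

end CfsgLib.RankThreeAmalgam
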