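import Cfsg.Agent.Lib.Fusion.RankThreeAmalgam.Heis
import Cfsg.Agent.Lib.Fusion.RankThreeAmalgam.Moving

/-!
A Heisenberg pair modulo an invariant subgroup on whose Frattini quotient the group is trivial.
-/

set_option autoImplicit false
set_option linter.style.haveILetI false
set_option linter.unusedSectionVars false

namespace CfsgLib.RankThreeAmalgam

open Cfsg CfsgLib.RankThree
open scoped commutatorElement

variable {Y : Type*} [Group Y] [Finite Y] {p : ℕ} [hp : Fact p.Prime] {Γ : Sys Y} {K : Subgroup Y}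
  {E E' : Subgroup Y} {z e e' : Y}

/-- An automorphism of the group inverting `E / K` and trivial on `K / Φ(K)`. -/
theorem Sys.Good.exists_psi (h : Γ.Good p) (hK : Γ.Inv K) [K.Normal] [(phi K).Normal]
    (H : Heis p K E E' z e e') (hE : E ∈ Γ.ℰ) (ht : TrivOn K E)
    (hall : ∀ y : Y, y ∈ actKer K) (hfix : ∀ φ ∈ Γ.𝔹, ∀ y ∈ E', φ y ∈ E') :
    ∃ ψ ∈ Γ.𝔹, (∀ k ∈ K, k⁻¹ * ψ k ∈ phi K) ∧ ψ z * z ∈ K ∧
      ∃ a : ℤ, (e' * z ^ a)⁻¹ * ψ e' ∈ K := by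
  classical
  have hY := h.pY
  have hirr := H.irr h hK hE ht
  obtain ⟨u, hu, hr⟩ := H.rel
  obtain ⟨hc, hz, he, he', hconj⟩ := H.quot_facts hr
  obtain ⟨Q, hQ⟩ : ∃ Q : Subgroup (Y ⧸ K), E = Q.comap (QuotientGroup.mk' K) :=
    ⟨_, (Subgroup.comap_map_eq_self (by rw [QuotientGroup.ker_mk']; exact H.KE)).symm⟩
  subst hQ
  obtain ⟨Z0, hZ0⟩ : ∃ Z0 : Q, (Z0 : Y ⧸ K) = QuotientGroup.mk' K z := ⟨⟨_, H.zE⟩, rfl⟩
  obtain ⟨X0, hX0⟩ : ∃ X0 : Q, (X0 : Y ⧸ K) = QuotientGroup.mk' K e := ⟨⟨_, H.eE⟩, rfl⟩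
  have hgenQ : ∀ w : Q, ∃ i j : ℕ, w = Z0 ^ i * X0 ^ j := fun w => by
    obtain ⟨x, rfl⟩ := qhom_surjective K Q w
    obtain ⟨k, hk, i, j, hx⟩ := H.gen x x.2
    refine ⟨i, j, Subtype.ext ?_⟩
    rw [qhom_apply, hx, Subgroup.coe_mul, SubgroupClass.coe_pow, SubgroupClass.coe_pow, hZ0, hX0]
    simp only [map_mul, map_pow]
    rw [show QuotientGroup.mk' K k = 1 from (QuotientGroup.eq_one_iff k).2 hk, mul_one]
  have hZp : Z0 ^ p = 1 := Subtype.ext (by rw [SubgroupClass.coe_pow, hZ0, hz]; rfl)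
  have hXp : X0 ^ p = 1 := Subtype.ext (by rw [SubgroupClass.coe_pow, hX0, he]; rfl)
  have hcomm : ∀ a b : Q, Commute a b := fun a b => by
    obtain ⟨i, j, rfl⟩ := hgenQ a
    obtain ⟨i', j', rfl⟩ := hgenQ b
    have hZc : ∀ w : Q, Commute Z0 w := fun w => Subtype.ext (by
      rw [Subgroup.coe_mul, Subgroup.coe_mul, hZ0]; exact hc _)
    exact Commute.mul_left ((hZc _).pow_left i)
      (Commute.mul_right ((hZc _).symm.pow_pow j i') ((Commute.refl _).pow_pow j j'))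
  have hpQ : ∀ a : Q, a ^ p = 1 := fun a => by
    obtain ⟨i, j, rfl⟩ := hgenQ a
    rw [(hcomm _ _).mul_pow, ← pow_mul, ← pow_mul, mul_comm i, mul_comm j, pow_mul, pow_mul, hZp, hXp,
      one_pow, one_pow, one_mul]
  obtain ⟨σ, hσ, hσT, hσv⟩ := h.exists_conj hE e'
  obtain ⟨τ, hτ, hd⟩ := exists_desc_of_inv hK hE hσ
  have hτv : ∀ w : Q, (τ w : Y ⧸ K) =
      QuotientGroup.mk' K e' * (w : Y ⧸ K) * (QuotientGroup.mk' K e')⁻¹ := fun w => by
    obtain ⟨x, rfl⟩ := qhom_surjective K Q w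
    rw [hd, qhom_apply, qhom_apply, hσv, map_mul, map_mul, map_inv]
  have hτZ : τ Z0 = Z0 := Subtype.ext (by
    rw [hτv, hZ0, ← (hc _).eq, mul_inv_cancel_right])
  have hτX : ∀ j : ℕ, τ (X0 ^ j) = X0 ^ j * Z0 ^ (-(u * j)) := fun j => Subtype.ext (by
    rw [hτv, Subgroup.coe_mul, SubgroupClass.coe_pow, SubgroupClass.coe_zpow, hX0, hZ0, zpow_neg,
      ← zpow_natCast, hconj])
  have hτpow : ∀ w : Q, ∃ j : ℕ, τ w = w * Z0 ^ (-(u * j)) ∧ (∃ i : ℕ, w = Z0 ^ i * X0 ^ j) := fun w => by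
    obtain ⟨i, j, rfl⟩ := hgenQ w
    exact ⟨j, by rw [map_mul, map_pow, hτZ, hτX, mul_assoc], i, rfl⟩
  -- a conjugate of `z` outside `⟨K, z⟩`
  obtain ⟨Cz, hCz⟩ : ∃ Cz, Cz = (Subgroup.zpowers (QuotientGroup.mk' K z)).comap (QuotientGroup.mk' K) :=
    ⟨_, rfl⟩
  have hCzE : Cz ≤ Q.comap (QuotientGroup.mk' K) := hCz ▸ Subgroup.comap_mono
    (Subgroup.zpowers_le.2 H.zE)
  obtain ⟨α, hα, β, hβ, hdα, hβz⟩ : ∃ α ∈ Γ.𝔸 (Q.comap (QuotientGroup.mk' K)),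
      ∃ β ∈ (Γ.quot K).𝔸 Q, Desc K α β ∧ β Z0 ∉ Subgroup.zpowers Z0 := by
    by_contra hcon
    push Not at hcon
    rcases hirr Cz (hCz ▸ fun k hk => by
        show QuotientGroup.mk' K k ∈ Subgroup.zpowers (QuotientGroup.mk' K z)
        rw [show QuotientGroup.mk' K k = 1 from (QuotientGroup.eq_one_iff k).2 hk]
        exact Subgroup.one_mem _) hCzE
      (fun α hα x hx => by
        obtain ⟨β, hβ, hdα⟩ := exists_desc_of_inv hK hE hα
        obtain ⟨n, hn⟩ := Subgroup.mem_zpowers_iff.1 (hCz ▸ hx : (x : Y) ∈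
          (Subgroup.zpowers (QuotientGroup.mk' K z)).comap (QuotientGroup.mk' K))
        obtain ⟨m, hm⟩ := Subgroup.mem_zpowers_iff.1 (hcon α hα β hβ hdα)
        rw [hCz, Subgroup.mem_comap, ← qhom_apply, ← hdα]
        rw [show qhom K Q x = Z0 ^ n from Subtype.ext (by
          rw [qhom_apply, SubgroupClass.coe_zpow, hZ0, hn]), map_zpow, ← hm, ← zpow_mul,
          SubgroupClass.coe_zpow, hZ0]
        exact Subgroup.zpow_mem_zpowers _ _) with h1 | h1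
    · exact H.zK (h1.le (hCz ▸ Subgroup.mem_zpowers _))
    · have h2 : QuotientGroup.mk' K e ∈ Subgroup.zpowers (QuotientGroup.mk' K z) := by
        have := h1.ge H.eE
        rwa [hCz] at this
      exact H.not_mem_zpowers h2
  have hpj : ∀ {w : Q}, w ∉ Subgroup.zpowers Z0 → ∀ {j : ℕ}, (∃ i : ℕ, w = Z0 ^ i * X0 ^ j) →
      ((j : ℤ) : ZMod p) ≠ 0 := by
    rintro w hw j ⟨i, rfl⟩ hj
    rw [Int.cast_natCast, ZMod.natCast_eq_zero_iff] at hj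
    obtain ⟨j', rfl⟩ := hj
    refine hw ?_
    rw [pow_mul, hXp, one_pow, mul_one]
    exact Subgroup.pow_mem _ (Subgroup.mem_zpowers _) i
  have hβz' : β⁻¹ Z0 ∉ Subgroup.zpowers Z0 := by
    intro hcon
    obtain ⟨n, hn⟩ := Subgroup.mem_zpowers_iff.1 hcon
    have h2 := congrArg β hn
    rw [MulAut.apply_inv_self, map_zpow] at h2
    refine hβz (mem_of_zpow_mem (n := n) (by rw [hpQ]; exact Subgroup.one_mem _) ?_
      (h2.symm ▸ Subgroup.mem_zpowers _))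
    intro hn0
    rw [zpow_congr (hpQ (β Z0)) (hn0.trans Int.cast_zero.symm), zpow_zero] at h2
    exact H.z_ne (by rw [← hZ0, ← h2]; rfl)
  obtain ⟨j1, hj1, hj1'⟩ := hτpow (β Z0)
  obtain ⟨j2, hj2, hj2'⟩ := hτpow (β⁻¹ Z0)
  obtain ⟨m, n, hW1, hW2⟩ := shear_inv (C := Z0) (C' := β Z0) (hpQ _) (hpQ _) (hcomm _ _)
    (t := τ) (t' := β * τ * β⁻¹) (u := -(u * j1)) (w := -(u * j2))
    (by rw [Int.cast_neg, neg_ne_zero, Int.cast_mul]; exact mul_ne_zero hu (hpj hβz hj1'))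
    (by rw [Int.cast_neg, neg_ne_zero, Int.cast_mul]; exact mul_ne_zero hu (hpj hβz' hj2'))
    hτZ hj1
    (by rw [MulAut.mul_apply, MulAut.mul_apply, MulAut.inv_apply_self, hτZ])
    (by rw [MulAut.mul_apply, MulAut.mul_apply, hj2, map_mul, MulAut.apply_inv_self, map_zpow])
  obtain ⟨W, hW⟩ : ∃ W, W = (τ ^ m * (β * τ * β⁻¹) ^ n * τ ^ m) ^ 2 := ⟨_, rfl⟩
  rw [← hW] at hW1 hW2
  have hWinv : ∀ w : Q, W w = w⁻¹ := by
    obtain ⟨i, hi⟩ := hj1'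
    have hX : W X0 = X0⁻¹ := by
      have h1 : W (β Z0) = (β Z0)⁻¹ := hW2
      rw [hi, map_mul, map_pow, map_pow, hW1, mul_inv_rev, inv_pow, (hcomm (Z0 ^ i)⁻¹ _).eq,
        mul_left_inj] at h1
      refine inv_mul_eq_one.1 ?_
      refine Subgroup.mem_bot.1 (mem_of_zpow_mem (p := p) (C := ⊥)
        (Subgroup.mem_bot.2 (hpQ _)) (n := j1) (hpj hβz ⟨i, hi⟩) (Subgroup.mem_bot.2 ?_))
      rw [zpow_natCast, (hcomm _ _).mul_pow, inv_pow, h1, inv_inv, inv_pow, mul_inv_cancel]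
    intro w
    obtain ⟨i, j, rfl⟩ := hgenQ w
    rw [map_mul, map_pow, map_pow, hW1, hX, mul_inv_rev, inv_pow, inv_pow, (hcomm (Z0 ^ i)⁻¹ _).eq]
  -- lifts trivial on `K / Φ(K)`
  obtain ⟨T, hT⟩ : ∃ T : Subgroup (MulAut (Q.comap (QuotientGroup.mk' K))),
      ∀ x, x ∈ T ↔ x ∈ Γ.𝔸 _ ∧ ∀ k : Q.comap (QuotientGroup.mk' K),
        (k : Y) ∈ K → (k : Y)⁻¹ * x k ∈ phi K := by
    refine ⟨{ carrier := {x | x ∈ Γ.𝔸 _ ∧ ∀ k : Q.comap (QuotientGroup.mk' K),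
                (k : Y) ∈ K → (k : Y)⁻¹ * x k ∈ phi K}
              one_mem' := ⟨Subgroup.one_mem _, fun k _ => by simp⟩
              mul_mem' := fun {a b} ha hb => ⟨Subgroup.mul_mem _ ha.1 hb.1, fun k hk => ?_⟩
              inv_mem' := fun {a} ha => ⟨Subgroup.inv_mem _ ha.1, fun k hk => ?_⟩ }, fun x => Iff.rfl⟩
    · have h1 := (phi K).mul_mem (hb.2 k hk) (ha.2 (b k) (hK.A _ hE b hb.1 k hk))
      rwa [mul_assoc, mul_inv_cancel_left] at h1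
    · have h1 := (phi K).inv_mem (ha.2 (a⁻¹ k) (hK.A _ hE _ (Subgroup.inv_mem _ ha.1) k hk))
      rwa [MulAut.apply_inv_self, mul_inv_rev, inv_inv] at h1
  have hTaut : autY _ ≤ T := fun x hx => by
    obtain ⟨g, hg⟩ := mem_autY.1 hx
    refine (hT x).2 ⟨h.conj _ hE hx, fun k hk => ?_⟩
    have h1 := mem_actKer'.1 (hall g) _ (K.inv_mem hk)
    rw [commutatorElement_def, inv_inv] at h1
    rw [hg]
    rwa [show g * (k : Y)⁻¹ * g⁻¹ * k = ((k : Y)⁻¹ * (g * k * g⁻¹))⁻¹ by group,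
      Subgroup.inv_mem_iff] at h1
  have hTn : ∀ a ∈ Γ.𝔸 (Q.comap (QuotientGroup.mk' K)), ∀ x ∈ T, a * x * a⁻¹ ∈ T := by
    intro a ha x hx
    refine (hT _).2 ⟨Subgroup.mul_mem _ (Subgroup.mul_mem _ ha ((hT x).1 hx).1)
      (Subgroup.inv_mem _ ha), fun k hk => ?_⟩
    obtain ⟨k, rfl⟩ := a.surjective k
    have hk' : (k : Y) ∈ K := by
      have := hK.A _ hE _ (Subgroup.inv_mem _ ha) _ hk
      rwa [MulAut.inv_apply_self] at this
    rw [MulAut.mul_apply, MulAut.mul_apply, MulAut.inv_apply_self, ← Subgroup.coe_inv, ← map_inv,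
      ← Subgroup.coe_mul, ← map_mul]
    exact phi_invariant_of (p := p) hY H.KE a (hK.A _ hE a ha)
      (by simpa using ((hT x).1 hx).2 k hk')
  obtain ⟨W0, hW0⟩ : ∃ W0, W0 = (σ ^ m * (α * σ * α⁻¹) ^ n * σ ^ m) ^ 2 := ⟨_, rfl⟩
  have hdW : Desc K W0 W := hW0 ▸ hW ▸
    (((hd.pow m).mul (((hdα.mul hd).mul hdα.inv).pow n)).mul (hd.pow m)).pow 2
  have hσT' := hTaut hσT
  have hW0T : W0 ∈ T := hW0 ▸ T.pow_mem (T.mul_mem (T.mul_mem (T.pow_mem hσT' m)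
    (T.pow_mem (hTn α hα σ hσT') n)) (T.pow_mem hσT' m)) 2
  obtain ⟨M, hM, hMiff⟩ := exists_preimage hK hE (autY Q)
  obtain ⟨m0, hm0, hmn⟩ := h.exists_adjust hE (M := M ⊓ T) (inf_le_left.trans hM)
    (le_inf (fun x hx => by
      obtain ⟨γ, hγ, hdx⟩ := h.desc_autY hK hE hx
      exact (hMiff x).2 ⟨h.conj _ hE hx, γ, hγ, hdx⟩) hTaut) (α := W0) fun x hx => by
      obtain ⟨hx𝔸, γ, hγ, hdx⟩ := (hMiff x).1 hx.1
      refine ⟨(hMiff _).2 ⟨Subgroup.mul_mem _ (Subgroup.mul_mem _ ((hT W0).1 hW0T).1 hx𝔸)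
        (Subgroup.inv_mem _ ((hT W0).1 hW0T).1), γ, hγ, ?_⟩,
        T.mul_mem (T.mul_mem hW0T hx.2) (T.inv_mem hW0T)⟩
      have h1 := (hdW.mul hdx).mul hdW.inv
      rwa [show W * γ * W⁻¹ = γ from by
        rw [mul_inv_eq_iff_eq_mul]
        exact MulEquiv.ext fun w => by rw [MulAut.mul_apply, MulAut.mul_apply, hWinv, hWinv, map_inv]]
        at h1
  obtain ⟨-, γ, hγ, hdm⟩ := (hMiff m0).1 hm0.1
  obtain ⟨b, hb⟩ := mem_autY.1 hγ
  obtain ⟨g0, rfl⟩ := QuotientGroup.mk'_surjective K b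
  have hmW : m0 * W0 ∈ T := T.mul_mem hm0.2 hW0T
  obtain ⟨φ, hφ, hφv⟩ := h.ext _ hE (m0 * W0) ((hT _).1 hmW).1 hmn
  obtain ⟨ψ, hψ⟩ : ∃ ψ, ψ = MulAut.conj g0⁻¹ * φ := ⟨_, rfl⟩
  have hψB : ψ ∈ Γ.𝔹 := hψ ▸ Subgroup.mul_mem _ (h.inn _) hφ
  have hψE : ∀ x : Q.comap (QuotientGroup.mk' K),
      QuotientGroup.mk' K (ψ x) = (QuotientGroup.mk' K (x : Y))⁻¹ := fun x => by
    have h1 := (hdm.mul hdW) x
    rw [MulAut.mul_apply, hWinv] at h1
    have h2 := congrArg Subtype.val h1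
    rw [hb, Subgroup.coe_inv, qhom_apply, qhom_apply] at h2
    rw [hψ, MulAut.mul_apply, MulAut.conj_apply, map_mul, map_mul, hφv, ← h2]
    simp only [map_inv, inv_inv]
    group
  refine ⟨ψ, hψB, fun k hk => ?_, ?_, ?_⟩
  · obtain ⟨k0, hk0⟩ : ∃ k0 : Q.comap (QuotientGroup.mk' K), (k0 : Y) = k := ⟨⟨k, H.KE hk⟩, rfl⟩
    have h1 : k⁻¹ * φ k ∈ phi K := by
      rw [← hk0, hφv]; exact ((hT _).1 hmW).2 k0 (hk0 ▸ hk)
    have hφk : φ k ∈ K := hK.B φ hφ k hk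
    have h2 := mem_actKer'.1 (hall g0⁻¹) _ hφk
    rw [hψ, MulAut.mul_apply, MulAut.conj_apply]
    rw [commutatorElement_def] at h2
    have h3 := (phi K).mul_mem ((inferInstance : (phi K).Normal).conj_mem _ h2 k⁻¹) h1
    rwa [show k⁻¹ * (g0⁻¹ * φ k * g0⁻¹⁻¹ * (φ k)⁻¹) * k⁻¹⁻¹ * (k⁻¹ * φ k) =
      k⁻¹ * (g0⁻¹ * φ k * g0⁻¹⁻¹) by group] at h3
  · rw [← QuotientGroup.eq_one_iff (N := K), ← QuotientGroup.mk'_apply, map_mul,
      hψE ⟨z, H.zE⟩, inv_mul_cancel]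
  obtain ⟨k, hk, i, j, hij⟩ := H.gen' _ (hfix ψ hψB e' H.eE'')
  have hρψ : QuotientGroup.mk' K (ψ e') =
      QuotientGroup.mk' K z ^ i * QuotientGroup.mk' K e' ^ j := by
    rw [hij]
    simp only [map_mul, map_pow]
    rw [show QuotientGroup.mk' K k = 1 from (QuotientGroup.eq_one_iff k).2 hk, mul_one]
  have hpj' : ∀ i : ℕ, QuotientGroup.mk' K e' ^ i * QuotientGroup.mk' K e *
      (QuotientGroup.mk' K e' ^ i)⁻¹ = QuotientGroup.mk' K e * (QuotientGroup.mk' K z ^ (u * i))⁻¹ := by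
    intro i
    induction i with
    | zero => simp
    | succ i ih =>
      have h1 := hconj 1
      rw [zpow_one, mul_one] at h1
      calc _ = QuotientGroup.mk' K e' * (QuotientGroup.mk' K e' ^ i * QuotientGroup.mk' K e *
            (QuotientGroup.mk' K e' ^ i)⁻¹) * (QuotientGroup.mk' K e')⁻¹ := by rw [pow_succ']; group
        _ = QuotientGroup.mk' K e' * QuotientGroup.mk' K e * (QuotientGroup.mk' K e')⁻¹ *
            (QuotientGroup.mk' K e' * (QuotientGroup.mk' K z ^ (u * i))⁻¹ *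
              (QuotientGroup.mk' K e')⁻¹) := by rw [ih]; group
        _ = _ := by
            rw [h1, ((hc (QuotientGroup.mk' K e')).zpow_left (u * i)).inv_left.symm.eq,
              mul_inv_cancel_right, mul_assoc, ← mul_inv_rev,
              ← zpow_add]
            push_cast
            ring_nf
  -- the relation of `e` and `e'` under `ψ`
  have h1 : QuotientGroup.mk' K (ψ e') * QuotientGroup.mk' K (ψ e) *
      (QuotientGroup.mk' K (ψ e'))⁻¹ =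
      ((QuotientGroup.mk' K e) * (QuotientGroup.mk' K z ^ u)⁻¹)⁻¹ := by
    have h2 := hψE ⟨e' * e * e'⁻¹, h.conj_mem hE e' H.eE⟩
    have h3 := hconj 1
    rw [zpow_one, mul_one] at h3
    simp only [map_mul, map_inv] at h2
    rw [h2, h3]
  rw [hρψ, hψE ⟨e, H.eE⟩, show QuotientGroup.mk' K z ^ i * QuotientGroup.mk' K e' ^ j *
    (QuotientGroup.mk' K e)⁻¹ * (QuotientGroup.mk' K z ^ i * QuotientGroup.mk' K e' ^ j)⁻¹ =
    QuotientGroup.mk' K z ^ i * (QuotientGroup.mk' K e' ^ j * QuotientGroup.mk' K e *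
    (QuotientGroup.mk' K e' ^ j)⁻¹)⁻¹ * (QuotientGroup.mk' K z ^ i)⁻¹ by group, hpj',
    ((hc _).pow_left i).eq, mul_inv_cancel_right, inv_inj, mul_right_inj, inv_inj] at h1
  have h4 : QuotientGroup.mk' K z ^ (u * j - u) = 1 := by rw [zpow_sub, h1, mul_inv_cancel]
  rw [zpow_eq_one_iff' hz H.z_ne] at h4
  push_cast at h4
  have hj : ((j : ℤ) : ZMod p) = ((1 : ℤ) : ZMod p) := by
    rw [Int.cast_natCast, Int.cast_one]
    exact mul_left_cancel₀ hu (by linear_combination h4)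
  refine ⟨i, ?_⟩
  rw [← QuotientGroup.eq_one_iff (N := K), ← QuotientGroup.mk'_apply]
  simp only [map_mul, map_inv, map_zpow]
  rw [hρψ, inv_mul_eq_one, zpow_natCast, ((hc _).pow_left i).eq, ← zpow_natCast (QuotientGroup.mk' K e'),
    zpow_congr he' hj, zpow_one]

/-- The automorphism kills the commutator `⁅e', z⁆`. -/
theorem comm_eq_one {H' : Type*} [Group H'] (hp2 : p ≠ 2) (π : Y →* H') (hcen : ∀ k ∈ K, ∀ y : Y, Commute (π k) (π y))
    (ψ : MulAut Y) (hcK : ⁅e', z⁆ ∈ K) (hcp : π ⁅e', z⁆ ^ p = 1) (hψc : π (ψ ⁅e', z⁆) = π ⁅e', z⁆)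
    (hψz : ψ z * z ∈ K) {a : ℤ} (hψe : (e' * z ^ a)⁻¹ * ψ e' ∈ K) : π ⁅e', z⁆ = 1 := by
  obtain ⟨c, hc⟩ : ∃ c, c = π ⁅e', z⁆ := ⟨_, rfl⟩
  have hcc : ∀ y : Y, Commute c (π y) := hc ▸ hcen _ hcK
  obtain ⟨k1, hk1, h1⟩ : ∃ k ∈ K, π (ψ z) = π k * (π z)⁻¹ :=
    ⟨_, hψz, by rw [map_mul, mul_inv_cancel_right]⟩
  obtain ⟨k2, hk2, h2⟩ : ∃ k ∈ K, π (ψ e') = π e' * π z ^ a * π k :=
    ⟨_, hψe, by rw [← map_zpow, ← map_mul, ← map_mul, mul_inv_cancel_left]⟩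
  have h3 : c = ⁅π e', (π z)⁻¹⁆ := by
    rw [hc, ← hψc, map_commutatorElement ψ, map_commutatorElement π, h1, h2]
    simp only [commutatorElement_def]
    calc π e' * π z ^ a * π k2 * (π k1 * (π z)⁻¹) * (π e' * π z ^ a * π k2)⁻¹ *
          (π k1 * (π z)⁻¹)⁻¹
        = π e' * π z ^ a * (π k2 * π k1) * (π z)⁻¹ * (π k2)⁻¹ * (π z ^ a)⁻¹ * (π e')⁻¹ *
          π z * (π k1)⁻¹ := by group
      _ = π e' * π z ^ a * (π (k2 * k1) * π (z⁻¹)) * (π k2)⁻¹ * (π z ^ a)⁻¹ * (π e')⁻¹ *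
          π z * (π k1)⁻¹ := by rw [map_mul, map_inv]; group
      _ = π e' * π z ^ a * (π z)⁻¹ * (π k1 * (π k2 * π k2⁻¹) * π ((z ^ a)⁻¹ * e'⁻¹ * z)) * (π k1)⁻¹ := by
          rw [(hcen _ (K.mul_mem hk2 hk1) z⁻¹).eq, map_mul, (hcen _ hk2 k1).eq]
          simp only [map_mul, map_inv, map_zpow]
          group
      _ = π e' * (π z)⁻¹ * (π e')⁻¹ * (π z)⁻¹⁻¹ := by
          rw [← map_mul π k2, mul_inv_cancel, map_one, mul_one, (hcen _ hk1 _).eq]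
          simp only [map_mul, map_inv, map_zpow]
          group
  have h4 : ⁅π e', (π z)⁻¹⁆ = c⁻¹ := by
    have h5 : ⁅π e', (π z)⁻¹⁆ = (π z)⁻¹ * c⁻¹ * π z := by
      rw [hc, map_commutatorElement]; simp only [commutatorElement_def]; group
    rw [h5, ← map_inv π z, ← ((hcc z⁻¹).inv_left).eq, map_inv, inv_mul_cancel_right]
  have h5 : c ^ 2 = 1 := by
    rw [pow_two]; nth_rw 1 [h3, h4]; exact inv_mul_cancel c
  rw [← hc, ← orderOf_eq_one_iff, ← Nat.dvd_one]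
  have h6 := Nat.dvd_gcd (orderOf_dvd_of_pow_eq_one h5) (orderOf_dvd_of_pow_eq_one (hc ▸ hcp))
  rwa [Nat.coprime_primes Nat.prime_two hp.out |>.2 hp2.symm] at h6

theorem Sys.Good.no_small_triv (h : Γ.Good p) (hK : Γ.Inv K) [K.Normal] [(phi K).Normal] (hK0 : K ≠ ⊥)
    (H : Heis p K E E' z e e') (hE : E ∈ Γ.ℰ) (hE' : E' ∈ Γ.ℰ) (ht : TrivOn K E) (ht' : TrivOn K E')
    (hall : ∀ y : Y, y ∈ actKer K) (hfix : ∀ φ ∈ Γ.𝔹, ∀ y ∈ E, φ y ∈ E)
    (hfix' : ∀ φ ∈ Γ.𝔹, ∀ y ∈ E', φ y ∈ E') (hdag : zeta p E ≤ E') : False := by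
  classical
  have hY := h.pY
  obtain ⟨π, hπ⟩ : ∃ π, π = QuotientGroup.mk' (phi K) := ⟨_, rfl⟩
  have hπs : Function.Surjective π := hπ ▸ QuotientGroup.mk'_surjective _
  have hπ1 : ∀ {w}, π w = 1 ↔ w ∈ phi K := fun {w} => by
    rw [hπ, QuotientGroup.mk'_apply, QuotientGroup.eq_one_iff]
  have hcen : ∀ k ∈ K, ∀ y : Y, Commute (π k) (π y) :=
    fun k hk y => hπ ▸ (mem_actKer.1 (hall y) k hk).symm
  have hkp : ∀ k ∈ K, π k ^ p = 1 := fun k hk => by rw [← map_pow]; exact hπ1.2 (pow_phi hY hk)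
  obtain ⟨ψ, hψB, hψK, hψz, a, hψe⟩ := h.exists_psi hK H hE ht hall hfix'
  obtain ⟨ψ', hψB', hψK', hψz', a', hψe'⟩ := h.exists_psi hK H.symm hE' ht' hall hfix
  have hcK : ∀ y, ⁅y, z⁆ ∈ K := fun y => by
    rw [← commutatorElement_inv]; exact K.inv_mem (H.zc y)
  have hπψ : ∀ (ψ : MulAut Y), (∀ k ∈ K, k⁻¹ * ψ k ∈ phi K) → ∀ k ∈ K, π (ψ k) = π k :=
    fun ψ hh k hk => by
      rw [← mul_inv_cancel_left k (ψ k), map_mul, hπ1.2 (hh k hk), mul_one]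
  have hmod : π ⁅e, z⁆ = 1 := comm_eq_one (p := p) h.podd π hcen ψ' (hcK e) (hkp _ (hcK e))
    (hπψ ψ' hψK' _ (hcK e)) hψz' hψe'
  -- elementary modulo `Φ(K)`
  have hcommE : ∀ {H' : Type _} [Group H'] (θ : Y →* H'), (∀ k ∈ K, ∀ y : Y, Commute (θ k) (θ y)) →
      θ ⁅e, z⁆ = 1 → ∀ x ∈ E, ∀ w ∈ E, Commute (θ x) (θ w) := by
    intro H' _ θ hθ hθz x hx w hw
    obtain ⟨k, hk, i, j, rfl⟩ := H.gen x hx
    obtain ⟨k', hk', i', j', rfl⟩ := H.gen w hw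
    have hez : Commute (θ e) (θ z) := by
      rwa [← commutatorElement_eq_one_iff_commute, ← map_commutatorElement]
    have h0 : Commute (θ (z ^ i * e ^ j)) (θ (z ^ i' * e ^ j')) := by
      simp only [map_mul, map_pow]
      exact Commute.mul_left (Commute.mul_right ((Commute.refl _).pow_pow i i') (hez.symm.pow_pow i j'))
        (Commute.mul_right (hez.pow_pow j i') ((Commute.refl _).pow_pow j j'))
    rw [map_mul θ (z ^ i * e ^ j) k, map_mul θ (z ^ i' * e ^ j') k']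
    exact Commute.mul_left (h0.mul_right (hθ k' hk' _).symm) (by rw [← map_mul]; exact hθ k hk _)
  have hEab := hcommE π hcen hmod
  obtain ⟨u, hu, hr⟩ := H.rel
  obtain ⟨hc, hz, he, he', hconj⟩ := H.quot_facts hr
  have hzp : π z ^ p = 1 := by
    obtain ⟨k, hk, h1⟩ : ∃ k ∈ K, π e' * π e * (π e')⁻¹ = π e * (π z ^ u)⁻¹ * π k := by
      refine ⟨(e * (z ^ u)⁻¹)⁻¹ * (e' * e * e'⁻¹), ?_, ?_⟩
      · rw [← QuotientGroup.eq_one_iff (N := K), ← QuotientGroup.mk'_apply]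
        have h2 := hconj 1
        rw [zpow_one, mul_one] at h2
        simp only [map_mul, map_inv, map_zpow]
        rw [h2, inv_mul_cancel]
      · rw [← map_zpow, ← map_inv, ← map_inv, ← map_mul, ← map_mul, ← map_mul, ← map_mul,
          mul_inv_cancel_left]
    have hzu : Commute (π e) (π z ^ u) := by
      rw [← map_zpow]; exact hEab e H.eE _ (E.zpow_mem H.zE u)
    have hep : Commute (π e') (π e ^ p) := by
      rw [← map_pow]; exact (hcen _ H.ep e').symm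
    have h2 : (π e' * π e * (π e')⁻¹) ^ p = (π e * (π z ^ u)⁻¹ * π k) ^ p := by rw [h1]
    rw [conj_pow, hep.eq, mul_inv_cancel_right,
      (show Commute (π e * (π z ^ u)⁻¹) (π k) by
        rw [← map_zpow, ← map_inv, ← map_mul]; exact (hcen k hk _).symm).mul_pow,
      hkp k hk, mul_one, hzu.inv_right.mul_pow, left_eq_mul, inv_pow, inv_eq_one,
      ← zpow_natCast (π z ^ u), ← zpow_mul, mul_comm, zpow_mul, zpow_natCast,
      ← Subgroup.mem_bot] at h2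
    refine Subgroup.mem_bot.1 (mem_of_zpow_mem (p := p) (C := ⊥) (Subgroup.mem_bot.2 ?_) hu h2)
    rw [← map_pow]
    exact hkp _ H.zp
  obtain ⟨P, hP⟩ : ∃ P : Subgroup Y, ∀ x, x ∈ P ↔ x ∈ E ∧ π x ^ p = 1 := by
    refine ⟨{ carrier := {x | x ∈ E ∧ π x ^ p = 1}
              one_mem' := ⟨E.one_mem, by rw [map_one, one_pow]⟩
              mul_mem' := fun {x w} hx hw => ⟨E.mul_mem hx.1 hw.1, by
                rw [map_mul, (hEab x hx.1 w hw.1).mul_pow, hx.2, hw.2, one_mul]⟩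
              inv_mem' := fun {x} hx => ⟨E.inv_mem hx.1, by rw [map_inv, inv_pow, hx.2, inv_one]⟩ },
      fun x => Iff.rfl⟩
  have hPi : ∀ α ∈ Γ.𝔸 E, ∀ x : E, (x : Y) ∈ P → (α x : Y) ∈ P := fun α hα x hx => by
    refine (hP _).2 ⟨(α x).2, ?_⟩
    rw [← map_pow, ← SubgroupClass.coe_pow, ← map_pow α]
    refine hπ1.2 (phi_invariant_of (p := p) hY H.KE α (hK.A E hE α hα) ?_)
    rw [SubgroupClass.coe_pow]
    exact hπ1.1 (by rw [map_pow]; exact ((hP _).1 hx).2)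
  have hirr := H.irr h hK hE ht
  have hEp : ∀ x ∈ E, x ^ p ∈ phi K := by
    rcases hirr P (fun k hk => (hP k).2 ⟨H.KE hk, hkp k hk⟩) (fun x hx => ((hP x).1 hx).1) hPi
      with h1 | h1
    · exact absurd (h1.le ((hP z).2 ⟨H.zE, hzp⟩)) H.zK
    · exact fun x hx => hπ1.1 (by rw [map_pow]; exact ((hP x).1 (h1.ge hx)).2)
  have hKp : (phi K).relIndex K = p := by
    have h3 := relIndex_le (p := p) h.rank (N := phi K) (H := E)
      (fun g _ y hy => (inferInstance : (phi K).Normal).conj_mem y hy g)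
      (fun x hx w hw => hπ1.1 (by
        rw [map_commutatorElement, commutatorElement_eq_one_iff_commute]; exact hEab x hx w hw))
      hEp
    rw [← Subgroup.relIndex_mul_relIndex (phi K) K E (phi_le K) H.KE] at h3
    have h4 : (phi K).relIndex K ≤ p := by
      refine Nat.le_of_mul_le_mul_right ?_ (pow_pos hp.out.pos 2)
      rw [← pow_succ']
      exact (Nat.mul_le_mul_left _ (H.card_ge hY)).trans h3
    obtain ⟨i, hi⟩ := (hY.to_subgroup K).index ((phi K).subgroupOf K)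
    have hi0 : i ≠ 0 := fun e0 => not_le_phi hK0
      (Subgroup.relIndex_eq_one.1 (hi.trans (by rw [e0, pow_zero])))
    refine le_antisymm h4 (le_of_le_of_eq ?_ hi.symm)
    exact Nat.le_self_pow hi0 p
  obtain ⟨k0, hk0, hk0n⟩ := SetLike.not_le_iff_exists.1 (not_le_phi hK0)
  have hKcyc : Subgroup.zpowers k0 = K := by
    refine gen_of_sup_phi (Subgroup.zpowers_le.2 hk0) fun x hx => ?_
    obtain ⟨d, hd, w, hw, rfl⟩ := exists_decomp_of_prime (phi_le K) hKp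
      (le_normalizer_of_conj fun g hg y hy => (inferInstance : (phi K).Normal).conj_mem y hy g)
      hk0 hk0n (W := Subgroup.zpowers k0) (Subgroup.zpowers_le.2 hk0) (Subgroup.mem_zpowers k0) x hx
    exact Subgroup.mul_mem _ (Subgroup.mem_sup_right hd) (Subgroup.mem_sup_left hw)
  have hKpow : ∀ k ∈ K, ∃ n : ℤ, k0 ^ n = k := fun k hk => Subgroup.mem_zpowers_iff.1 (hKcyc.ge hk)
  -- `K` is central
  have hKc : ∀ {E₁ E₂ : Subgroup Y} {e₁ e₂ : Y}, Heis p K E₁ E₂ z e₁ e₂ → E₁ ∈ Γ.ℰ → TrivOn K E₁ →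
      ∀ x ∈ E₁, ∀ k ∈ K, Commute x k := by
    intro E₁ E₂ e₁ e₂ H₁ hE₁ ht₁ x hx
    obtain ⟨u₁, hu₁, hr₁⟩ := H₁.rel
    obtain ⟨C, hC⟩ : ∃ C, C = E₁ ⊓ Subgroup.centralizer (K : Set Y) := ⟨_, rfl⟩
    have hCm : ∀ w, w ∈ C ↔ w ∈ E₁ ∧ ∀ k ∈ K, Commute w k := fun w => by
      rw [hC, Subgroup.mem_inf, Subgroup.mem_centralizer_iff]
      exact and_congr_right fun _ => ⟨fun hh k hk => (hh k hk).symm, fun hh k hk => (hh k hk).symm⟩
    have hconjK : ∀ g : Y, ∃ i : ℤ, ∀ k ∈ K, g * k * g⁻¹ = k ^ i := fun g => by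
      obtain ⟨i, hi⟩ := hKpow _ ((inferInstance : K.Normal).conj_mem _ hk0 g)
      refine ⟨i, fun k hk => ?_⟩
      obtain ⟨n, rfl⟩ := hKpow k hk
      rw [← conj_zpow, ← hi, ← zpow_mul, ← zpow_mul, mul_comm]
    have hcK' : ∀ k ∈ K, Commute ⁅e₁, e₂⁆ k := fun k hk => by
      rw [show ⁅e₁, e₂⁆ = e₁ * e₂ * (e₂ * e₁)⁻¹ by rw [commutatorElement_def]; group]
      refine commute_of_conj_eq (inferInstance : K.Normal) (fun m hm => ?_) hk
      obtain ⟨i, hi⟩ := hconjK e₁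
      obtain ⟨j, hj⟩ := hconjK e₂
      calc e₁ * e₂ * m * (e₁ * e₂)⁻¹ = e₁ * (e₂ * m * e₂⁻¹) * e₁⁻¹ := by group
        _ = (m ^ j) ^ i := by rw [hj m hm, hi _ (K.zpow_mem hm j)]
        _ = (m ^ i) ^ j := by rw [← zpow_mul, ← zpow_mul, mul_comm]
        _ = e₂ * (e₁ * m * e₁⁻¹) * e₂⁻¹ := by rw [hi m hm, hj _ (K.zpow_mem hm i)]
        _ = _ := by group
    rcases H₁.irr h hK hE₁ ht₁ C (fun k hk => (hCm k).2 ⟨H₁.KE hk, fun k' hk' => by
        obtain ⟨n, rfl⟩ := hKpow k hk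
        obtain ⟨n', rfl⟩ := hKpow k' hk'
        exact Commute.zpow_zpow_self k0 n n'⟩) (hC ▸ inf_le_left)
      (fun α hα w hw => (hCm _).2 ⟨(α w).2, fun k hk => by
        obtain ⟨k', hk'⟩ := α.surjective ⟨k, H₁.KE hk⟩
        have hk'K : (k' : Y) ∈ K := by
          have h5 := hK.A E₁ hE₁ _ ((Γ.𝔸 E₁).inv_mem hα) (α k') (by rw [hk']; exact hk)
          rwa [MulAut.inv_apply_self] at h5
        have h6 : w * k' = k' * w := Subtype.ext (((hCm _).1 hw).2 _ hk'K)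
        have h7 := congrArg (fun q : E₁ => (α q : Y)) h6
        show (α w : Y) * k = k * (α w : Y)
        simpa [hk'] using h7⟩) with h1 | h1
    · exfalso
      have hmemE : ⁅e₁, e₂⁆ ∈ E₁ := by
        have := E₁.mul_mem (E₁.zpow_mem H₁.zE u₁) (H₁.KE hr₁)
        rwa [mul_inv_cancel_left] at this
      have h2 := h1.le ((hCm _).2 ⟨hmemE, hcK'⟩)
      have h3 : z ^ u₁ ∈ K := by
        have := K.mul_mem h2 (K.inv_mem hr₁)
        rwa [mul_inv_rev, inv_inv, mul_inv_cancel_left] at this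
      exact H₁.zK (mem_of_zpow_mem H₁.zp hu₁ h3)
    · exact ((hCm x).1 (h1.ge hx)).2
  have hKY : ∀ k ∈ K, ∀ y : Y, Commute k y := fun k hk y => by
    refine (Subgroup.mem_centralizer_singleton_iff.1 (le_of_member_le (h.idx E hE)
      (R := Subgroup.centralizer {k}) (fun x hx => ?_) (g := e') ?_ H.e'E y)).symm
    · exact Subgroup.mem_centralizer_singleton_iff.2 (hKc H hE ht x hx k hk).eq
    · exact Subgroup.mem_centralizer_singleton_iff.2 (hKc H.symm hE' ht' e' H.eE'' k hk).eq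
  have hcp : ⁅e, z⁆ ^ p = 1 := by
    have h1 := comm_pow_left (u := z) (g := e) (hKY _ (H.zc e) z).symm p
    rw [show ⁅z ^ p, e⁆ = 1 from commutatorElement_eq_one_iff_commute.2 (hKY _ H.zp e)] at h1
    rw [← commutatorElement_inv, inv_pow, ← h1, inv_one]
  have hψc : ψ' ⁅e, z⁆ = ⁅e, z⁆ := by
    obtain ⟨n, hn⟩ := hKpow _ (hcK e)
    obtain ⟨b, hb⟩ := hKpow _ (hK.B ψ' hψB' k0 hk0)
    have hb1 : ((b : ℤ) : ZMod p) = ((1 : ℤ) : ZMod p) := by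
      by_contra hne
      refine hk0n (mem_of_zpow_mem (n := b - 1) (pow_phi hY hk0) ?_ ?_)
      · rw [Int.cast_sub, sub_ne_zero]; exact hne
      · have h2 := hψK' k0 hk0
        rw [← hb] at h2
        rw [zpow_sub_one, (Commute.self_zpow k0 b).inv_left.symm.eq]
        exact h2
    rw [← hn, map_zpow, ← hb, ← zpow_mul, mul_comm, zpow_mul,
      zpow_congr (show (k0 ^ n) ^ p = 1 by rw [hn]; exact hcp) hb1, zpow_one]
  have hez : ⁅e, z⁆ = 1 := comm_eq_one (p := p) h.podd (MonoidHom.id Y) (fun k hk y => hKY k hk y) ψ'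
    (hcK e) hcp hψc hψz' hψe'
  have habE := hcommE (MonoidHom.id Y) (fun k hk y => hKY k hk y) hez
  have hsub : phi K ≤ Subgroup.zpowers (k0 ^ p) := by
    refine phi_le_of (p := p) (fun g _ y hy => ?_) (fun x hx w hw => ?_) fun x hx => ?_
    · obtain ⟨n, rfl⟩ := Subgroup.mem_zpowers_iff.1 hy
      rw [((hKY k0 hk0 g).pow_left p).zpow_left n |>.symm.eq, mul_inv_cancel_right]
      exact Subgroup.zpow_mem_zpowers _ n
    · rw [commutatorElement_eq_one_iff_commute.2 (hKY x hx w)]; exact Subgroup.one_mem _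
    · obtain ⟨n, rfl⟩ := hKpow x hx
      rw [← zpow_natCast (k0 ^ n), ← zpow_mul, mul_comm, zpow_mul, zpow_natCast]
      exact Subgroup.zpow_mem_zpowers _ n
  obtain ⟨n, hn⟩ := Subgroup.mem_zpowers_iff.1 (hsub (hEp e H.eE))
  refine H.eE' ?_
  have hw : e * (k0 ^ n)⁻¹ ∈ zeta p E := by
    have hnK : k0 ^ n ∈ K := K.zpow_mem hk0 n
    refine ⟨E.mul_mem H.eE (E.inv_mem (H.KE hnK)), ?_, fun x hx =>
      (habE _ (E.mul_mem H.eE (E.inv_mem (H.KE hnK))) x hx).eq⟩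
    rw [((hKY _ (K.inv_mem hnK) e).symm).mul_pow, inv_pow, ← hn, ← zpow_natCast, ← zpow_natCast,
      ← zpow_mul, ← zpow_mul, mul_comm, mul_inv_cancel]
  have := E'.mul_mem (hdag hw) (H.KE' (K.zpow_mem hk0 n))
  rwa [inv_mul_cancel_right] at this

end CfsgLib.RankThreeAmalgam
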