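import Cfsg.Agent.Lib.Fusion.RankThreeAmalgam.Heis

/-!
A Heisenberg pair modulo an invariant subgroup on whose Frattini quotient the group acts.
-/

set_option autoImplicit false
set_option linter.style.haveILetI false
set_option linter.unusedSectionVars false

namespace CfsgLib.RankThreeAmalgam

open Cfsg CfsgLib.RankThree
open scoped commutatorElement

variable {Y : Type*} [Group Y] [Finite Y] {p : ℕ} [hp : Fact p.Prime] {Γ : Sys Y} {K : Subgroup Y}
  {E E' : Subgroup Y} {z e e' : Y}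

/-- The elements centralising `M` modulo `N`. -/
theorem exists_centMod (N M : Subgroup Y) [N.Normal] :
    ∃ C : Subgroup Y, ∀ x, x ∈ C ↔ ∀ m ∈ M, ⁅x, m⁆ ∈ N := by
  refine ⟨(Subgroup.centralizer ((M.map (QuotientGroup.mk' N)) : Set (Y ⧸ N))).comap
    (QuotientGroup.mk' N), fun x => ?_⟩
  rw [Subgroup.mem_comap, Subgroup.mem_centralizer_iff]
  have key : ∀ m, ⁅x, m⁆ ∈ N ↔ Commute (QuotientGroup.mk' N x) (QuotientGroup.mk' N m) := fun m => by
    rw [← QuotientGroup.eq_one_iff (N := N), ← QuotientGroup.mk'_apply, map_commutatorElement,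
      commutatorElement_eq_one_iff_commute]
  exact ⟨fun hh m hm => (key m).2 (hh _ ⟨m, hm, rfl⟩).symm,
    fun hh b ⟨m, hm, hb⟩ => hb ▸ ((key m).1 (hh m hm)).symm⟩

/-- The centraliser of an invariant section is invariant. -/
theorem centMod_invariant (hY : IsPGroup p Y) [(phi K).Normal] {W C : Subgroup Y} (hKE : K ≤ E)
    (hWE : W ≤ E) (hC : ∀ x, x ∈ C ↔ ∀ m ∈ W, ⁅x, m⁆ ∈ phi K) (α : MulAut E)
    (hαK : ∀ e : E, (e : Y) ∈ K → (α e : Y) ∈ K) (hαW : ∀ e : E, (e : Y) ∈ W → (α⁻¹ e : Y) ∈ W)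
    {x : E} (hx : (x : Y) ∈ E ⊓ C) : (α x : Y) ∈ E ⊓ C := by
  refine ⟨(α x).2, (hC _).2 fun m hm => ?_⟩
  have h1 := phi_invariant_of (p := p) hY hKE α hαK (e := ⁅x, α⁻¹ ⟨m, hWE hm⟩⁆) (by
    simpa [commutatorElement_def] using (hC _).1 hx.2 _ (hαW _ hm))
  rw [map_commutatorElement, MulAut.apply_inv_self] at h1
  simpa [commutatorElement_def] using h1

namespace Sys.Good

variable (h : Γ.Good p) (hK : Γ.Inv K) [K.Normal] [(phi K).Normal]
  {A c : Subgroup (Y ⧸ phi K)} (hs : Series p (K.map (QuotientGroup.mk' (phi K))) A c)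
  (hcA : ∀ d ∈ A, d ∉ c → c ⊔ Subgroup.zpowers d = A)
  {Ax Ce : Subgroup Y}
  (hAx : ∀ x, x ∈ Ax ↔ ∀ a ∈ A, Commute (QuotientGroup.mk' (phi K) x) a)
  (hCe : ∀ x, x ∈ Ce ↔ ∀ k ∈ K, QuotientGroup.mk' (phi K) ⁅x, k⁆ ∈ c)

include h hK hs hcA hAx hCe

/-- Once some commutators of `E` reach `A`, the member centralises `A`. -/
theorem le_axis (H : Heis p K E E' z e e') (hE : E ∈ Γ.ℰ) (hirr : Irr Γ K E)
    (hzax : z ∈ Ax) {B : Subgroup Y} (hBE : B ≤ E)
    (hB : ∀ α ∈ Γ.𝔸 E, ∀ x : E, (x : Y) ∈ B → (α x : Y) ∈ B)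
    (hBA : ∀ x ∈ E, ∀ b ∈ B, QuotientGroup.mk' (phi K) ⁅x, b⁆ ∈ A)
    (hcB : c ≤ (⁅E, B⁆ ⊔ phi K).map (QuotientGroup.mk' (phi K)))
    (hout : ∃ x ∈ E, ∃ b ∈ B, QuotientGroup.mk' (phi K) ⁅x, b⁆ ∉ c) : E ≤ Ax := by
  obtain ⟨π, hπ⟩ : ∃ π, π = QuotientGroup.mk' (phi K) := ⟨_, rfl⟩
  rw [← hπ] at hAx hBA hcB hout
  have hπ1 : ∀ {w}, π w = 1 ↔ w ∈ phi K := fun {w} => by
    rw [hπ, QuotientGroup.mk'_apply, QuotientGroup.eq_one_iff]
  have hY := h.pY
  obtain ⟨W, hW⟩ : ∃ W, W = ⁅E, B⁆ ⊔ phi K := ⟨_, rfl⟩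
  rw [← hW] at hcB
  have hWE : W ≤ E := hW ▸ sup_le ((Subgroup.commutator_le).2 fun a ha b hb =>
    E.mul_mem (E.mul_mem (E.mul_mem ha (hBE hb)) (E.inv_mem ha)) (E.inv_mem (hBE hb)))
    ((phi_le K).trans H.KE)
  have hWA : W.map π ≤ A := by
    rw [hW, Subgroup.map_sup]
    refine sup_le ?_ ?_
    · rw [Subgroup.map_commutator, Subgroup.commutator_le]
      rintro _ ⟨a, ha, rfl⟩ _ ⟨b, hb, rfl⟩
      rw [← map_commutatorElement]
      exact hBA a ha b hb
    · rintro _ ⟨w, hw, rfl⟩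
      rw [hπ1.2 hw]
      exact A.one_mem
  have hWeq : W.map π = A := by
    obtain ⟨x, hx, b, hb, hout⟩ := hout
    refine le_antisymm hWA ?_
    rw [← hcA _ (hBA x hx b hb) hout]
    exact sup_le hcB (Subgroup.zpowers_le.2
      ⟨⁅x, b⁆, hW ▸ Subgroup.mem_sup_left (Subgroup.commutator_mem_commutator hx hb), rfl⟩)
  have hAxW : ∀ x, x ∈ Ax ↔ ∀ w ∈ W, ⁅x, w⁆ ∈ phi K := fun x => by
    rw [hAx]
    constructor
    · intro hh w hw
      rw [← hπ1, map_commutatorElement, commutatorElement_eq_one_iff_commute]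
      exact hh _ (hWeq ▸ ⟨w, hw, rfl⟩)
    · intro hh a ha
      obtain ⟨w, hw, rfl⟩ := hWeq.ge ha
      rw [← commutatorElement_eq_one_iff_commute, ← map_commutatorElement, hπ1]
      exact hh w hw
  rcases hirr (E ⊓ Ax) (le_inf H.KE fun k hk => (hAx k).2 fun a ha => by
      subst hπ
      exact hs.comm _ ⟨k, hk, rfl⟩ _ (hs.Ale ha)) inf_le_left
    (fun α hα x hx => centMod_invariant (p := p) hY H.KE hWE hAxW α (hK.A E hE α hα)
      (fun w hw => hW ▸ comm_invariant (p := p) hY le_rfl hBE H.KE α⁻¹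
        (hK.A E hE _ ((Γ.𝔸 E).inv_mem hα)) (fun q _ => (α⁻¹ q).2)
        (hB _ ((Γ.𝔸 E).inv_mem hα)) (hW ▸ hw)) hx) with h1 | h1
  · exact absurd (h1.le ⟨H.zE, hzax⟩) H.zK
  · exact h1.ge.trans inf_le_right

/-- A member centralising `K` modulo `c` whose partner does not is impossible. -/
theorem no_twist (H : Heis p K E E' z e e') (hE : E ∈ Γ.ℰ) (hirr : Irr Γ K E)
    (hzax : z ∈ Ax) (hcc : c ≠ ⊥) (hzc : ∃ k ∈ K, QuotientGroup.mk' (phi K) ⁅z, k⁆ ≠ 1)
    (hKA : ∀ d ∈ K.map (QuotientGroup.mk' (phi K)), d ∉ A →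
      A ⊔ Subgroup.zpowers d = K.map (QuotientGroup.mk' (phi K)))
    (hcK : p ^ 2 * Nat.card c ≤ Nat.card (K.map (QuotientGroup.mk' (phi K))))
    (hEce : E ≤ Ce) (he'ce : e' ∉ Ce) {x : Y} (hxE : x ∈ E) (hxax : x ∉ Ax) : False := by
  obtain ⟨π, hπ⟩ : ∃ π, π = QuotientGroup.mk' (phi K) := ⟨_, rfl⟩
  rw [← hπ] at hzc hKA hcK
  have hY := h.pY
  have hs' := hs
  rw [← hπ] at hs'
  have hAx' : ∀ w, w ∈ Ax ↔ ∀ a ∈ A, Commute (π w) a := hπ ▸ hAx
  have hCe' : ∀ w, w ∈ Ce ↔ ∀ k ∈ K, π ⁅w, k⁆ ∈ c := hπ ▸ hCe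
  have hπ1 : ∀ {w}, π w = 1 ↔ w ∈ phi K := fun {w} => by
    rw [hπ, QuotientGroup.mk'_apply, QuotientGroup.eq_one_iff]
  haveI := hs.cn
  obtain ⟨θ, hθ⟩ : ∃ θ, θ = (QuotientGroup.mk' c).comp π := ⟨_, rfl⟩
  have hθ1 : ∀ {w}, θ w = 1 ↔ π w ∈ c := fun {w} => by
    rw [hθ, MonoidHom.comp_apply, QuotientGroup.mk'_apply, QuotientGroup.eq_one_iff]
  have hcentr : ∀ f ∈ E, ∀ k ∈ K, Commute (θ f) (θ k) := fun f hf k hk => by
    rw [← commutatorElement_eq_one_iff_commute, ← map_commutatorElement, hθ1]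
    exact (hCe' f).1 (hEce hf) k hk
  -- fixed points of `E` on `K / Φ(K)`
  have hfixed : ∀ k ∈ K, (∀ f ∈ E, Commute (π f) (π k)) → π k ∈ c := by
    intro k hk hh
    by_contra hkc
    by_cases hkA : π k ∈ A
    · refine hxax ((hAx' x).2 fun a ha => ?_)
      have hle : c ⊔ Subgroup.zpowers (π k) ≤ Subgroup.centralizer {π x} :=
        sup_le (fun d hd => Subgroup.mem_centralizer_singleton_iff.2 (hs.fix (π x) d hd).symm)
          (Subgroup.zpowers_le.2 (Subgroup.mem_centralizer_singleton_iff.2 (hh x hxE).symm.eq))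
      rw [hcA _ hkA hkc] at hle
      exact (Subgroup.mem_centralizer_singleton_iff.1 (hle ha) : a * π x = π x * a).symm
    · obtain ⟨k', hk', hne⟩ := hzc
      refine hne ?_
      rw [map_commutatorElement, commutatorElement_eq_one_iff_commute]
      have hle : A ⊔ Subgroup.zpowers (π k) ≤ Subgroup.centralizer {π z} :=
        sup_le (fun a ha => Subgroup.mem_centralizer_singleton_iff.2 ((hAx' z).1 hzax a ha).symm.eq)
          (Subgroup.zpowers_le.2 (Subgroup.mem_centralizer_singleton_iff.2 (hh z H.zE).symm.eq))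
      rw [hKA _ ⟨k, hk, rfl⟩ hkA] at hle
      exact (Subgroup.mem_centralizer_singleton_iff.1 (hle ⟨k', hk', rfl⟩) :
        π k' * π z = π z * π k').symm
  obtain ⟨u, hu, hr⟩ := H.rel
  obtain ⟨hc, -, -, -, hconj⟩ := H.quot_facts hr
  have hsupfix : ∀ d, π d ∈ A → Commute (θ e') (θ d) := fun d hd => by
    obtain ⟨w, hw, hwe⟩ := hs'.conjc (π e') hd
    have h1 : θ (e' * d * e'⁻¹) = θ d := by
      rw [hθ, MonoidHom.comp_apply, MonoidHom.comp_apply, map_mul π, map_mul π, map_inv π, hwe,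
        map_mul, show QuotientGroup.mk' c w = 1 from (QuotientGroup.eq_one_iff w).2 hw, mul_one]
    rw [map_mul, map_mul, map_inv, mul_inv_eq_iff_eq_mul] at h1
    exact h1
  -- the commutator `⁅e, z⁆`
  have hwK : ⁅e, z⁆ ∈ K := by rw [← commutatorElement_inv]; exact K.inv_mem (H.zc e)
  have hwA : π ⁅e, z⁆ ∈ A := by
    by_contra hwA
    obtain ⟨k1, hk1, h1⟩ : ∃ k ∈ K, θ e' * θ e * (θ e')⁻¹ = θ e * (θ z ^ u)⁻¹ * θ k := by
      refine ⟨(e * (z ^ u)⁻¹)⁻¹ * (e' * e * e'⁻¹), ?_, ?_⟩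
      · rw [← QuotientGroup.eq_one_iff (N := K), ← QuotientGroup.mk'_apply]
        have h2 := hconj 1
        rw [zpow_one, mul_one] at h2
        simp only [map_mul, map_inv, map_zpow]
        rw [h2, inv_mul_cancel]
      · rw [← map_zpow, ← map_inv, ← map_inv, ← map_mul, ← map_mul, ← map_mul, ← map_mul,
          mul_inv_cancel_left]
    obtain ⟨k2, hk2, h2⟩ : ∃ k ∈ K, θ e' * θ z * (θ e')⁻¹ = θ z * θ k :=
      ⟨z⁻¹ * (e' * z * e'⁻¹), by
        rw [← QuotientGroup.eq_one_iff (N := K), ← QuotientGroup.mk'_apply]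
        simp only [map_mul, map_inv]
        rw [← (hc _).eq, mul_inv_cancel_right, inv_mul_cancel],
        by rw [← map_inv, ← map_mul, ← map_mul, ← map_mul, mul_inv_cancel_left]⟩
    have hw : Commute (θ e') (θ ⁅e, z⁆) := by
      rw [map_commutatorElement]
      have h3 : θ e' * ⁅θ e, θ z⁆ * (θ e')⁻¹ = ⁅θ e, θ z⁆ := by
        rw [show θ e' * ⁅θ e, θ z⁆ * (θ e')⁻¹ =
          ⁅θ e' * θ e * (θ e')⁻¹, θ e' * θ z * (θ e')⁻¹⁆ by
            simp only [commutatorElement_def]; group, h1, h2]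
        have ca : Commute (θ e * (θ z ^ u)⁻¹) (θ k2) := by
          rw [← map_zpow, ← map_inv, ← map_mul]
          exact hcentr _ (E.mul_mem H.eE (E.inv_mem (E.zpow_mem H.zE u))) k2 hk2
        have cb : Commute (θ k1) (θ z * θ k2) :=
          (hcentr z H.zE k1 hk1).symm.mul_right (hcentr k1 (H.KE hk1) k2 hk2)
        obtain ⟨a, ha⟩ : ∃ a, a = θ e * (θ z ^ u)⁻¹ := ⟨_, rfl⟩
        rw [← ha] at ca ⊢
        obtain ⟨b, hb⟩ : ∃ b, b = θ z := ⟨_, rfl⟩
        rw [← hb] at cb ⊢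
        calc ⁅a * θ k1, b * θ k2⁆
            = a * (θ k1 * (b * θ k2) * (θ k1)⁻¹) * a⁻¹ * ((θ k2)⁻¹ * b⁻¹) := by
              simp only [commutatorElement_def]; group
          _ = a * b * (θ k2 * a⁻¹ * (θ k2)⁻¹) * b⁻¹ := by
              rw [cb.eq, mul_inv_cancel_right]; group
          _ = a * b * a⁻¹ * b⁻¹ := by rw [← ca.inv_left.eq, mul_inv_cancel_right]
          _ = θ e * ((θ z ^ u)⁻¹ * b * θ z ^ u) * (θ e)⁻¹ * b⁻¹ := by rw [ha]; group
          _ = ⁅θ e, b⁆ := by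
              rw [hb, ((Commute.refl (θ z)).zpow_left u).inv_left.eq, inv_mul_cancel_right,
                commutatorElement_def]
      rw [mul_inv_eq_iff_eq_mul] at h3
      exact h3
    refine he'ce ((hCe' e').2 fun k hk => ?_)
    rw [← hθ1, map_commutatorElement, commutatorElement_eq_one_iff_commute]
    have hle : A ⊔ Subgroup.zpowers (π ⁅e, z⁆) ≤
        (Subgroup.centralizer {θ e'}).comap (QuotientGroup.mk' c) := by
      refine sup_le (fun a ha => ?_) (Subgroup.zpowers_le.2 ?_)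
      · obtain ⟨d, rfl⟩ : ∃ d, π d = a := hπ ▸ QuotientGroup.mk'_surjective _ a
        have := hsupfix d ha
        rw [hθ] at this ⊢
        exact Subgroup.mem_centralizer_singleton_iff.2 this.symm.eq
      · rw [Subgroup.mem_comap, Subgroup.mem_centralizer_singleton_iff]
        rw [hθ] at hw ⊢
        exact hw.symm.eq
    rw [hKA _ ⟨_, hwK, rfl⟩ hwA] at hle
    have h4 := Subgroup.mem_centralizer_singleton_iff.1 (hle (Subgroup.mem_map_of_mem π hk))
    rw [hθ] at h4 ⊢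
    exact h4.symm
  have hwc : π ⁅e, z⁆ ∈ c := by
    by_contra hwc
    refine hxax (h.le_axis hK hs hcA hAx hCe H hE hirr hzax (B := E) le_rfl
      (fun α _ w _ => (α w).2) (fun a ha b hb => ?_) ?_
      ⟨e, H.eE, z, H.zE, hπ ▸ hwc⟩ hxE)
    · rw [← hπ]
      haveI := hs.An
      obtain ⟨q, hq⟩ : ∃ q, q = (QuotientGroup.mk' A).comp π := ⟨_, rfl⟩
      have hq1 : ∀ {w}, q w = 1 ↔ π w ∈ A := fun {w} => by
        rw [hq, MonoidHom.comp_apply, QuotientGroup.mk'_apply, QuotientGroup.eq_one_iff]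
      have hqk : ∀ k ∈ K, ∀ w, Commute (q k) (q w) := fun k hk w => by
        obtain ⟨v, hv, hve⟩ := hs'.conjA (π w) (Subgroup.mem_map_of_mem π hk)
        have h1 : q (w * k * w⁻¹) = q k := by
          rw [hq, MonoidHom.comp_apply, MonoidHom.comp_apply, map_mul π, map_mul π, map_inv π, hve,
            map_mul, show QuotientGroup.mk' A v = 1 from (QuotientGroup.eq_one_iff v).2 hv, mul_one]
        rw [map_mul, map_mul, map_inv, mul_inv_eq_iff_eq_mul] at h1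
        exact h1.symm
      have hez : Commute (q e) (q z) := by
        rw [← commutatorElement_eq_one_iff_commute, ← map_commutatorElement, hq1]; exact hwA
      rw [← hq1, map_commutatorElement, commutatorElement_eq_one_iff_commute]
      obtain ⟨k, hk, i, j, rfl⟩ := H.gen a ha
      obtain ⟨k', hk', i', j', rfl⟩ := H.gen b hb
      have h0 : Commute (q (z ^ i * e ^ j)) (q (z ^ i' * e ^ j')) := by
        simp only [map_mul, map_pow]
        exact Commute.mul_left (Commute.mul_right ((Commute.refl _).pow_pow i i')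
          (hez.symm.pow_pow i j')) (Commute.mul_right (hez.pow_pow j i') ((Commute.refl _).pow_pow j j'))
      rw [map_mul q (z ^ i * e ^ j) k, map_mul q (z ^ i' * e ^ j') k']
      exact Commute.mul_left (h0.mul_right (hqk k' hk' _).symm) (by rw [← map_mul]; exact hqk k hk _)
    · rw [← hπ]
      obtain ⟨k', hk', hne⟩ := hzc
      have hmem : π ⁅z, k'⁆ ∈ c := (hCe' z).1 (hEce H.zE) k' hk'
      refine le_trans (Subgroup.eq_of_le_of_card_ge (Subgroup.zpowers_le.2 hmem) ?_).ge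
        (Subgroup.zpowers_le.2 ⟨_, Subgroup.mem_sup_left
          (Subgroup.commutator_mem_commutator H.zE (H.KE hk')), rfl⟩)
      rw [Nat.card_zpowers, orderOf_eq_prime (hs.pow _ (hs.le hmem)) hne]
      exact hs.cardc
  have hθab : ∀ a ∈ E, ∀ b ∈ E, Commute (θ a) (θ b) := fun a ha b hb => by
    have hez : Commute (θ e) (θ z) := by
      rw [← commutatorElement_eq_one_iff_commute, ← map_commutatorElement, hθ1]; exact hwc
    obtain ⟨k, hk, i, j, rfl⟩ := H.gen a ha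
    obtain ⟨k', hk', i', j', rfl⟩ := H.gen b hb
    have h0 : Commute (θ (z ^ i * e ^ j)) (θ (z ^ i' * e ^ j')) := by
      simp only [map_mul, map_pow]
      exact Commute.mul_left (Commute.mul_right ((Commute.refl _).pow_pow i i')
        (hez.symm.pow_pow i j')) (Commute.mul_right (hez.pow_pow j i') ((Commute.refl _).pow_pow j j'))
    rw [map_mul θ (z ^ i * e ^ j) k, map_mul θ (z ^ i' * e ^ j') k']
    have hm : z ^ i * e ^ j ∈ E := E.mul_mem (E.pow_mem H.zE i) (E.pow_mem H.eE j)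
    exact Commute.mul_left (h0.mul_right (hcentr _ hm k' hk'))
      (by rw [← map_mul]; exact (hcentr _ hb k hk).symm)
  have hpow : ∀ f ∈ E, π (f ^ p) ∈ c := by
    intro f hf
    have hfpK : f ^ p ∈ K := H.phi_le hY (pow_phi hY hf)
    refine hfixed _ hfpK fun w hw => ?_
    obtain ⟨v, hv⟩ : ∃ v, v = w⁻¹ * (f * w * f⁻¹) := ⟨_, rfl⟩
    have hvK : v ∈ K := by
      refine H.phi_le hY ?_
      have h1 := comm_phi hY (E.inv_mem hw) hf
      rwa [commutatorElement_def, inv_inv, mul_assoc, mul_assoc, ← mul_assoc f, ← hv] at h1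
    have hd : π (v⁻¹ * (f * v * f⁻¹)) ∈ c := by
      rw [← hθ1]
      simp only [map_mul, map_inv]
      rw [(hcentr f hf v hvK).eq, mul_inv_cancel_right, inv_mul_cancel]
    have h1 : π f * π w * (π f)⁻¹ = π w * π v := by
      rw [hv, ← map_inv, ← map_mul, ← map_mul, ← map_mul, mul_inv_cancel_left]
    have h2 : π f * π v * (π f)⁻¹ = π v * π (v⁻¹ * (f * v * f⁻¹)) := by
      rw [← map_inv, ← map_mul, ← map_mul, ← map_mul, mul_inv_cancel_left]
    have h3 := conj_pow_fix h.podd h1 h2 (by rw [hs.fix (π f) _ hd, mul_inv_cancel_right])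
      (hs'.comm _ ⟨v, hvK, rfl⟩ _ (hs'.le hd)) (hs'.pow _ ⟨v, hvK, rfl⟩) (hs'.pow _ (hs'.le hd))
    rw [map_pow]
    exact Commute.symm h3
  have h3 := relIndex_le (p := p) h.rank (N := c.comap π) (H := E)
    (fun g _ y hy => (hs.cn.comap π).conj_mem y hy g)
    (fun a ha b hb => by
      rw [Subgroup.mem_comap, ← hθ1, map_commutatorElement, commutatorElement_eq_one_iff_commute]
      exact hθab a ha b hb)
    hpow
  have hNK : c.comap π ≤ K := fun y hy => by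
    obtain ⟨k, hk, hke⟩ := hs'.le hy
    have h1 : k⁻¹ * y ∈ phi K := hπ1.1 (by rw [map_mul, map_inv, hke, inv_mul_cancel])
    have h2 := K.mul_mem hk (phi_le K h1)
    rwa [mul_inv_cancel_left] at h2
  rw [← Subgroup.relIndex_mul_relIndex _ K E hNK H.KE, Subgroup.relIndex_comap] at h3
  have h4 : p ^ 2 ≤ c.relIndex (K.map π) := by
    have h5 := Subgroup.relIndex_mul_relIndex ⊥ c (K.map π) bot_le hs'.le
    rw [Subgroup.relIndex_bot_left, Subgroup.relIndex_bot_left] at h5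
    refine Nat.le_of_mul_le_mul_right ?_ (Nat.card_pos (α := c))
    rw [← h5, mul_comm (Nat.card c)] at hcK
    exact hcK
  have h6 := (Nat.mul_le_mul h4 (H.card_ge hY)).trans h3
  rw [← pow_add] at h6
  exact absurd ((Nat.pow_le_pow_iff_right hp.out.one_lt).1 h6) (by norm_num)

end Sys.Good

/-- The Heisenberg pair with a nontrivial action is impossible. -/
theorem Sys.Good.no_small_act (h : Γ.Good p) (hK : Γ.Inv K) [K.Normal] [(phi K).Normal]
    (H : Heis p K E E' z e e') (hE : E ∈ Γ.ℰ) (hE' : E' ∈ Γ.ℰ) (ht : TrivOn K E) (ht' : TrivOn K E')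
    (hact : ¬ ∀ y : Y, y ∈ actKer K) : False := by
  classical
  have hY := h.pY
  have hpp := hp.out
  obtain ⟨π, hπ⟩ : ∃ π, π = QuotientGroup.mk' (phi K) := ⟨_, rfl⟩
  have hπ1 : ∀ {w}, π w = 1 ↔ w ∈ phi K := fun {w} => by
    rw [hπ, QuotientGroup.mk'_apply, QuotientGroup.eq_one_iff]
  obtain ⟨A, c, hs⟩ := exists_series (hY.to_quotient (phi K)) (quot_rank h.rank)
    ((inferInstance : K.Normal).map _ (QuotientGroup.mk'_surjective _))
    (elem_map_phi (p := p) (K := K) hY)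
  have hirr := H.irr h hK hE ht
  have hirr' := H.symm.irr h hK hE' ht'
  have hKe := hs
  rw [← hπ] at hKe
  have hzact : z ∉ actKer K := by
    intro hz
    refine hact ?_
    have hone : ∀ {E₁ : Subgroup Y}, E₁ ∈ Γ.ℰ → z ∈ E₁ → Irr Γ K E₁ → E₁ ≤ actKer K := by
      intro E₁ hE₁ hzE₁ hirr₁
      rcases hirr₁ (E₁ ⊓ actKer K) (le_inf (hK.le E₁ hE₁) (self_le_actKer hY)) inf_le_left
        (fun α hα w hw => hK.actKer_inter hY hE₁ hα hw) with h1 | h1
      · exact absurd (h1.le ⟨hzE₁, hz⟩) H.zK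
      · exact h1.ge.trans inf_le_right
    exact le_of_member_le (h.idx E hE) (hone hE H.zE hirr) (hone hE' H.zE' hirr' H.eE'') H.e'E
  obtain ⟨u, hu, hr⟩ := H.rel
  -- membership of `z` from the commutator
  have hzmem : ∀ C : Subgroup Y, K ≤ C → ⁅e, e'⁆ ∈ C → z ∈ C := fun C hKC hC => by
    refine mem_of_zpow_mem (hKC H.zp) hu ?_
    have h1 := C.mul_mem hC (C.inv_mem (hKC hr))
    rwa [mul_inv_rev, inv_inv, mul_inv_cancel_left] at h1
  have hKabel : ∀ k ∈ K, ∀ k' ∈ K, π ⁅k, k'⁆ = 1 := fun k hk k' hk' => hπ1.2 (comm_phi hY hk hk')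
  have hcc : c ≠ ⊥ := by
    intro hc
    refine hzact (hzmem _ (self_le_actKer hY) (mem_actKer.2 fun k hk => ?_))
    rw [map_commutatorElement]
    exact hs.comm_of_fixed hc _ _ ⟨k, hk, rfl⟩
  obtain ⟨Ce, hCe0⟩ : ∃ Ce : Subgroup Y, ∀ x, x ∈ Ce ↔ ∀ k ∈ K, ⁅x, k⁆ ∈ c.comap π := by
    haveI := hs.cn.comap π
    exact exists_centMod (c.comap π) K
  have hCe : ∀ x, x ∈ Ce ↔ ∀ k ∈ K, π ⁅x, k⁆ ∈ c := hCe0
  obtain ⟨Ax, hAx⟩ : ∃ Ax : Subgroup Y, ∀ x, x ∈ Ax ↔ ∀ a ∈ A, Commute (π x) a := by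
    refine ⟨(Subgroup.centralizer (A : Set (Y ⧸ phi K))).comap π, fun x => ?_⟩
    rw [Subgroup.mem_comap, Subgroup.mem_centralizer_iff]
    exact ⟨fun hh a ha => (hh a ha).symm, fun hh a ha => (hh a ha).symm⟩
  have hKax : K ≤ Ax := fun k hk => (hAx k).2 fun a ha =>
    hKe.comm _ ⟨k, hk, rfl⟩ _ (hKe.Ale ha)
  have hKce : K ≤ Ce := fun k hk => (hCe k).2 fun k' hk' => by
    rw [hKabel k hk k' hk']; exact c.one_mem
  have hzax : z ∈ Ax := hzmem Ax hKax ((hAx _).2 fun a ha => by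
    rw [map_commutatorElement]; exact hKe.comm_fix _ _ ha)
  have hcomc : ∀ g, ∀ k ∈ K, k⁻¹ * (g * k * g⁻¹) ∈ K ∧
      ((π k)⁻¹ * (π g * π k * (π g)⁻¹) ∈ c ↔ π ⁅g, k⁆ ∈ c) := fun g k hk => by
    refine ⟨K.mul_mem (K.inv_mem hk) ((inferInstance : K.Normal).conj_mem _ hk g), ?_⟩
    rw [show π ⁅g, k⁆ = π k * ((π k)⁻¹ * (π g * π k * (π g)⁻¹)) * (π k)⁻¹ by
      rw [map_commutatorElement, commutatorElement_def]; group]
    constructor
    · exact fun h1 => hKe.cn.conj_mem _ h1 _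
    · intro h1
      have h2 := hKe.cn.conj_mem _ h1 (π k)⁻¹
      simpa [mul_assoc] using h2
  have hzce : z ∈ Ce := hzmem Ce hKce ((hCe _).2 fun k hk => by
    rw [← (hcomc _ k hk).2, map_commutatorElement]
    exact hKe.comm_into _ _ ⟨k, hk, rfl⟩)
  obtain ⟨k0, hk0, hk0ne⟩ : ∃ k ∈ K, π ⁅z, k⁆ ≠ 1 := by
    by_contra hcon
    push Not at hcon
    exact hzact (mem_actKer'.2 fun k hk => hπ1.1 (hcon k hk))
  have hcard : Nat.card c = p ∧ Nat.card A = p ^ 2 ∧
      Nat.card (K.map π) = p ^ 3 := by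
    have hc1 : Nat.card c = p := by
      obtain ⟨i, hi⟩ := ((hY.to_quotient (phi K)).to_subgroup c).exists_card_eq
      have hi0 : i ≠ 0 := fun e0 => hcc (Subgroup.card_eq_one.1 (hi.trans (by rw [e0, pow_zero])))
      exact le_antisymm hs.cardc (hi ▸ Nat.le_self_pow hi0 p)
    obtain ⟨a, ha, hac⟩ : ∃ a ∈ A, a ∉ c := by
      by_contra hcon
      push Not at hcon
      refine hzact (hzmem _ (self_le_actKer hY) (mem_actKer.2 fun k hk => ?_))
      rw [map_commutatorElement]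
      exact comm_trivial hs.Kn (N := A) (H := Set.univ) (fun g _ => hs.stepK g)
        (fun g _ n hn => hs.fix g n (hcon n hn))
        (fun a ha b hb => hs.comm a (hs.Ale ha) b (hs.Ale hb)) (Set.mem_univ _) (Set.mem_univ _)
        ⟨k, hk, rfl⟩
    have hA := card_mul_le (hY.to_quotient (phi K)) hs.cle ha hac
    rw [hc1, ← pow_two] at hA
    have hA2 : Nat.card A = p ^ 2 := le_antisymm hs.cardA hA
    obtain ⟨d, hd, hdA⟩ : ∃ d ∈ K.map π, d ∉ A := by
      by_contra hcon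
      push Not at hcon
      refine hk0ne ?_
      rw [map_commutatorElement, commutatorElement_eq_one_iff_commute]
      exact (hAx z).1 hzax _ (hcon _ ⟨k0, hk0, rfl⟩)
    have hK3 := card_mul_le (hY.to_quotient (phi K)) hKe.Ale hd hdA
    rw [hA2, ← pow_succ'] at hK3
    refine ⟨hc1, hA2, le_antisymm ?_ hK3⟩
    exact Elem.card_le (quot_rank h.rank) ⟨hKe.comm, hKe.pow⟩
  obtain ⟨hc1, hA2, hK3⟩ := hcard
  have hcA : ∀ d ∈ A, d ∉ c → c ⊔ Subgroup.zpowers d = A := fun d hd hdc => by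
    refine Subgroup.eq_of_le_of_card_ge (sup_le hs.cle (Subgroup.zpowers_le.2 hd)) ?_
    have h1 := card_mul_le (hY.to_quotient (phi K)) (le_sup_left : c ≤ c ⊔ Subgroup.zpowers d)
      (Subgroup.mem_sup_right (Subgroup.mem_zpowers d)) hdc
    rwa [hc1, ← pow_two, ← hA2] at h1
  have hKA : ∀ d ∈ K.map π, d ∉ A → A ⊔ Subgroup.zpowers d = K.map π := fun d hd hdA => by
    refine Subgroup.eq_of_le_of_card_ge (sup_le hKe.Ale (Subgroup.zpowers_le.2 hd)) ?_
    have h1 := card_mul_le (hY.to_quotient (phi K)) (le_sup_left : A ≤ A ⊔ Subgroup.zpowers d)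
      (Subgroup.mem_sup_right (Subgroup.mem_zpowers d)) hdA
    rwa [hA2, ← pow_succ', ← hK3] at h1
  have hcK : p ^ 2 * Nat.card c ≤ Nat.card (K.map π) := by rw [hc1, hK3, ← pow_succ]
  have hzc : c ≤ Subgroup.zpowers (π ⁅z, k0⁆) := (Subgroup.eq_of_le_of_card_ge
    (Subgroup.zpowers_le.2 ((hCe z).1 hzce k0 hk0)) (by
      rw [Nat.card_zpowers, orderOf_eq_prime (hKe.pow _ (hKe.le ((hCe z).1 hzce k0 hk0))) hk0ne, hc1])).ge
  subst hπ
  have hdich : ∀ {E₁ E₂ : Subgroup Y} {e₁ e₂ : Y}, Heis p K E₁ E₂ z e₁ e₂ → E₁ ∈ Γ.ℰ → Irr Γ K E₁ →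
      ¬ E₁ ≤ Ce → E₁ ≤ Ax := by
    intro E₁ E₂ e₁ e₂ H₁ hE₁ hirr₁ hnot
    obtain ⟨y, hy, hyc⟩ := SetLike.not_le_iff_exists.1 hnot
    rw [hCe] at hyc
    push Not at hyc
    obtain ⟨k, hk, hyk⟩ := hyc
    refine h.le_axis hK hs hcA hAx hCe H₁ hE₁ hirr₁ hzax (B := K) H₁.KE
      (fun α hα w hw => hK.A E₁ hE₁ α hα w hw) (fun a _ b hb => ?_) ?_ ⟨y, hy, k, hk, hyk⟩
    · rw [map_commutatorElement, commutatorElement_def]
      have h1 := hs.An.conj_mem _ (hs.stepK (QuotientGroup.mk' (phi K) a) _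
        (Subgroup.mem_map_of_mem (QuotientGroup.mk' (phi K)) hb)) (QuotientGroup.mk' (phi K) b)
      simpa [mul_assoc] using h1
    · exact hzc.trans (Subgroup.zpowers_le.2 ⟨_, Subgroup.mem_sup_left
        (Subgroup.commutator_mem_commutator H₁.zE hk0), rfl⟩)
  have hgenC : ∀ {E₁ E₂ : Subgroup Y} {e₁ e₂ : Y}, Heis p K E₁ E₂ z e₁ e₂ →
      ∀ C : Subgroup Y, K ≤ C → z ∈ C → e₁ ∈ C → E₁ ≤ C := by
    intro E₁ E₂ e₁ e₂ H₁ C hKC hzC heC w hw
    obtain ⟨k, hk, i, j, rfl⟩ := H₁.gen w hw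
    exact C.mul_mem (C.mul_mem (C.pow_mem hzC i) (C.pow_mem heC j)) (hKC hk)
  have htop : ∀ C : Subgroup Y, K ≤ C → E ≤ C → E' ≤ C → ∀ y, y ∈ C := fun C _ h1 h2 =>
    le_of_member_le (h.idx E hE) h1 (h2 H.eE'') H.e'E
  by_cases hCE : E ≤ Ce
  · by_cases hCE' : E' ≤ Ce
    · -- everything moves `K` into `c`
      refine hzact (hzmem _ (self_le_actKer hY) (mem_actKer.2 fun k hk => ?_))
      rw [map_commutatorElement]
      exact comm_trivial hs.Kn (N := c) (H := Set.univ) (fun g _ m hm => by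
          obtain ⟨g, rfl⟩ := QuotientGroup.mk'_surjective (phi K) g
          obtain ⟨m, hm, rfl⟩ := hm
          exact (hcomc g m hm).2.2 ((hCe g).1 (htop Ce hKce hCE hCE' g) m hm))
        (fun g _ => hs.fix g) (fun a ha b hb => hs.comm a (hs.le ha) b (hs.le hb))
        (Set.mem_univ _) (Set.mem_univ _) ⟨k, hk, rfl⟩
    · have he' : e' ∉ Ce := fun hh => hCE' (hgenC H.symm Ce hKce hzce hh)
      have hE'ax := hdich H.symm hE' hirr' hCE'
      by_cases hEax : E ≤ Ax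
      · refine hzact (hzmem _ (self_le_actKer hY) (mem_actKer.2 fun k hk => ?_))
        rw [map_commutatorElement]
        exact comm_trivial hs.Kn (N := A) (H := Set.univ) (fun g _ => hs.stepK g)
          (fun g _ n hn => by
            obtain ⟨g, rfl⟩ := QuotientGroup.mk'_surjective (phi K) g
            exact ((hAx g).1 (htop Ax hKax hEax hE'ax g) n hn).eq)
          (fun a ha b hb => hs.comm a (hs.Ale ha) b (hs.Ale hb)) (Set.mem_univ _) (Set.mem_univ _)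
          ⟨k, hk, rfl⟩
      · obtain ⟨x, hx, hxa⟩ := SetLike.not_le_iff_exists.1 hEax
        exact h.no_twist hK hs hcA hAx hCe H hE hirr hzax hcc ⟨k0, hk0, hk0ne⟩ hKA hcK hCE he' hx hxa
  · have hEax := hdich H hE hirr hCE
    by_cases hE'ax : E' ≤ Ax
    · refine hzact (hzmem _ (self_le_actKer hY) (mem_actKer.2 fun k hk => ?_))
      rw [map_commutatorElement]
      exact comm_trivial hs.Kn (N := A) (H := Set.univ) (fun g _ => hs.stepK g)
        (fun g _ n hn => by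
          obtain ⟨g, rfl⟩ := QuotientGroup.mk'_surjective (phi K) g
          exact ((hAx g).1 (htop Ax hKax hEax hE'ax g) n hn).eq)
        (fun a ha b hb => hs.comm a (hs.Ale ha) b (hs.Ale hb)) (Set.mem_univ _) (Set.mem_univ _)
        ⟨k, hk, rfl⟩
    · have hCE' : E' ≤ Ce := by
        by_contra hn
        exact hE'ax (hdich H.symm hE' hirr' hn)
      have he : e ∉ Ce := fun hh => hCE (hgenC H Ce hKce hzce hh)
      obtain ⟨x, hx, hxa⟩ := SetLike.not_le_iff_exists.1 hE'ax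
      exact h.no_twist hK hs hcA hAx hCe H.symm hE' hirr' hzax hcc ⟨k0, hk0, hk0ne⟩ hKA hcK hCE' he hx hxa

end CfsgLib.RankThreeAmalgam
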