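import Cfsg.Agent.Lib.Fusion.RankThreeAmalgam.Sys

/-!
Elementary abelian subgroups and sections, and indices of intersections.
-/

set_option autoImplicit false
set_option linter.style.haveILetI false
set_option linter.unusedSectionVars false

namespace CfsgLib.RankThreeAmalgam

open Cfsg CfsgLib.RankThree
open scoped commutatorElement

variable {Y : Type*} [Group Y] [Finite Y] {p : ℕ} [hp : Fact p.Prime]

/-- Abelian of exponent dividing `p`. -/
def Elem (p : ℕ) (A : Subgroup Y) : Prop :=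
  (∀ a ∈ A, ∀ b ∈ A, a * b = b * a) ∧ ∀ a ∈ A, a ^ p = 1

theorem elem_closure {s : Set Y} (hc : ∀ x ∈ s, ∀ y ∈ s, x * y = y * x)
    (hp' : ∀ x ∈ s, x ^ p = 1) : Elem p (Subgroup.closure s) := by
  have hcomm : ∀ a ∈ Subgroup.closure s, ∀ b ∈ Subgroup.closure s, a * b = b * a :=
    fun a ha b hb => closure_comm hc ha hb
  refine ⟨hcomm, fun a ha => ?_⟩
  induction ha using Subgroup.closure_induction with
  | mem x hx => exact hp' x hx
  | one => exact one_pow p
  | mul x z hx hz ihx ihz => rw [Commute.mul_pow (hcomm x hx z hz), ihx, ihz, mul_one]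
  | inv x _ ihx => rw [inv_pow, ihx, inv_one]

theorem Elem.sup {A B : Subgroup Y} (hA : Elem p A) (hB : Elem p B)
    (h : ∀ a ∈ A, ∀ b ∈ B, a * b = b * a) : Elem p (A ⊔ B) := by
  rw [Subgroup.sup_eq_closure]
  refine elem_closure ?_ ?_
  · rintro x (hx | hx) y (hy | hy)
    exacts [hA.1 x hx y hy, h x hx y hy, (h y hy x hx).symm, hB.1 x hx y hy]
  · rintro x (hx | hx)
    exacts [hA.2 x hx, hB.2 x hx]

theorem Elem.zpowers {w : Y} (hw : w ^ p = 1) : Elem p (Subgroup.zpowers w) := by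
  rw [Subgroup.zpowers_eq_closure]
  refine elem_closure ?_ ?_
  · rintro x rfl y rfl; rfl
  · rintro x rfl; exact hw

theorem Elem.mono {A B : Subgroup Y} (hB : Elem p B) (h : A ≤ B) : Elem p A :=
  ⟨fun a ha b hb => hB.1 a (h ha) b (h hb), fun a ha => hB.2 a (h ha)⟩

theorem card_mul_le (hY : IsPGroup p Y) {A B : Subgroup Y} (h : A ≤ B) {w : Y} (hw : w ∈ B)
    (hwA : w ∉ A) : p * Nat.card A ≤ Nat.card B := by
  obtain ⟨i, hi⟩ := (hY.to_subgroup A).exists_card_eq
  obtain ⟨j, hj⟩ := (hY.to_subgroup B).exists_card_eq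
  rw [hi, hj, ← pow_succ']
  refine Nat.pow_le_pow_right hp.out.pos ?_
  by_contra hlt
  refine hwA ((Subgroup.eq_of_le_of_card_ge h ?_).ge hw)
  rw [hi, hj]
  exact Nat.pow_le_pow_right hp.out.pos (by omega)

/-- Rank three: elementary abelian subgroups. -/
theorem Elem.card_le (hr : Cfsg.SectionalPRankLE p 3 Y) {A : Subgroup Y} (hA : Elem p A) :
    Nat.card A ≤ p ^ 3 :=
  rank_of_section hr (H := (⊤ : Subgroup Y)) (φ := (Subgroup.topEquiv (G := Y)).toMonoidHom)
    (Subgroup.topEquiv (G := Y)).surjective A hA.1 hA.2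

/-- Rank three: elementary abelian sections. -/
theorem relIndex_le (hr : Cfsg.SectionalPRankLE p 3 Y) {N H : Subgroup Y}
    (hn : ∀ g ∈ H, ∀ y ∈ N, g * y * g⁻¹ ∈ N) (hc : ∀ a ∈ H, ∀ b ∈ H, ⁅a, b⁆ ∈ N)
    (hpw : ∀ a ∈ H, a ^ p ∈ N) : N.relIndex H ≤ p ^ 3 := by
  haveI hN : (N.subgroupOf H).Normal := ⟨fun z hz g => hn g g.2 z hz⟩
  have h1 := rank_of_section (p := p) (k := 3) hr (φ := QuotientGroup.mk' (N.subgroupOf H))
    (QuotientGroup.mk'_surjective _) ⊤
    (fun a _ b _ => by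
      obtain ⟨x, rfl⟩ := QuotientGroup.mk'_surjective _ a
      obtain ⟨y, rfl⟩ := QuotientGroup.mk'_surjective _ b
      rw [← commutatorElement_eq_one_iff_mul_comm, ← map_commutatorElement,
        QuotientGroup.mk'_apply, QuotientGroup.eq_one_iff]
      simpa [Subgroup.mem_subgroupOf, commutatorElement_def] using hc x x.2 y y.2)
    (fun a _ => by
      obtain ⟨x, rfl⟩ := QuotientGroup.mk'_surjective _ a
      rw [← map_pow, QuotientGroup.mk'_apply, QuotientGroup.eq_one_iff]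
      simpa [Subgroup.mem_subgroupOf] using hpw x x.2)
  rw [Subgroup.card_top] at h1
  exact h1

theorem inf_relIndex {E H : Subgroup Y} (hn : E.Normal) (hi : E.index = p) (hle : ¬ H ≤ E) :
    (E ⊓ H).relIndex H = p := by
  haveI := hn
  obtain ⟨w, hw, hwE⟩ := SetLike.not_le_iff_exists.1 hle
  have htop : H ⊔ E = ⊤ := eq_of_prime_index hi le_sup_right (Subgroup.mem_sup_left hw) hwE
  rw [Subgroup.inf_relIndex_right, ← Subgroup.relIndex_sup_right H E, htop,
    Subgroup.relIndex_top_right, hi]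

/-- Decomposition over a normal step of order `p` by an element of order `p`. -/
theorem decomp {D H : Subgroup Y} (hD : D ≤ H) (hi : D.relIndex H = p)
    (hn : ∀ g ∈ H, ∀ y ∈ D, g * y * g⁻¹ ∈ D) {w : Y} (hw : w ∈ H) (hwD : w ∉ D) (hwp : w ^ p = 1)
    {e : Y} (he : e ∈ H) : ∃ d ∈ D, ∃ i : ℕ, e = d * w ^ i := by
  obtain ⟨d, hd, z, hz, rfl⟩ := exists_decomp_of_prime hD hi (le_normalizer_of_conj hn) hw hwD
    (W := Subgroup.zpowers w) (Subgroup.zpowers_le.2 hw) (Subgroup.mem_zpowers w) e he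
  obtain ⟨i, rfl⟩ := (isOfFinOrder_iff_pow_eq_one.2
    ⟨p, hp.out.pos, hwp⟩).mem_powers_iff_mem_zpowers.2 hz
  exact ⟨d, hd, i, rfl⟩

end CfsgLib.RankThreeAmalgam
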