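import Cfsg.Agent.Lib.Fusion.RankThreeAmalgam.Sys
import Cfsg.Agent.Lib.Fusion.RankThreeAmalgam.Elem

/-!
The largest invariant subgroup, and Frattini arguments for the automizers.
-/

set_option autoImplicit false
set_option linter.style.haveILetI false
set_option linter.unusedSectionVars false

namespace CfsgLib.RankThreeAmalgam

open Cfsg CfsgLib.RankThree
open scoped commutatorElement

variable {Y : Type*} [Group Y]

/-- Invariant under all the automizers. -/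
structure Sys.Inv (Γ : Sys Y) (R : Subgroup Y) : Prop where
  B : ∀ φ ∈ Γ.𝔹, ∀ y ∈ R, φ y ∈ R
  le : ∀ E ∈ Γ.ℰ, R ≤ E
  A : ∀ E ∈ Γ.ℰ, ∀ α ∈ Γ.𝔸 E, ∀ e : E, (e : Y) ∈ R → (α e : Y) ∈ R

/-- The largest invariant subgroup. -/
theorem Sys.exists_inv_max (Γ : Sys Y) : ∃ K : Subgroup Y, Γ.Inv K ∧ ∀ R, Γ.Inv R → R ≤ K := by
  refine ⟨sSup {R | Γ.Inv R}, ⟨fun φ hφ => ?_, fun E hE => sSup_le fun R hR => hR.le E hE,
    fun E hE α hα e he => ?_⟩, fun R hR => le_sSup hR⟩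
  · have h1 : sSup {R | Γ.Inv R} ≤ (sSup {R | Γ.Inv R}).comap φ.toMonoidHom :=
      sSup_le fun R hR y hy => le_sSup (α := Subgroup Y) hR (hR.B φ hφ y hy)
    exact fun y hy => h1 hy
  · obtain ⟨K, hK⟩ : ∃ K, K = sSup {R | Γ.Inv R} := ⟨_, rfl⟩
    rw [← hK] at he ⊢
    have h1 : K ≤ ((K.subgroupOf E).comap α.toMonoidHom).map E.subtype := by
      conv_lhs => rw [hK]
      refine sSup_le fun R hR y hy => ⟨⟨y, hR.le E hE hy⟩, ?_, rfl⟩
      exact hK ▸ le_sSup (α := Subgroup Y) hR (hR.A E hE α hα ⟨y, hR.le E hE hy⟩ hy)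
    obtain ⟨e', he', hee⟩ := h1 he
    exact (Subtype.ext hee : e' = e) ▸ he'

variable [Finite Y] {p : ℕ} [hp : Fact p.Prime] {Γ : Sys Y}

theorem phi_normal_of_normal (hY : IsPGroup p Y) {K : Subgroup Y} (hK : K.Normal) :
    (phi K).Normal := by
  refine ⟨fun z hz g => ?_⟩
  have h1 : phi K ≤ (phi K).comap (MulAut.conj g).toMonoidHom := by
    refine phi_le_of (p := p) (fun e he w hw => ?_) (fun e he f hf => ?_) fun e he => ?_
    · show g * (e * w * e⁻¹) * g⁻¹ ∈ phi K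
      have hg := hK.conj_mem e he g
      have h2 : (g * e * g⁻¹) * (g * w * g⁻¹) * (g * e * g⁻¹)⁻¹ ∈ phi K := by
        have hm : g * w * g⁻¹ ∈ K := phi_le K hw
        have h3 := (phi K).mul_mem (comm_phi (p := p) hY hg hm) (show g * w * g⁻¹ ∈ phi K from hw)
        rwa [commutatorElement_def, inv_mul_cancel_right] at h3
      rwa [show g * (e * w * e⁻¹) * g⁻¹ = (g * e * g⁻¹) * (g * w * g⁻¹) * (g * e * g⁻¹)⁻¹ by group]
    · show g * ⁅e, f⁆ * g⁻¹ ∈ phi K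
      have h2 := comm_phi (p := p) hY (hK.conj_mem e he g) (hK.conj_mem f hf g)
      rwa [show g * ⁅e, f⁆ * g⁻¹ = ⁅g * e * g⁻¹, g * f * g⁻¹⁆ by
        simp only [commutatorElement_def]; group]
    · show g * e ^ p * g⁻¹ ∈ phi K
      rw [← conj_pow]
      exact pow_phi hY (hK.conj_mem e he g)
  exact h1 hz

/-- An automorphism of a larger subgroup preserving `K` preserves its Frattini subgroup. -/
theorem phi_invariant_of (hY : IsPGroup p Y) {E K : Subgroup Y} (hKE : K ≤ E) (α : MulAut E)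
    (hα : ∀ e : E, (e : Y) ∈ K → (α e : Y) ∈ K) {e : E} (he : (e : Y) ∈ phi K) :
    (α e : Y) ∈ phi K := by
  obtain ⟨R, hR⟩ : ∃ R : Subgroup Y,
      R = (((phi K).subgroupOf E).comap α.toMonoidHom).map E.subtype := ⟨_, rfl⟩
  have hmem : ∀ f : E, (f : Y) ∈ R ↔ (α f : Y) ∈ phi K := fun f => by
    rw [hR]
    exact ⟨fun ⟨f', hf', hff⟩ => (Subtype.ext hff : f' = f) ▸ hf', fun h => ⟨f, h, rfl⟩⟩
  have h1 : phi K ≤ R := by
    refine phi_le_of (p := p) (fun a ha w hw => ?_) (fun a ha b hb => ?_) fun a ha => ?_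
    · obtain ⟨w', hw', rfl⟩ := hR ▸ hw
      refine (hmem (⟨a, hKE ha⟩ * w' * ⟨a, hKE ha⟩⁻¹)).2 ?_
      rw [map_mul, map_mul, map_inv, Subgroup.coe_mul, Subgroup.coe_mul, Subgroup.coe_inv]
      have h3 := (phi K).mul_mem (comm_phi (p := p) hY (hα ⟨a, hKE ha⟩ ha) (phi_le K hw')) hw'
      rwa [commutatorElement_def, inv_mul_cancel_right] at h3
    · have h3 := (hmem ⁅(⟨a, hKE ha⟩ : E), ⟨b, hKE hb⟩⁆).2 (by
        rw [map_commutatorElement]
        simpa [commutatorElement_def] using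
          comm_phi (p := p) hY (hα ⟨a, hKE ha⟩ ha) (hα ⟨b, hKE hb⟩ hb))
      simpa [commutatorElement_def] using h3
    · refine (hmem ((⟨a, hKE ha⟩ : E) ^ p)).2 ?_
      rw [map_pow, SubgroupClass.coe_pow]
      exact pow_phi hY (hα ⟨a, hKE ha⟩ ha)
  exact (hmem e).1 (h1 he)

namespace Sys.Good

variable (h : Γ.Good p) {E : Subgroup Y}

include h

theorem autY_isPGroup (hE : E ∈ Γ.ℰ) : IsPGroup p (autY E) := by
  rintro ⟨σ, hσ⟩
  obtain ⟨g, hg⟩ := mem_autY.1 hσ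
  obtain ⟨k, hk⟩ := h.pY g
  refine ⟨k, Subtype.ext (MulEquiv.ext fun e => Subtype.ext ?_)⟩
  have hit : ∀ j : ℕ, ((σ ^ j) e : Y) = g ^ j * e * (g ^ j)⁻¹ := by
    intro j
    induction j with
    | zero => simp
    | succ j ih => rw [pow_succ', MulAut.mul_apply, hg, ih, pow_succ']; group
  simp [hit, hk]

/-- The induced automorphisms form a Sylow subgroup of every group of automorphisms containing them. -/
theorem exists_sylow (hE : E ∈ Γ.ℰ) {M : Subgroup (MulAut E)} (hM : M ≤ Γ.𝔸 E) (hT : autY E ≤ M) :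
    ∃ P : Sylow p M, (P : Subgroup M) = (autY E).subgroupOf M := by
  haveI := CfsgLib.Fusion.finite_mulAut E
  obtain ⟨P, hP⟩ := ((h.autY_isPGroup hE).comap_subtype (K := M)).exists_le_sylow
  refine ⟨P, (le_antisymm hP fun x hx => ?_).symm⟩
  have h1 := h.max E hE ((P : Subgroup M).map M.subtype) ((Subgroup.map_subtype_le _).trans hM)
    (P.2.map _) (fun y hy => ⟨⟨y, hT hy⟩, hP hy, rfl⟩)
  exact h1 ⟨x, hx, rfl⟩

/-- The Frattini argument. -/
theorem exists_adjust (hE : E ∈ Γ.ℰ) {M : Subgroup (MulAut E)} (hM : M ≤ Γ.𝔸 E) (hT : autY E ≤ M)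
    {α : MulAut E} (hn : ∀ x ∈ M, α * x * α⁻¹ ∈ M) :
    ∃ m ∈ M, ∀ u ∈ autY E, (m * α) * u * (m * α)⁻¹ ∈ autY E := by
  haveI := CfsgLib.Fusion.finite_mulAut E
  obtain ⟨P, hP⟩ := h.exists_sylow hE hM hT
  have hp' : IsPGroup p (((autY E).map (MulAut.conj α).toMonoidHom).subgroupOf M) :=
    ((h.autY_isPGroup hE).map _).comap_subtype
  obtain ⟨Q, hQ⟩ := hp'.exists_le_sylow
  obtain ⟨m, hm⟩ := MulAction.exists_smul_eq M Q P
  refine ⟨(m : MulAut E), m.2, fun u hu => ?_⟩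
  have h1 : (⟨α * u * α⁻¹, hn u (hT hu)⟩ : M) ∈ (Q : Subgroup M) := hQ ⟨u, hu, rfl⟩
  have h2 : m * (⟨α * u * α⁻¹, hn u (hT hu)⟩ : M) * m⁻¹ ∈ (P : Subgroup M) := by
    rw [← hm, Sylow.coe_subgroup_smul, Subgroup.mem_pointwise_smul_iff_inv_smul_mem]
    simpa [mul_assoc] using h1
  rw [hP, Subgroup.mem_subgroupOf] at h2
  simpa [mul_assoc] using h2

/-- The induced automorphisms are not normal modulo those trivial on a factor they stabilise. -/
theorem no_normal_image (hE : E ∈ Γ.ℰ) {C : Subgroup Y}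
    (hCi : ∀ α ∈ Γ.𝔸 E, ∀ e : E, (e : Y) ∈ C → (α e : Y) ∈ C)
    (hstab : ∀ g : Y, ∀ y ∈ C, y⁻¹ * (g * y * g⁻¹) ∈ phi E) {U : Subgroup (MulAut E)}
    (hU : U ≤ Γ.𝔸 E) (hUn : ∀ a ∈ Γ.𝔸 E, ∀ u ∈ U, a * u * a⁻¹ ∈ U) (hT : autY E ≤ U)
    (hUp : ∀ u ∈ U, ∃ k, ∀ e : E, (e : Y)⁻¹ * (u ^ p ^ k) e ∈ C) : False := by
  haveI := CfsgLib.Fusion.finite_mulAut E
  haveI := h.phi_normal hE
  obtain ⟨V, hV⟩ : ∃ V : Subgroup (MulAut E), ∀ u, u ∈ V ↔ u ∈ U ∧
      ∀ e : E, (e : Y) ∈ C → (e : Y)⁻¹ * u e ∈ phi E := by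
    refine ⟨{ carrier := {u | u ∈ U ∧ ∀ e : E, (e : Y) ∈ C → (e : Y)⁻¹ * u e ∈ phi E}
              one_mem' := ⟨U.one_mem, fun e _ => by simp⟩
              mul_mem' := fun {a b} ha hb => ⟨U.mul_mem ha.1 hb.1, fun e he => ?_⟩
              inv_mem' := fun {a} ha => ⟨U.inv_mem ha.1, fun e he => ?_⟩ }, fun u => Iff.rfl⟩
    · have h1 := (phi E).mul_mem (hb.2 e he) (ha.2 (b e) (hCi b (hU hb.1) e he))
      rwa [mul_assoc, mul_inv_cancel_left] at h1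
    · have h1 := (phi E).inv_mem (ha.2 (a⁻¹ e) (hCi _ ((Γ.𝔸 E).inv_mem (hU ha.1)) e he))
      rwa [MulAut.apply_inv_self, mul_inv_rev, inv_inv] at h1
  refine h.notNormal E hE V (fun u hu => hU ((hV u).1 hu).1) ?_ (fun a ha u hu => ?_) fun u hu => ?_
  · rintro ⟨u, hu⟩
    obtain ⟨k, hk⟩ := hUp u ((hV u).1 hu).1
    have hu' : u ^ p ^ k ∈ V := V.pow_mem hu _
    have hs : u ^ p ^ k ∈ stab E C C := mem_stab.2
      ⟨fun e he => hCi _ (hU ((hV _).1 hu').1) e he, fun e he => hCi _ (hU ((hV _).1 hu').1) e he,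
        ((hV _).1 hu').2, fun e _ => hk e, hk⟩
    obtain ⟨j, hj⟩ := isPGroup_stab h.pY E C C ⟨_, hs⟩
    refine ⟨k + j, Subtype.ext ?_⟩
    rw [pow_add, pow_mul]
    simpa using congrArg Subtype.val hj
  · refine (hV _).2 ⟨hUn a ha u ((hV u).1 hu).1, fun e he => ?_⟩
    obtain ⟨f, rfl⟩ := a.surjective e
    rw [MulAut.mul_apply, MulAut.mul_apply, MulAut.inv_apply_self, ← Subgroup.coe_inv,
      ← map_inv, ← Subgroup.coe_mul, ← map_mul]
    refine phi_invariant a ?_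
    simpa using ((hV u).1 hu).2 f (by simpa using hCi a⁻¹ ((Γ.𝔸 E).inv_mem ha) _ he)
  · obtain ⟨g, hg⟩ := mem_autY.1 hu
    exact (hV u).2 ⟨hT hu, fun e he => by rw [hg]; exact hstab g e he⟩

end Sys.Good

end CfsgLib.RankThreeAmalgam
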