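import Cfsg.Agent.Lib.Fusion.RankThreeAmalgam.Sys
import Cfsg.Agent.Lib.Fusion.RankThree.Ess
import Cfsg.Agent.Lib.HSub.Fusion

/-!
Normal essential subgroups of a system of sectional rank three as a family of maximal subgroups.
-/

set_option autoImplicit false
set_option linter.style.haveILetI false
set_option linter.unusedSectionVars false

namespace CfsgLib.RankThreeAmalgam

open Cfsg Cfsg.FusionSystem CfsgLib.Fusion CfsgLib.RankThree CfsgLib.Fusion.EssentialFlag

universe u

/-- A strongly embedded subgroup is transported by an isomorphism. -/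
theorem exists_strong_congr {p : ℕ} [Fact p.Prime] {G G' : Type*} [Group G] [Group G'] [Finite G] [Finite G']
    (e : G ≃* G') (h : ∃ H : Subgroup G, Cfsg.IsStronglyPEmbedded p H) :
    ∃ H : Subgroup G', Cfsg.IsStronglyPEmbedded p H := by
  obtain ⟨H, hH⟩ := h
  obtain ⟨htop, hpH, hN⟩ := Strong.isStronglyPEmbedded_iff.1 hH
  refine ⟨H.map e.toMonoidHom, Strong.isStronglyPEmbedded_iff.2
    ⟨fun e1 => htop ?_, ?_, fun Q hQ hQH hne n hn' => ?_⟩⟩
  · exact Subgroup.map_injective e.injective (by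
      rw [e1, Subgroup.map_top_of_surjective _ e.surjective])
  · rwa [Subgroup.card_map_of_injective e.injective]
  · have hmem := hN (Q.map e.symm.toMonoidHom) (hQ.map _) (Subgroup.map_le_iff_le_comap.2 fun x hx => by
        obtain ⟨y, hy, rfl⟩ := hQH hx
        show e.symm (e y) ∈ H
        rwa [e.symm_apply_apply]) (fun e1 => hne ((Subgroup.map_eq_bot_iff_of_injective Q
        e.symm.injective).1 e1)) (show e.symm n ∈ _ from Subgroup.mem_normalizer_fintype (by
        rintro _ ⟨x, hx, rfl⟩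
        exact ⟨n * x * n⁻¹, (Subgroup.mem_normalizer_iff.1 hn' x).1 hx, by simp⟩))
    exact ⟨_, hmem, e.apply_symm_apply n⟩

variable {Ω : Type u} [Group Ω] {S : Subgroup Ω} [Finite S] {F : FusionSystem S} {p : ℕ}
  [hp : Fact p.Prime]

/-- The image of a normal essential subgroup under an automorphism of `S`. -/
theorem isEssential_image {P Q : Subgroup Ω} (hP : F.IsEssential p P) {f : Ω → Ω}
    (hf : IsIso F P Q f) (hQn : S ≤ Subgroup.normalizer (Q : Set Ω)) : F.IsEssential p Q := by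
  obtain ⟨hPc, -, hn, hE⟩ := hP
  haveI := hn
  haveI := finite_of_le hf.le_left
  haveI := finite_of_le hf.le_right
  haveI := finite_mulAut P
  haveI := finite_mulAut Q
  refine ⟨⟨hf.le_right, fun R hR => hPc.2 R (isConj_trans hf.isConj hR)⟩,
    ⟨hf.le_right, fun R _ => ?_⟩, ?_⟩
  · haveI : Finite (normalizerIn S Q) := finite_of_le inf_le_left
    refine Subgroup.card_le_of_le ?_
    exact le_inf inf_le_left (inf_le_left.trans hQn)
  have hQinn : ((Inn Q).subgroupOf (F.autGroup Q)).Normal := by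
    refine ⟨fun a ha g => ?_⟩
    rw [Subgroup.mem_subgroupOf, inn_eq_autInducedBy] at ha ⊢
    obtain ⟨w, hw, hv⟩ := (mem_autInducedBy_iff Q Q _).1 ha
    refine (mem_autInducedBy_iff Q Q _).2 ⟨((g : MulAut Q) ⟨w, hw⟩ : Ω), ((g : MulAut Q) ⟨w, hw⟩).2,
      fun x => ?_⟩
    obtain ⟨y, rfl⟩ := (g : MulAut Q).surjective x
    show (((g : MulAut Q) * (a : MulAut Q) * (g : MulAut Q)⁻¹) ((g : MulAut Q) y) : Ω) = _
    rw [MulAut.mul_apply, MulAut.mul_apply, MulAut.inv_apply_self,
      show (a : MulAut Q) y = ⟨w, hw⟩ * y * ⟨w, hw⟩⁻¹ from Subtype.ext (hv y), map_mul, map_mul,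
      map_inv, Subgroup.coe_mul, Subgroup.coe_mul, Subgroup.coe_inv]
  haveI := hQinn
  obtain ⟨g, hg, hgf, hfg⟩ := hf.exists_symm
  refine ⟨hQinn, exists_strong_congr ?_ hE⟩
  have hmap : (F.autGroup P).map (MulAut.congr hf.equiv).toMonoidHom = F.autGroup Q := by
    refine le_antisymm ?_ fun β hβ => ?_
    · rintro _ ⟨α, hα, rfl⟩; exact hf.congr_mem_autGroup hα
    · refine ⟨MulAut.congr hg.equiv β, hg.congr_mem_autGroup hβ, MulEquiv.ext fun y => Subtype.ext ?_⟩
      obtain ⟨x, rfl⟩ := hf.equiv.surjective y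
      show ((MulAut.congr hf.equiv) (MulAut.congr hg.equiv β) (hf.equiv x) : Ω) = _
      have hx : x = hg.equiv (hf.equiv x) := Subtype.ext (hgf x x.2).symm
      rw [hf.congr_apply]
      conv_lhs => rw [hx, hg.congr_apply]
      exact hfg _ (β _).2
  let e1 : F.autGroup P ≃* F.autGroup Q :=
    ((MulAut.congr hf.equiv).subgroupMap (F.autGroup P)).trans (MulEquiv.subgroupCongr hmap)
  refine QuotientGroup.congr _ _ e1 ?_
  ext β
  constructor
  · rintro ⟨α, hα, rfl⟩
    rw [SetLike.mem_coe, Subgroup.mem_subgroupOf, inn_eq_autInducedBy] at hα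
    obtain ⟨w, hw, hv⟩ := (mem_autInducedBy_iff P P _).1 hα
    rw [Subgroup.mem_subgroupOf, inn_eq_autInducedBy]
    refine (mem_autInducedBy_iff Q Q _).2 ⟨f w, hf.mem hw, fun y => ?_⟩
    obtain ⟨x, rfl⟩ := hf.equiv.surjective y
    show ((MulAut.congr hf.equiv) (α : MulAut P) (hf.equiv x) : Ω) = _
    rw [hf.congr_apply, hv, hf.isMap.map_conj hw x.2, IsIso.equiv_apply]
  · intro hβ
    rw [Subgroup.mem_subgroupOf, inn_eq_autInducedBy] at hβ
    obtain ⟨w, hw, hv⟩ := (mem_autInducedBy_iff Q Q _).1 hβ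
    refine ⟨e1.symm β, ?_, e1.apply_symm_apply β⟩
    rw [SetLike.mem_coe, Subgroup.mem_subgroupOf, inn_eq_autInducedBy]
    refine (mem_autInducedBy_iff P P _).2 ⟨g w, hg.mem hw, fun x => hf.isMap.injOn (SetLike.coe_mem _)
      (P.mul_mem (P.mul_mem (hg.mem hw) x.2) (P.inv_mem (hg.mem hw))) ?_⟩
    have h1 : (((MulAut.congr hf.equiv) ((e1.symm β : F.autGroup P) : MulAut P)) : MulAut Q) =
        (β : MulAut Q) := congrArg Subtype.val (e1.apply_symm_apply β)
    rw [← hf.congr_apply, h1, hv, hf.isMap.map_conj (hg.mem hw) x.2, hfg w hw, IsIso.equiv_apply]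

/-- A normal essential subgroup has index `p`. -/
theorem index_eq (hS : IsPGroup p S) (hF : F.IsSaturated p) (hsr : Cfsg.SectionalPRankLE p 3 S)
    {P : Subgroup Ω} (hP : F.IsEssential p P) (hPn : S ≤ Subgroup.normalizer (P : Set Ω)) :
    (P.subgroupOf S).index = p := by
  classical
  have hpp := hp.out
  have hPS := hP.1.1
  haveI := finite_of_le hPS
  haveI := finite_mulAut P
  haveI := finite_mulAut (↥P ⧸ frattini ↥P)
  have hPp : IsPGroup p P := hS.to_le hPS
  have hVc : ∀ a b : ↥P ⧸ frattini ↥P, a * b = b * a := fun a b => by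
    obtain ⟨x, rfl⟩ := QuotientGroup.mk'_surjective (frattini ↥P) a
    obtain ⟨y, rfl⟩ := QuotientGroup.mk'_surjective (frattini ↥P) b
    rw [← commutatorElement_eq_one_iff_mul_comm, ← map_commutatorElement,
      QuotientGroup.mk'_apply, QuotientGroup.eq_one_iff]
    exact CfsgLib.HSub.commutator_le_frattini hPp
      (Subgroup.commutator_mem_commutator (Subgroup.mem_top x) (Subgroup.mem_top y))
  have hVp : ∀ a : ↥P ⧸ frattini ↥P, a ^ p = 1 := fun a => by
    obtain ⟨x, rfl⟩ := QuotientGroup.mk'_surjective (frattini ↥P) a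
    rw [← map_pow, QuotientGroup.mk'_apply, QuotientGroup.eq_one_iff]
    exact CfsgLib.OddOmega.pow_mem_frattini hPp x
  obtain ⟨k, hk⟩ := (hPp.to_quotient (frattini ↥P)).exists_card_eq
  have hk3 : k ≤ 3 := by
    have h1 : Nat.card (⊤ : Subgroup (↥P ⧸ frattini ↥P)) ≤ p ^ 3 :=
      rank_of_section (H := P.subgroupOf S) hsr
        (φ := (QuotientGroup.mk' (frattini ↥P)).comp (Subgroup.subgroupOfEquivOfLe hPS).toMonoidHom)
        ((QuotientGroup.mk'_surjective _).comp (Subgroup.subgroupOfEquivOfLe hPS).surjective) ⊤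
        (fun a _ b _ => hVc a b) fun a _ => hVp a
    rw [Subgroup.card_top, hk] at h1
    exact (Nat.pow_le_pow_iff_right hpp.one_lt).1 h1
  obtain ⟨T, hT⟩ : ∃ T, T = (autInducedBy S P).map (frattiniHom ↥P) := ⟨_, rfl⟩
  have hTp : IsPGroup p T := hT ▸ (isPGroup_autInducedBy hS P).map _
  have hTc : Nat.card T ≤ p := by
    rcases Nat.lt_or_ge k 3 with hlt | hge
    · rcases Nat.eq_zero_or_pos k with rfl | hk0
      · haveI : Subsingleton (↥P ⧸ frattini ↥P) := (Nat.card_eq_one_iff_unique.1 (by simpa using hk)).1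
        haveI : Subsingleton T := ⟨fun a b => Subtype.ext (MulEquiv.ext fun x => Subsingleton.elim _ _)⟩
        exact (Finite.card_le_one_iff_subsingleton.2 inferInstance).trans hpp.one_lt.le
      haveI : Nontrivial (↥P ⧸ frattini ↥P) := Finite.one_lt_card_iff_nontrivial.1
        (hk ▸ Nat.one_lt_pow hk0.ne' hpp.one_lt)
      obtain ⟨z, hz1, hzp, hzf⟩ := exists_fixed T.subtype hTp (hPp.to_quotient _) inferInstance
      obtain ⟨c, hc⟩ : ∃ c, c = Subgroup.zpowers z := ⟨_, rfl⟩
      have hcc : Nat.card c = p := by rw [hc, Nat.card_zpowers, orderOf_eq_prime hzp hz1]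
      haveI : c.Normal := ⟨fun x hx g => by rw [hVc g x, mul_inv_cancel_right]; exact hx⟩
      have hcfix : ∀ t : T, ∀ x ∈ c, (t : MulAut (↥P ⧸ frattini ↥P)) x = x := fun t x hx => by
        obtain ⟨i, rfl⟩ := Subgroup.mem_zpowers_iff.1 (hc ▸ hx)
        rw [map_zpow, show (t : MulAut _) z = z from hzf t]
      by_cases hcv : ∀ v, v ∈ c
      · haveI : Subsingleton T := ⟨fun a b => Subtype.ext (MulEquiv.ext fun x => by
          rw [hcfix a x (hcv x), hcfix b x (hcv x)])⟩
        exact (Finite.card_le_one_iff_subsingleton.2 inferInstance).trans hpp.one_lt.le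
      push Not at hcv
      obtain ⟨v, hv⟩ := hcv
      have hci : c.index = p := by
        have h1 := c.index_mul_card
        rw [hk, hcc] at h1
        have h2 : k = 2 := by
          by_contra hne
          rw [show k = 1 by omega, pow_one, Nat.mul_eq_right hpp.ne_zero, Subgroup.index_eq_one] at h1
          exact hv (h1 ▸ Subgroup.mem_top v)
        rw [h2, pow_two] at h1
        exact Nat.eq_of_mul_eq_mul_right hpp.pos h1
      have hstep : ∀ t : T, v⁻¹ * (t : MulAut _) v ∈ c := fun t => by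
        obtain ⟨n, hn⟩ := hTp t
        exact step_stabilised (T := ⊤)
          (smallStep_of_relIndex hpp le_top (by rw [Subgroup.relIndex_top_right]; exact hci))
          (fun x hx => by rw [hcfix t x hx]; exact hx) (fun x _ => Subgroup.mem_top _)
          (congrArg Subtype.val hn) v (Subgroup.mem_top v)
      refine (Nat.card_le_card_of_injective (fun t : T => (⟨_, hstep t⟩ : c)) fun a b hab => ?_).trans hcc.le
      have h1 := mul_left_cancel (congrArg Subtype.val hab)
      refine Subtype.ext (MulEquiv.ext fun x => ?_)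
      have htop : (⊤ : Subgroup (↥P ⧸ frattini ↥P)) ≤ c ⊔ Subgroup.zpowers v :=
        (eq_of_prime_index hci (le_sup_left : c ≤ _)
          (Subgroup.mem_sup_right (Subgroup.mem_zpowers v)) hv).ge
      obtain ⟨y, hy, w, hw, rfl⟩ := Subgroup.mem_sup_of_normal_right.1
        (show x ∈ Subgroup.zpowers v ⊔ c by rw [sup_comm]; exact htop (Subgroup.mem_top x))
      obtain ⟨i, rfl⟩ := Subgroup.mem_zpowers_iff.1 hy
      rw [map_mul, map_mul, map_zpow, map_zpow, h1, hcfix a w hw, hcfix b w hw]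
    · letI : CommGroup (↥P ⧸ frattini ↥P) :=
        { (inferInstance : Group (↥P ⧸ frattini ↥P)) with mul_comm := hVc }
      exact (Ess.sylow (q := QuotientGroup.mk' (frattini ↥P)) (ρ := frattiniHom ↥P)
        { pgroup := hS
          sat := hF
          ess := hP
          card := by rw [hk, show k = 3 by omega]
          surj := QuotientGroup.mk'_surjective _
          ker := fun e => QuotientGroup.eq_one_iff e
          nat := fun α e => rfl } (hT ▸ Subgroup.map_mono (autInducedBy_le_autGroup hPS)) hTp)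
  obtain ⟨κ, hκ⟩ : ∃ κ : S →* MulAut (↥P ⧸ frattini ↥P), ∀ g : S,
      κ g = frattiniHom ↥P (conjAut P (hPn g.2)) := by
    refine ⟨MonoidHom.mk' (fun g : S => frattiniHom ↥P (conjAut P (hPn g.2))) fun a b => ?_,
      fun g => rfl⟩
    show frattiniHom ↥P _ = frattiniHom ↥P _ * frattiniHom ↥P _
    rw [← map_mul]
    refine congrArg (frattiniHom ↥P) (MulEquiv.ext fun x => Subtype.ext ?_)
    rw [MulAut.mul_apply, conjAut_apply, conjAut_apply, conjAut_apply, Subgroup.coe_mul]
    group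
  have hker : κ.ker ≤ P.subgroupOf S := by
    intro g hg
    rw [MonoidHom.mem_ker, hκ] at hg
    haveI : ((frattiniHom ↥P).ker.subgroupOf (F.autGroup P)).Normal := inferInstance
    exact mem_of_mem_pCore hP.1 (isRadical_of_isEssential hS hP) ⟨g.2, hPn g.2⟩
      (α := ⟨_, autInducedBy_le_autGroup hPS (conjAut_mem_autInducedBy (K := S) (hPn g.2) g.2)⟩)
      (conjAut_apply P (hPn g.2))
      (CfsgLib.Fitting.le_pCore inferInstance (isPGroup_ker_frattiniHom hPp).comap_subtype
        (MonoidHom.mem_ker.2 hg))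
  have hrange : κ.range ≤ T := by
    rintro _ ⟨g, rfl⟩
    rw [hκ, hT]
    exact ⟨_, conjAut_mem_autInducedBy (hPn g.2) g.2, rfl⟩
  have h1 : (P.subgroupOf S).index ≤ p := by
    refine (Nat.le_of_dvd (Nat.pos_of_ne_zero Subgroup.index_ne_zero_of_finite)
      (Subgroup.index_dvd_of_le hker)).trans ?_
    rw [Subgroup.index_ker]
    exact (Subgroup.card_le_of_le hrange).trans hTc
  obtain ⟨m, hm⟩ := hS.index (P.subgroupOf S)
  rw [hm] at h1 ⊢
  have hm0 : m ≠ 0 := fun e => ne_of_isEssential hS hF hP (le_antisymm hPS fun x hx => by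
    have h2 := Subgroup.index_eq_one.1 (by rw [hm, e, pow_zero] : (P.subgroupOf S).index = 1)
    exact Subgroup.mem_subgroupOf.1 (h2.ge (Subgroup.mem_top (⟨x, hx⟩ : S))))
  have hm1 : m ≤ 1 := (Nat.pow_le_pow_iff_right hpp.one_lt).1 (by rwa [pow_one])
  rw [show m = 1 by omega, pow_one]

/-- A subgroup of `↥S` as a subgroup of the ambient group. -/
abbrev up (E : Subgroup S) : Subgroup Ω := E.map S.subtype

/-- The family attached to a set of essential subgroups. -/
noncomputable def sysOf (F : FusionSystem S) (Ps : Set (Subgroup Ω)) : Sys S where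
  ℰ := {E | up E ∈ Ps}
  𝔸 E := (F.autGroup (up E)).comap
    (MulAut.congr (E.equivMapOfInjective S.subtype S.subtype_injective)).toMonoidHom
  𝔹 := F.autGroup S

variable {Ps : Set (Subgroup Ω)}

theorem up_le (E : Subgroup S) : up E ≤ S := Subgroup.map_subtype_le E

theorem mem_up {E : Subgroup S} {x : S} : (x : Ω) ∈ up E ↔ x ∈ E :=
  ⟨fun ⟨_, hy, he⟩ => (Subtype.ext he : _ = x) ▸ hy, fun h => ⟨x, h, rfl⟩⟩

theorem mem_𝔸 {E : Subgroup S} {α : MulAut E} : α ∈ (sysOf F Ps).𝔸 E ↔
    ∃ f, IsIso F (up E) (up E) f ∧ ∀ e : E, f ((e : S) : Ω) = ((α e : S) : Ω) := by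
  obtain ⟨ι, hι⟩ : ∃ ι, ι = E.equivMapOfInjective S.subtype S.subtype_injective := ⟨_, rfl⟩
  have hιv : ∀ e : E, (ι e : Ω) = ((e : S) : Ω) := fun e => by rw [hι]; rfl
  have hc : ∀ e : E, MulAut.congr ι α (ι e) = ι (α e) := fun e => by
    show ι (α (ι.symm (ι e))) = _
    rw [ι.symm_apply_apply]
  constructor
  · intro h
    refine ⟨autFun (MulAut.congr ι α), (mem_autGroup_iff (up_le E) _).1 (hι ▸ h), fun e => ?_⟩
    rw [← hιv, autFun_coe, hc, hιv]
  · rintro ⟨f, hf, hv⟩
    show MulAut.congr _ α ∈ F.autGroup (up E)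
    rw [← hι]
    refine mem_autGroup_of_isMap hf.isMap _ fun x => ?_
    obtain ⟨e, rfl⟩ := ι.surjective x
    rw [hc, hιv, hιv, hv]

/-- The family of a set of normal essential subgroups closed under the automorphisms of `S`. -/
theorem good_sysOf (hS : IsPGroup p S) (hF : F.IsSaturated p) (hp2 : p ≠ 2)
    (hsr : Cfsg.SectionalPRankLE p 3 S) (hess : ∀ P ∈ Ps, F.IsEssential p P)
    (hn : ∀ P ∈ Ps, S ≤ Subgroup.normalizer (P : Set Ω))
    (hclosed : ∀ P ∈ Ps, ∀ Q f, IsMap F S f → IsIso F P Q f → Q ∈ Ps) :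
    (sysOf F Ps).Good p := by
  classical
  have hup : ∀ {E}, E ∈ (sysOf F Ps).ℰ → up E ∈ Ps := fun h => h
  have hidx : ∀ E ∈ (sysOf F Ps).ℰ, E.index = p := fun E hE => by
    have h1 := index_eq hS hF hsr (hess _ hE) (hn _ hE)
    rwa [show (up E).subgroupOf S = E from Subgroup.comap_map_eq_self_of_injective S.subtype_injective E] at h1
  have hconj : ∀ {E}, E ∈ (sysOf F Ps).ℰ → autY E ≤ (sysOf F Ps).𝔸 E := by
    intro E hE α hα
    obtain ⟨g, hg⟩ := mem_autY.1 hα
    haveI := finite_of_le (up_le E)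
    refine mem_𝔸.2 ⟨fun x => (g : Ω) * x * (g : Ω)⁻¹,
      (isMap_conj (up_le E) g.2).isIso_of_card_le (fun x hx =>
        (Subgroup.mem_normalizer_iff.1 (hn _ hE g.2) x).1 hx) le_rfl, fun e => ?_⟩
    rw [hg]; simp
  -- transport of `p`-subgroups
  have htr : ∀ {E}, E ∈ (sysOf F Ps).ℰ → ∀ U : Subgroup (MulAut E), U ≤ (sysOf F Ps).𝔸 E →
      IsPGroup p U → autY E ≤ U →
      ∃ A : Subgroup (MulAut (up E)), A ≤ F.autGroup (up E) ∧ IsPGroup p A ∧
        autInducedBy S (up E) ≤ A ∧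
        A = U.map (MulAut.congr (E.equivMapOfInjective S.subtype S.subtype_injective)).toMonoidHom := by
    intro E hE U hU hUp hle
    refine ⟨_, Subgroup.map_le_iff_le_comap.2 hU, hUp.map _, fun β hβ => ?_, rfl⟩
    obtain ⟨g, hg, hv⟩ := (mem_autInducedBy_iff _ _ _).1 hβ
    obtain ⟨ι, hι⟩ : ∃ ι, ι = E.equivMapOfInjective S.subtype S.subtype_injective := ⟨_, rfl⟩
    refine ⟨(MulAut.congr ι).symm β, hle (mem_autY.2 ⟨⟨g, hg⟩, fun e => Subtype.ext ?_⟩), ?_⟩
    · have h1 : ι ((MulAut.congr ι).symm β e) = β (ι e) := by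
        show ι (ι.symm (β (ι e))) = _
        rw [ι.apply_symm_apply]
      have h2 := congrArg (fun x : up E => (x : Ω)) h1
      simp only [hv] at h2
      rw [hι] at h2 ⊢
      exact h2
    · rw [← hι]; exact (MulAut.congr ι).apply_symm_apply β
  refine ⟨hS, hp2, hsr, hidx, fun E hE g hg => ?_, fun E hE => hconj hE, fun E hE U hU hUp hle => ?_,
    fun E hE U hU hUp hUn hle => ?_, fun φ hφ E hE => ?_, fun g => ?_, fun E hE α hα hnorm => ?_,
    fun E hE φ hφ hφE => ?_, fun φ hφ hφp => ?_⟩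
  · refine mem_up.1 ((hess _ hE).1.2 _ (isConj_refl (up_le E)) ⟨g.2, Subgroup.mem_centralizer_iff.2 ?_⟩)
    rintro _ ⟨x, hx, rfl⟩
    exact (congrArg Subtype.val (hg x hx)).symm
  · obtain ⟨A, hA, hAp, hTA, hAeq⟩ := htr hE U hU hUp hle
    haveI := finite_of_le (up_le E)
    haveI := finite_mulAut (up E)
    obtain ⟨β, -, hβc⟩ := ((isFullyAutomized_iff hS).1
      (isFullyAutomized_of_isFullyNormalized hS hF (hess _ hE).2.1)).2 A hA hAp
    have hAT : autInducedBy S (up E) = A := by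
      refine Subgroup.eq_of_le_of_card_ge hTA (Nat.card_le_card_of_injective
        (fun a : A => (⟨β * a * β⁻¹, hβc a a.2⟩ : autInducedBy S (up E))) fun a b hab => Subtype.ext ?_)
      exact mul_left_cancel (mul_right_cancel (congrArg Subtype.val hab))
    intro u hu
    have h1 : MulAut.congr (E.equivMapOfInjective S.subtype S.subtype_injective) u ∈
        autInducedBy S (up E) := hAT.symm ▸ hAeq ▸ ⟨u, hu, rfl⟩
    obtain ⟨g, hg, hv⟩ := (mem_autInducedBy_iff _ _ _).1 h1
    refine mem_autY.2 ⟨⟨g, hg⟩, fun e => Subtype.ext ?_⟩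
    have h2 := hv (E.equivMapOfInjective S.subtype S.subtype_injective e)
    have h3 : MulAut.congr (E.equivMapOfInjective S.subtype S.subtype_injective) u
        (E.equivMapOfInjective S.subtype S.subtype_injective e) =
        E.equivMapOfInjective S.subtype S.subtype_injective (u e) := by
      show E.equivMapOfInjective S.subtype S.subtype_injective (u ((E.equivMapOfInjective S.subtype S.subtype_injective).symm _)) = _
      rw [MulEquiv.symm_apply_apply]
    rw [h3] at h2
    exact h2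
  · obtain ⟨A, hA, hAp, hTA, hAeq⟩ := htr hE U hU hUp hle
    haveI := finite_of_le (up_le E)
    refine false_of_normal hS (ne_of_isEssential hS hF (hess _ hE)) (hess _ hE)
      (A.subgroupOf (F.autGroup (up E))) ⟨fun a ha b => ?_⟩ hAp.comap_subtype fun a ha => hTA ha
    rw [Subgroup.mem_subgroupOf, hAeq] at ha ⊢
    obtain ⟨u, hu, hue⟩ := ha
    refine ⟨((MulAut.congr (E.equivMapOfInjective S.subtype S.subtype_injective)).symm (b : MulAut (up E))) *
      u * ((MulAut.congr (E.equivMapOfInjective S.subtype S.subtype_injective)).symm (b : MulAut (up E)))⁻¹,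
      hUn _ ?_ u hu, ?_⟩
    · show MulAut.congr _ _ ∈ F.autGroup (up E)
      rw [MulEquiv.apply_symm_apply]
      exact b.2
    · show MulAut.congr _ _ = _
      rw [map_mul, map_mul, map_inv, MulEquiv.apply_symm_apply, Subgroup.coe_mul, Subgroup.coe_mul,
        Subgroup.coe_inv, ← hue]
      rfl
  · have hφiso := (mem_autGroup_iff le_rfl φ).1 hφ
    have hiso : IsIso F (up E) (up (E.map φ.toMonoidHom)) (autFun φ) := by
      refine ⟨hφiso.isMap.mono (up_le E), Set.ext fun y => ⟨?_, ?_⟩⟩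
      · rintro ⟨_, ⟨x, hx, rfl⟩, rfl⟩
        exact ⟨φ x, ⟨x, hx, rfl⟩, (autFun_coe φ x).symm⟩
      · rintro ⟨_, ⟨x, hx, rfl⟩, rfl⟩
        exact ⟨(x : Ω), ⟨x, hx, rfl⟩, autFun_coe φ x⟩
    have hmem := hclosed _ hE _ _ hφiso.isMap hiso
    refine ⟨hmem, fun α hα => ?_⟩
    obtain ⟨f, hf, hfv⟩ := mem_𝔸.1 hα
    obtain ⟨g, hg, hgf, -⟩ := hiso.exists_symm
    obtain ⟨β, hβ, hβv⟩ := exists_mem_autGroup (hg.comp (hf.comp hiso))
    obtain ⟨ι, hι⟩ : ∃ ι, ι = (E.map φ.toMonoidHom).equivMapOfInjective S.subtype S.subtype_injective :=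
      ⟨_, rfl⟩
    refine ⟨(MulAut.congr ι).symm β, ?_, fun e e' he' => Subtype.ext ?_⟩
    · show MulAut.congr _ _ ∈ F.autGroup _
      rw [← hι, MulEquiv.apply_symm_apply]; exact hβ
    · have h1 : ι ((MulAut.congr ι).symm β e') = β (ι e') := by
        show ι (ι.symm (β (ι e'))) = _
        rw [ι.apply_symm_apply]
      have h2 := (congrArg Subtype.val h1).trans (hβv _)
      rw [hι] at h2 ⊢
      refine h2.trans ?_
      have h3 : g (((e' : S) : Ω)) = ((e : S) : Ω) := by
        rw [he', ← autFun_coe φ (e : S)]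
        exact hgf _ (mem_up.2 e.2)
      show (autFun φ ∘ f) (g (((e' : S) : Ω))) = _
      rw [Function.comp_apply, h3, hfv, autFun_coe]
  · refine autInducedBy_le_autGroup le_rfl ((mem_autInducedBy_iff _ _ _).2 ⟨g, g.2, fun x => ?_⟩)
    simp
  · obtain ⟨f, hf, hfv⟩ := mem_𝔸.1 hα
    have hN : S ≤ nPhi S (up E) f := by
      intro g hg
      obtain ⟨τ, -, hτv⟩ : ∃ τ ∈ (sysOf F Ps).𝔸 E, ∀ e : E, ((τ e : S) : Ω) = g * e * g⁻¹ ∧ τ ∈ autY E := by
        have hgN : (⟨g, hg⟩ : S) ∈ Subgroup.normalizer (E : Set S) := by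
          rw [(Subgroup.normalizer_eq_top_iff).2 (normal_of_index hS (hidx E hE))]
          exact Subgroup.mem_top _
        have h1 : conjAut E hgN ∈ autY E := conjAut_mem_autInducedBy hgN (Subgroup.mem_top _)
        exact ⟨_, hconj hE h1, fun e => ⟨by rw [conjAut_apply]; rfl, h1⟩⟩
      obtain ⟨w, hw⟩ := mem_autY.1 (hnorm τ (hτv 1).2)
      refine ⟨hg, hn _ hE hg, w, w.2, ?_⟩
      rintro _ ⟨x, hx, rfl⟩
      have h2 := congrArg Subtype.val (hw (α ⟨x, hx⟩))
      rw [MulAut.mul_apply, MulAut.mul_apply, MulAut.inv_apply_self] at h2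
      show f (g * (x : Ω) * g⁻¹) = (w : Ω) * f (x : Ω) * (w : Ω)⁻¹
      rw [show (x : Ω) = (((⟨x, hx⟩ : E) : S) : Ω) from rfl, ← (hτv ⟨x, hx⟩).1, hfv, hfv]
      simpa using h2
    obtain ⟨f', hf', hfv'⟩ := (isReceptive_iff.1
      ((isFullyNormalized_iff hS hF).1 (hess _ hE).2.1).2).2 _ f hf
    have hf'S := (hf'.mono hN).isIso_of_card_le (fun x hx => (hf'.mono hN).mem hx) le_rfl
    obtain ⟨φ, hφ, hφv⟩ := exists_mem_autGroup hf'S
    refine ⟨φ, hφ, fun e => Subtype.ext ?_⟩
    rw [hφv, hfv' _ (mem_up.2 e.2), hfv]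
  · have hφiso := (mem_autGroup_iff le_rfl φ).1 hφ
    haveI := finite_of_le (up_le E)
    have hiso : IsIso F (up E) (up E) (autFun φ) := by
      refine (hφiso.isMap.mono (up_le E)).isIso_of_card_le ?_ le_rfl
      rintro _ ⟨x, hx, rfl⟩
      exact ⟨φ x, hφE x hx, (autFun_coe φ x).symm⟩
    obtain ⟨β, hβ, hβv⟩ := exists_mem_autGroup hiso
    obtain ⟨ι, hι⟩ : ∃ ι, ι = E.equivMapOfInjective S.subtype S.subtype_injective := ⟨_, rfl⟩
    refine ⟨(MulAut.congr ι).symm β, ?_, fun e => Subtype.ext ?_⟩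
    · show MulAut.congr _ _ ∈ F.autGroup _
      rw [← hι, MulEquiv.apply_symm_apply]; exact hβ
    · have h1 : ι ((MulAut.congr ι).symm β e) = β (ι e) := by
        show ι (ι.symm (β (ι e))) = _
        rw [ι.apply_symm_apply]
      have h2 := (congrArg Subtype.val h1).trans (hβv _)
      rw [hι] at h2 ⊢
      exact h2.trans (autFun_coe φ (e : S))
  · have hfn : F.IsFullyNormalized S := ⟨le_rfl, fun Q _ => by
      haveI : Finite (normalizerIn S S) := finite_of_le inf_le_left
      exact Subgroup.card_le_of_le (le_inf inf_le_left (inf_le_left.trans Subgroup.le_normalizer))⟩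
    obtain ⟨k, hk⟩ := hφp
    have hZ : IsPGroup p (Subgroup.zpowers φ) := by
      rintro ⟨_, i, rfl⟩
      refine ⟨k, Subtype.ext ?_⟩
      show (φ ^ i) ^ p ^ k = 1
      rw [← zpow_natCast, ← zpow_mul, mul_comm, zpow_mul, zpow_natCast, hk, one_zpow]
    obtain ⟨β, hβ, hβc⟩ := ((isFullyAutomized_iff hS).1
      (isFullyAutomized_of_isFullyNormalized hS hF hfn)).2 _ (Subgroup.zpowers_le.2 hφ) hZ
    obtain ⟨g, hg, hv⟩ := (mem_autInducedBy_iff _ _ _).1 (hβc φ (Subgroup.mem_zpowers φ))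
    refine ⟨β⁻¹ ⟨g, hg⟩, MulEquiv.ext fun x => β.injective ?_⟩
    rw [MulAut.conj_apply, map_mul, map_mul, map_inv, MulAut.apply_inv_self]
    refine Subtype.ext ?_
    have h1 := hv (β x)
    rw [MulAut.mul_apply, MulAut.mul_apply, MulAut.inv_apply_self] at h1
    simpa using h1

end CfsgLib.RankThreeAmalgam
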