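import Cfsg.Agent.Lib.Fusion.RankThreeAmalgam.Zeta

/-!
The conjugates under another member of the central elements of a moving member commute with them.
-/

set_option autoImplicit false
set_option linter.style.haveILetI false
set_option linter.unusedSectionVars false

namespace CfsgLib.RankThreeAmalgam

open Cfsg CfsgLib.Fusion CfsgLib.RankThree
open scoped commutatorElement

variable {Y : Type*} [Group Y] [Finite Y] {p : ℕ} [hp : Fact p.Prime]

omit [Finite Y] in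
theorem zpow_congr {g : Y} (hg : g ^ p = 1) {m n : ℤ} (h : (m : ZMod p) = n) : g ^ m = g ^ n := by
  obtain ⟨d, hd⟩ := (ZMod.intCast_eq_intCast_iff_dvd_sub m n p).1 h
  rw [show n = m + p * d by omega, zpow_add, zpow_mul, zpow_natCast, hg, one_zpow, mul_one]

theorem zpow_eq_one_iff' {g : Y} (hg : g ^ p = 1) (hg1 : g ≠ 1) {m : ℤ} :
    g ^ m = 1 ↔ (m : ZMod p) = 0 := by
  rw [← orderOf_dvd_iff_zpow_eq_one, orderOf_eq_prime hg hg1, ZMod.intCast_zmod_eq_zero_iff_dvd]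

/-- Two opposite shears of a plane give the inversion. -/
theorem shear_inv {V : Type*} [Group V] {C C' : V} (hC : C ^ p = 1) (hC' : C' ^ p = 1)
    (hcom : Commute C C') {t t' : MulAut V} {u w : ℤ} (hu : (u : ZMod p) ≠ 0)
    (hw : (w : ZMod p) ≠ 0) (t1 : t C = C) (t2 : t C' = C' * C ^ u) (t3 : t' C' = C')
    (t4 : t' C = C * C' ^ w) :
    ∃ m n : ℕ, (((t ^ m * t' ^ n * t ^ m) ^ 2 : MulAut V) C = C⁻¹ ∧
      ((t ^ m * t' ^ n * t ^ m) ^ 2 : MulAut V) C' = C'⁻¹) := by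
  have hpow : ∀ (r : MulAut V) (P Q : V) (i : ℤ), r P = P → r Q = Q * P ^ i → ∀ k : ℕ,
      (r ^ k) P = P ∧ (r ^ k) Q = Q * P ^ (i * k) := by
    intro r P Q i r1 r2 k
    induction k with
    | zero => simp
    | succ k ih =>
      refine ⟨by rw [pow_succ', MulAut.mul_apply, ih.1, r1], ?_⟩
      rw [pow_succ', MulAut.mul_apply, ih.2, map_mul, map_zpow, r2, r1, mul_assoc, ← zpow_add,
        Nat.cast_succ, mul_add, mul_one, add_comm]
  obtain ⟨m, hm⟩ : ∃ m : ℕ, ((u * m : ℤ) : ZMod p) = ((1 : ℤ) : ZMod p) :=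
    ⟨((u : ZMod p)⁻¹).val, by push_cast; rw [ZMod.natCast_zmod_val, mul_inv_cancel₀ hu]⟩
  obtain ⟨n, hn⟩ : ∃ n : ℕ, ((w * n : ℤ) : ZMod p) = ((-1 : ℤ) : ZMod p) :=
    ⟨(-(w : ZMod p)⁻¹).val, by push_cast; rw [ZMod.natCast_zmod_val, mul_neg, mul_inv_cancel₀ hw]⟩
  refine ⟨m, n, ?_⟩
  obtain ⟨a1, a2⟩ := hpow t C C' u t1 t2 m
  obtain ⟨b1, b2⟩ := hpow t' C' C w t3 t4 n
  rw [zpow_congr hC hm, zpow_one] at a2
  rw [zpow_congr hC' hn, zpow_neg_one] at b2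
  obtain ⟨S, hS⟩ : ∃ S, S = t ^ m * t' ^ n * t ^ m := ⟨_, rfl⟩
  have s1 : S C = C'⁻¹ := by
    rw [hS, MulAut.mul_apply, MulAut.mul_apply, a1, b2, map_mul, map_inv, a1, a2, mul_inv_rev,
      mul_inv_cancel_left]
  have s2 : S C' = C := by
    rw [hS, MulAut.mul_apply, MulAut.mul_apply, a2, map_mul, b1, b2, ← mul_assoc, map_mul,
      map_mul, map_inv, a1, a2, mul_assoc, mul_assoc, mul_inv_rev, ← mul_assoc C C,
      show C' * (C * C * (C⁻¹ * C'⁻¹)) = C' * C * C'⁻¹ by group, ← hcom.eq, mul_inv_cancel_right]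
  rw [← hS, pow_two]
  simp only [MulAut.mul_apply, s1, s2, map_inv]
  exact ⟨trivial, trivial⟩

/-- The pair of members in the noncommuting situation. -/
structure NC (p : ℕ) (E E' G : Subgroup Y) (a y x c : Y) : Prop where
  aA : a ∈ zeta p E
  aE' : a ∈ E'
  aG : a ∉ G
  yE : y ∉ E
  yE' : y ∈ E'
  yp : y ^ p = 1
  xE : x ∈ E
  xE' : x ∉ E'
  cdef : c = ⁅a, y⁆
  c1 : c ≠ 1
  cA : c ∈ zeta p (⊤ : Subgroup Y)
  Gcen : ∀ g ∈ G, ∀ e ∈ E', g * e = e * g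
  GE : G ≤ E
  GE' : G ≤ E'
  cG : c ∈ G
  Gn : G.Normal
  Gmax : ∀ d ∈ E, d ∈ E' → d * y = y * d → d ∈ G
  genD : ∀ d ∈ E, d ∈ E' → ∃ g ∈ G, ∃ i : ℕ, d = g * a ^ i
  gen' : ∀ e ∈ E', ∃ d ∈ E, d ∈ E' ∧ ∃ j : ℕ, e = d * y ^ j
  Gquot : ∀ e ∈ E', ∀ f ∈ E', ⁅e, f⁆ ∈ G

set_option maxHeartbeats 800000 in
theorem Sys.Good.exists_nc {Γ : Sys Y} (h : Γ.Good p) {E E' : Subgroup Y} (hE : E ∈ Γ.ℰ)
    (hE' : E' ∈ Γ.ℰ) (hm : Moving Γ p E) (hA : zeta p E ≤ E') {α : MulAut E'} (hα : α ∈ Γ.𝔸 E')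
    {a0 : E'} (ha0 : (a0 : Y) ∈ zeta p E) (hy0 : (α a0 : Y) ∉ E) :
    ∃ G : Subgroup Y, ∃ a y x c : Y, NC p E E' G a y x c ∧
      ∀ β ∈ Γ.𝔸 E', ∀ e : E', (e : Y) ∈ G → (β e : Y) ∈ G := by
  classical
  haveI hnE := h.normal hE
  haveI hnE' := h.normal hE'
  have hpp := hp.out
  obtain ⟨y, hy⟩ : ∃ y, y = (α a0 : Y) := ⟨_, rfl⟩
  rw [← hy] at hy0
  have hyE' : y ∈ E' := hy ▸ (α a0).2
  have hyp : y ^ p = 1 := by
    rw [hy, ← SubgroupClass.coe_pow, ← map_pow, show a0 ^ p = 1 from Subtype.ext (by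
      rw [SubgroupClass.coe_pow, ha0.2.1]; rfl), map_one]
    rfl
  obtain ⟨a, haA, hay⟩ : ∃ a ∈ zeta p E, a * y ≠ y * a := by
    by_contra hc
    push Not at hc
    exact hy0 (h.mem_of_comm hE hm fun a ha => (hc a ha).symm)
  have haE' := hA haA
  obtain ⟨D, hD⟩ : ∃ D, D = E ⊓ E' := ⟨_, rfl⟩
  have hmemD : ∀ w, w ∈ D ↔ w ∈ E ∧ w ∈ E' := fun w => by rw [hD, Subgroup.mem_inf]
  have hDE : D ≤ E := fun w hw => ((hmemD w).1 hw).1
  have hDE' : D ≤ E' := fun w hw => ((hmemD w).1 hw).2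
  have hDn : D.Normal := by rw [hD]; infer_instance
  have hnle' : ¬ E' ≤ E := fun hle => hy0 (hle hyE')
  have hnle : ¬ E ≤ E' := fun hle => hy0 ((Subgroup.eq_of_le_of_card_ge hle (by
    have h1 := E.index_mul_card
    have h2 := E'.index_mul_card
    rw [h.idx E hE] at h1
    rw [h.idx E' hE', ← h1] at h2
    exact (Nat.eq_of_mul_eq_mul_left hpp.pos h2).le)).ge hyE')
  have hDi : D.relIndex E' = p := hD ▸ inf_relIndex hnE (h.idx E hE) hnle'
  obtain ⟨D', hD'⟩ : ∃ D', D' = ((D.subgroupOf E').map α.toMonoidHom).map E'.subtype := ⟨_, rfl⟩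
  have hmemD' : ∀ e : E', (α e : Y) ∈ D' ↔ (e : Y) ∈ D := fun e => by
    rw [hD']
    constructor
    · rintro ⟨_, ⟨w, hw, rfl⟩, he⟩
      exact (α.injective (Subtype.ext he) : w = e) ▸ hw
    · exact fun he => ⟨_, ⟨e, he, rfl⟩, rfl⟩
  have hD'E' : D' ≤ E' := by rw [hD']; rintro _ ⟨e, -, rfl⟩; exact e.2
  have hD'i : D'.relIndex E' = p := by
    show (D'.subgroupOf E').index = p
    rw [show D'.subgroupOf E' = (D.subgroupOf E').map α.toMonoidHom by
      ext e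
      obtain ⟨w, rfl⟩ := α.surjective e
      rw [Subgroup.mem_subgroupOf, hmemD']
      exact ⟨fun hw => ⟨w, hw, rfl⟩, fun ⟨z, hz, he⟩ => (α.injective he : z = w) ▸ hz⟩]
    exact (Subgroup.index_map_equiv (H := D.subgroupOf E') α).trans hDi
  haveI hD'n := normal_of_index (h.pY.to_subgroup E') (E := D'.subgroupOf E') hD'i
  have hyD' : y ∈ D' := hy ▸ (hmemD' a0).2 ((hmemD _).2 ⟨ha0.1, a0.2⟩)
  have haD : a ∈ D := (hmemD a).2 ⟨haA.1, haE'⟩
  have hyc : ∀ d ∈ D', d * y = y * d := by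
    intro d hd
    obtain ⟨w, hw⟩ := α.surjective ⟨d, hD'E' hd⟩
    have hd' : d = (α w : Y) := by rw [hw]
    rw [hd'] at hd ⊢
    have h1 : a0 * w = w * a0 := Subtype.ext (ha0.2.2 w (hDE ((hmemD' w).1 hd)))
    rw [hy, ← Subgroup.coe_mul, ← Subgroup.coe_mul, ← map_mul, ← map_mul, h1]
  obtain ⟨G, hG⟩ : ∃ G, G = D ⊓ D' := ⟨_, rfl⟩
  have hGD : G ≤ D := hG ▸ inf_le_left
  have hGD' : G ≤ D' := hG ▸ inf_le_right
  have haG : a ∉ G := fun hh => hay (hyc a (hGD' hh))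
  have hGi : G.relIndex D = p := by
    have h1 := inf_relIndex (Y := E') hD'n hD'i (H := D.subgroupOf E') (fun hle =>
      hay (hyc a (hle (show (⟨a, haE'⟩ : E') ∈ D.subgroupOf E' from haD))))
    rw [hG, inf_comm, ← Subgroup.relIndex_subgroupOf hDE', Subgroup.subgroupOf, Subgroup.comap_inf]
    exact h1
  have hGa : ∀ g ∈ G, g * a = a * g := fun g hg => (haA.2.2 g (hDE (hGD hg))).symm
  have hGy : ∀ g ∈ G, g * y = y * g := fun g hg => hyc g (hGD' hg)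
  have hGn' : ∀ e ∈ E', ∀ w ∈ G, e * w * e⁻¹ ∈ G := fun e he w hw => hG ▸
    ⟨hDn.conj_mem w (hGD hw) e, hD'n.conj_mem ⟨w, hD'E' (hGD' hw)⟩ (hGD' hw) ⟨e, he⟩⟩
  have hdecD : ∀ d ∈ D, ∃ g ∈ G, ∃ i : ℕ, d = g * a ^ i := fun d hd =>
    decomp hGD hGi (fun e he w hw => hGn' e (hDE' he) w hw) haD haG haA.2.1 hd
  have hyD : y ∉ D := fun hh => hy0 (hDE hh)
  have hdecE' : ∀ e ∈ E', ∃ d ∈ D, ∃ j : ℕ, e = d * y ^ j := fun e he =>
    decomp hDE' hDi (fun e _ w hw => hDn.conj_mem w hw e) hyE' hyD hyp he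
  obtain ⟨c, hc⟩ : ∃ c, c = ⁅a, y⁆ := ⟨_, rfl⟩
  have hquot : ∀ {R : Subgroup Y}, R ≤ E' → R.relIndex E' = p →
      ∀ e ∈ E', ∀ f ∈ E', ⁅e, f⁆ ∈ R := by
    intro R hR hi e he f hf
    haveI := normal_of_index (h.pY.to_subgroup E') (E := R.subgroupOf E') hi
    have h1 := comm_mem_of_step (h.pY.to_subgroup E') (A := R.subgroupOf E') (B := ⊤) le_top
      (by rw [Subgroup.relIndex_top_right]; exact hi) ⟨e, he⟩ (Subgroup.mem_top _) ⟨f, hf⟩
    simpa [Subgroup.mem_subgroupOf, commutatorElement_def] using h1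
  have hGquot : ∀ e ∈ E', ∀ f ∈ E', ⁅e, f⁆ ∈ G := fun e he f hf =>
    hG ▸ ⟨hquot hDE' hDi e he f hf, hquot hD'E' hD'i e he f hf⟩
  have hcG : c ∈ G := hc ▸ hGquot a haE' y hyE'
  have hc1 : c ≠ 1 := hc ▸ fun e => hay (commutatorElement_eq_one_iff_mul_comm.1 e)
  have hczE : c ∈ zeta p E := by
    rw [hc, commutatorElement_def, mul_assoc, mul_assoc, ← mul_assoc y]
    exact (zeta p E).mul_mem haA ((h.zeta_normal hE).conj_mem _ ((zeta p E).inv_mem haA) y)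
  have hcZ : c ∈ zeta p (⊤ : Subgroup Y) := by
    refine mem_zeta_top.2 ⟨hczE.2.1, fun w => ?_⟩
    have hK : E ≤ Subgroup.centralizer {c} := fun v hv =>
      Subgroup.mem_centralizer_singleton_iff.2 (hczE.2.2 v hv).symm
    exact (Subgroup.mem_centralizer_singleton_iff.1 (top_of_gen (h.idx E hE) hK
      (Subgroup.mem_centralizer_singleton_iff.2 (hGy c hcG).symm) hy0 w)).symm
  have hccen := (mem_zeta_top.1 hcZ).2
  -- `G` is abelian
  obtain ⟨N, hN⟩ : ∃ N, N = phi G ⊔ Subgroup.zpowers c := ⟨_, rfl⟩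
  have hNG : N ≤ G := hN ▸ sup_le (phi_le G) (Subgroup.zpowers_le.2 hcG)
  have hcN : c ∈ N := hN ▸ Subgroup.mem_sup_right (Subgroup.mem_zpowers c)
  have hphiN : phi G ≤ N := hN ▸ le_sup_left
  have hNn : ∀ e ∈ E', ∀ w ∈ N, e * w * e⁻¹ ∈ N := by
    intro e he w hw
    have he' : e ∈ Subgroup.normalizer (N : Set Y) := by
      obtain ⟨d, hd, j, rfl⟩ := hdecE' e he
      obtain ⟨g, hg, i, rfl⟩ := hdecD d hd
      have hNfix : ∀ {v : Y}, (∀ g ∈ G, g * v = v * g) →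
          v ∈ Subgroup.normalizer (N : Set Y) := fun {v} hv =>
        Subgroup.mem_normalizer_fintype fun w hw => by
          rw [← hv w (hNG hw), mul_inv_cancel_right]; exact hw
      have hg' : g ∈ Subgroup.normalizer (N : Set Y) :=
        Subgroup.mem_normalizer_fintype fun w hw => by
          have h1 := N.mul_mem (hphiN (comm_phi h.pY hg (hNG hw))) hw
          rwa [commutatorElement_def, inv_mul_cancel_right] at h1
      exact Subgroup.mul_mem _ (Subgroup.mul_mem _ hg' (Subgroup.pow_mem _ (hNfix hGa) i))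
        (Subgroup.pow_mem _ (hNfix hGy) j)
    exact (Subgroup.mem_normalizer_iff.1 he' w).1 hw
  have hNq : ∀ e ∈ E', ∀ f ∈ E', ⁅e, f⁆ ∈ N ∧ e ^ p ∈ N := by
    haveI : (N.subgroupOf E').Normal := ⟨fun z hz g => hNn g g.2 z hz⟩
    obtain ⟨π, hπ⟩ : ∃ π : E' →* E' ⧸ N.subgroupOf E', π = QuotientGroup.mk' (N.subgroupOf E') :=
      ⟨_, rfl⟩
    have hπ1 : ∀ w : E', π w = 1 ↔ (w : Y) ∈ N := fun w => hπ ▸ QuotientGroup.eq_one_iff w
    obtain ⟨T, hT⟩ : ∃ T : Set (E' ⧸ N.subgroupOf E'),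
        T = π '' {w | (w : Y) ∈ G ∨ (w : Y) = a ∨ (w : Y) = y} := ⟨_, rfl⟩
    have hTc : ∀ u ∈ T, ∀ v ∈ T, u * v = v * u := by
      rw [hT]
      rintro _ ⟨u, hu, rfl⟩ _ ⟨v, hv, rfl⟩
      rw [← commutatorElement_eq_one_iff_mul_comm, ← map_commutatorElement, hπ1]
      have h1 : ((⁅u, v⁆ : E') : Y) = ⁅(u : Y), (v : Y)⁆ := by simp [commutatorElement_def]
      rw [h1]
      rcases hu with hu | hu | hu <;> rcases hv with hv | hv | hv
      · exact hphiN (comm_phi h.pY hu hv)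
      · rw [commutatorElement_eq_one_iff_mul_comm.2 (hv ▸ hGa _ hu)]; exact N.one_mem
      · rw [commutatorElement_eq_one_iff_mul_comm.2 (hv ▸ hGy _ hu)]; exact N.one_mem
      · rw [commutatorElement_eq_one_iff_mul_comm.2 (hu ▸ (hGa _ hv).symm)]; exact N.one_mem
      · rw [commutatorElement_eq_one_iff_mul_comm.2 (by rw [hu, hv])]; exact N.one_mem
      · rw [hu, hv, ← hc]; exact hcN
      · rw [commutatorElement_eq_one_iff_mul_comm.2 (hu ▸ (hGy _ hv).symm)]; exact N.one_mem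
      · rw [hu, hv, ← commutatorElement_inv a y, ← hc]; exact N.inv_mem hcN
      · rw [commutatorElement_eq_one_iff_mul_comm.2 (by rw [hu, hv])]; exact N.one_mem
    have hTp : ∀ u ∈ T, u ^ p = 1 := by
      rw [hT]
      rintro _ ⟨u, hu, rfl⟩
      rw [← map_pow, hπ1, SubgroupClass.coe_pow]
      rcases hu with hu | hu | hu
      · exact hphiN (pow_phi h.pY hu)
      · rw [hu, haA.2.1]; exact N.one_mem
      · rw [hu, hyp]; exact N.one_mem
    have hmemT : ∀ w : E', ((w : Y) ∈ G ∨ (w : Y) = a ∨ (w : Y) = y) → π w ∈ T := fun w hw =>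
      hT ▸ ⟨w, hw, rfl⟩
    have hall : ∀ w : E', π w ∈ Subgroup.closure T := by
      intro w
      obtain ⟨d, hd, j, he⟩ := hdecE' w w.2
      obtain ⟨g, hg, i, rfl⟩ := hdecD d hd
      rw [show w = (⟨g, hDE' (hGD hg)⟩ : E') * ⟨a, haE'⟩ ^ i * ⟨y, hyE'⟩ ^ j from
        Subtype.ext (by simpa using he), map_mul, map_mul, map_pow, map_pow]
      exact Subgroup.mul_mem _ (Subgroup.mul_mem _ (Subgroup.subset_closure (hmemT _ (Or.inl hg)))
        (Subgroup.pow_mem _ (Subgroup.subset_closure (hmemT _ (Or.inr (Or.inl rfl)))) i))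
        (Subgroup.pow_mem _ (Subgroup.subset_closure (hmemT _ (Or.inr (Or.inr rfl)))) j)
    have hel := elem_closure hTc hTp
    intro e he f hf
    refine ⟨?_, ?_⟩
    · have h1 : π ⁅(⟨e, he⟩ : E'), ⟨f, hf⟩⁆ = 1 := by
        rw [map_commutatorElement, commutatorElement_eq_one_iff_mul_comm]
        exact hel.1 _ (hall _) _ (hall _)
      rw [hπ1] at h1
      simpa [commutatorElement_def] using h1
    · have h1 : π ((⟨e, he⟩ : E') ^ p) = 1 := by rw [map_pow]; exact hel.2 _ (hall _)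
      rw [hπ1] at h1
      simpa using h1
  have hNrel : N.relIndex G ≤ p := by
    have h1 := relIndex_le (N := N) (H := E') h.rank hNn
      (fun e he f hf => (hNq e he f hf).1) (fun e he => (hNq e he e he).2)
    rw [← Subgroup.relIndex_mul_relIndex N G E' hNG (hGD.trans hDE'),
      ← Subgroup.relIndex_mul_relIndex G D E' hGD hDE', hGi, hDi, ← pow_two, pow_succ' p 2] at h1
    exact Nat.le_of_mul_le_mul_right h1 (pow_pos hpp.pos 2)
  have hGab : ∀ g ∈ G, ∀ g' ∈ G, g * g' = g' * g := by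
    haveI : (N.subgroupOf G).Normal := ⟨fun z hz g => hNn g (hDE' (hGD g.2)) z hz⟩
    haveI : IsCyclic (G ⧸ N.subgroupOf G) := by
      obtain ⟨k, hk⟩ := ((h.pY.to_subgroup G).to_quotient (N.subgroupOf G)).exists_card_eq
      have hle : p ^ k ≤ p ^ 1 := by
        rw [pow_one, ← hk, ← Subgroup.index_eq_card]; exact hNrel
      have := (Nat.pow_le_pow_iff_right hpp.one_lt).1 hle
      interval_cases k
      · haveI : Subsingleton (G ⧸ N.subgroupOf G) :=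
          (Nat.card_eq_one_iff_unique.1 (by simpa using hk)).1
        exact isCyclic_of_subsingleton
      · exact isCyclic_of_prime_card (by simpa using hk)
    obtain ⟨g0, hg0⟩ := IsCyclic.exists_generator (α := G ⧸ N.subgroupOf G)
    obtain ⟨g0, rfl⟩ := QuotientGroup.mk'_surjective _ g0
    obtain ⟨C, hC⟩ : ∃ C : Subgroup G, C = Subgroup.closure {g0, ⟨c, hcG⟩} := ⟨_, rfl⟩
    have hCtop : C = ⊤ := by
      refine frattini_nongenerating ?_
      rw [eq_top_iff]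
      intro w _
      obtain ⟨i, hi⟩ := Subgroup.mem_zpowers_iff.1 (hg0 (QuotientGroup.mk' _ w))
      have h1 : (g0 ^ i)⁻¹ * w ∈ N.subgroupOf G := by
        rw [← QuotientGroup.eq_one_iff, ← QuotientGroup.mk'_apply, map_mul, map_inv, map_zpow, hi,
          inv_mul_cancel]
      have h2 : N.subgroupOf G ≤ C ⊔ frattini G := by
        intro v hv
        rw [Subgroup.mem_subgroupOf, hN] at hv
        have hle : phi G ⊔ Subgroup.zpowers c ≤ (C ⊔ frattini G).map G.subtype := sup_le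
          (Subgroup.map_mono le_sup_right) (Subgroup.zpowers_le.2
            ⟨⟨c, hcG⟩, Subgroup.mem_sup_left (hC ▸ Subgroup.subset_closure (by simp)), rfl⟩)
        obtain ⟨v', hv', he⟩ := hle hv
        exact (Subtype.ext he : v' = v) ▸ hv'
      have := (C ⊔ frattini G).mul_mem (Subgroup.mem_sup_left
        (C.zpow_mem (show g0 ∈ C from hC ▸ Subgroup.subset_closure (by simp)) i)) (h2 h1)
      rwa [mul_inv_cancel_left] at this
    intro g hg g' hg'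
    have h3 : ∀ u v : G, u * v = v * u := fun u v => closure_comm (s := {g0, ⟨c, hcG⟩})
      (by
        rintro u (rfl | rfl) v (rfl | rfl) <;>
          first | rfl | exact Subtype.ext (hccen _).symm | exact Subtype.ext (hccen _))
      (hC ▸ hCtop ▸ Subgroup.mem_top u) (hC ▸ hCtop ▸ Subgroup.mem_top v)
    exact congrArg Subtype.val (h3 ⟨g, hg⟩ ⟨g', hg'⟩)
  have hGcen : ∀ g ∈ G, ∀ e ∈ E', g * e = e * g := by
    intro g hg e he
    obtain ⟨d, hd, j, rfl⟩ := hdecE' e he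
    obtain ⟨g', hg', i, rfl⟩ := hdecD d hd
    exact (((show Commute g g' from hGab g hg g' hg').mul_right
      ((show Commute g a from hGa g hg).pow_right i)).mul_right
      ((show Commute g y from hGy g hg).pow_right j)).eq
  have hGmax : ∀ d ∈ E, d ∈ E' → d * y = y * d → d ∈ G := by
    intro d hdE hdE' hdy
    obtain ⟨g, hg, i, rfl⟩ := hdecD d ((hmemD d).2 ⟨hdE, hdE'⟩)
    have hai : Commute (a ^ i) y := by
      have h1 : Commute g⁻¹ y := (show Commute g y from hGy g hg).inv_left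
      have h2 := h1.mul_left (show Commute (g * a ^ i) y from hdy)
      rwa [inv_mul_cancel_left] at h2
    have hz1 := commutator_zpow (show ⁅a, y⁆ = c from hc.symm) (hccen a) (hccen y) (i : ℤ) 1
    rw [zpow_natCast, zpow_one, mul_one, zpow_natCast,
      commutatorElement_eq_one_iff_mul_comm.2 hai.eq] at hz1
    obtain ⟨m, rfl⟩ : p ∣ i :=
      orderOf_eq_prime hczE.2.1 hc1 ▸ orderOf_dvd_of_pow_eq_one hz1.symm
    rwa [pow_mul, haA.2.1, one_pow, mul_one]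
  have hGnormal : G.Normal := by
    refine ⟨fun g hg w => hGmax _ (hnE.conj_mem g (hDE (hGD hg)) w)
      (hnE'.conj_mem g (hDE' (hGD hg)) w) ?_⟩
    have h1 : Commute g (w⁻¹ * y * w⁻¹⁻¹) := hGcen g hg _ (hnE'.conj_mem y hyE' w⁻¹)
    have h2 := h1.map (MulAut.conj w).toMonoidHom
    simpa [mul_assoc] using h2.eq
  obtain ⟨x, hx, hxE'⟩ := SetLike.not_le_iff_exists.1 hnle
  refine ⟨G, a, y, x, c, ⟨haA, haE', haG, hy0, hyE', hyp, hx, hxE', hc, hc1, hcZ, hGcen,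
    hGD.trans hDE, hGD.trans hDE', hcG, hGnormal, hGmax,
    fun d hd hd' => hdecD d ((hmemD d).2 ⟨hd, hd'⟩),
    fun e he => by
      obtain ⟨d, hd, j, he2⟩ := hdecE' e he
      exact ⟨d, hDE hd, hDE' hd, j, he2⟩,
    hGquot⟩, fun β _ e he => ?_⟩
  have hcomm : ∀ f : E', β e * f = f * β e := by
    intro f
    obtain ⟨f, rfl⟩ := β.surjective f
    rw [← map_mul, ← map_mul, show e * f = f * e from Subtype.ext (hGcen e he f f.2)]
  obtain ⟨d, hd, j, hj⟩ := hdecE' (β e : Y) (β e).2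
  have h1 := congrArg Subtype.val (hcomm ⟨a, haE'⟩)
  rw [Subgroup.coe_mul, Subgroup.coe_mul, hj] at h1
  have h1' : d * y ^ j * a = a * (d * y ^ j) := h1
  have had : Commute a d := haA.2.2 d (hDE hd)
  have haj : Commute a (y ^ j) := by
    have h3 : Commute a (d * y ^ j) := h1'.symm
    have h4 := had.inv_right.mul_right h3
    rwa [inv_mul_cancel_left] at h4
  have hz1 := commutator_zpow (show ⁅a, y⁆ = c from hc.symm) (hccen a) (hccen y) 1 (j : ℤ)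
  rw [zpow_natCast, zpow_one, one_mul, zpow_natCast,
    commutatorElement_eq_one_iff_mul_comm.2 haj.eq] at hz1
  obtain ⟨m, rfl⟩ : p ∣ j :=
    orderOf_eq_prime hczE.2.1 hc1 ▸ orderOf_dvd_of_pow_eq_one hz1.symm
  rw [pow_mul, hyp, one_pow, mul_one] at hj
  refine hGmax _ (hj ▸ hDE hd) (β e).2 ?_
  exact congrArg Subtype.val (hcomm ⟨y, hyE'⟩)

set_option maxHeartbeats 1000000 in
/-- The noncommuting configuration does not occur. -/
theorem Sys.Good.no_nc {Γ : Sys Y} (h : Γ.Good p) {E E' : Subgroup Y} (hE : E ∈ Γ.ℰ)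
    (hE' : E' ∈ Γ.ℰ) (hm : Moving Γ p E) (hA : zeta p E ≤ E') {G : Subgroup Y} {a y x c : Y}
    (hn : NC p E E' G a y x c) (hGi : ∀ β ∈ Γ.𝔸 E', ∀ e : E', (e : Y) ∈ G → (β e : Y) ∈ G) :
    False := by
  classical
  haveI hnE := h.normal hE
  haveI hnE' := h.normal hE'
  haveI hGn := hn.Gn
  haveI := finite_mulAut E
  have hpp := hp.out
  have hp2 := h.podd
  have hccen := (mem_zeta_top.1 hn.cA).2
  have hcp := (mem_zeta_top.1 hn.cA).1
  have hyay : y * a * y⁻¹ = a * c⁻¹ := by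
    have h1 : a * y * a⁻¹ * y⁻¹ = c := by rw [hn.cdef, commutatorElement_def]
    have h2 : c⁻¹ * a = y * a * y⁻¹ := by rw [← h1]; group
    rw [← h2]
    exact (Commute.inv_left (hccen a)).eq
  have hGy : ∀ g ∈ G, y * g * y⁻¹ = g := fun g hg => by
    rw [← hn.Gcen g hg y hn.yE', mul_inv_cancel_right]
  have hDc : ∀ d ∈ E, d ∈ E' → ∀ d' ∈ E, d' ∈ E' → Commute d d' := by
    intro d hd hd' e he he'
    obtain ⟨g, hg, i, rfl⟩ := hn.genD d hd hd'
    obtain ⟨g', hg', j, rfl⟩ := hn.genD e he he'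
    exact Commute.mul_left ((show Commute g (g' * a ^ j) from hn.Gcen g hg _ he'))
      ((show Commute a (g' * a ^ j) from hn.aA.2.2 _ he).pow_left i)
  obtain ⟨d, hd⟩ : ∃ d, d = x⁻¹ * y * x * y⁻¹ := ⟨_, rfl⟩
  have hdE' : d ∈ E' := by
    rw [hd]
    exact E'.mul_mem (by simpa using hnE'.conj_mem y hn.yE' x⁻¹) (E'.inv_mem hn.yE')
  have hdE : d ∈ E := by
    rw [hd, show x⁻¹ * y * x * y⁻¹ = x⁻¹ * (y * x * y⁻¹) by group]
    exact E.mul_mem (E.inv_mem hn.xE) (hnE.conj_mem x hn.xE y)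
  have hyx : y * x * y⁻¹ = x * d := by rw [hd]; group
  obtain ⟨g1, hg1, i1, hdd⟩ := hn.genD d hdE hdE'
  have hyd : y * d * y⁻¹ = d * (c⁻¹) ^ i1 := by
    rw [hdd, ← conj_mul, ← conj_pow, hGy g1 hg1, hyay,
      (show Commute a c⁻¹ from (Commute.inv_left (hccen a)).symm).mul_pow, mul_assoc]
  obtain ⟨γ, hγ⟩ : ∃ γ, γ = (c⁻¹) ^ i1 := ⟨_, rfl⟩
  rw [← hγ] at hyd
  have hγc : ∀ w, Commute γ w := fun w => hγ ▸ (Commute.inv_left (hccen w)).pow_left i1
  have hγp : γ ^ p = 1 := by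
    rw [hγ, ← pow_mul, mul_comm, pow_mul, inv_pow, hcp, inv_one, one_pow]
  have hiter : ∀ j : ℕ, y ^ j * x * (y ^ j)⁻¹ = x * d ^ j * γ ^ j.choose 2 := by
    intro j
    induction j with
    | zero => simp
    | succ j ih =>
      rw [show y ^ (j + 1) * x * (y ^ (j + 1))⁻¹ = y * (y ^ j * x * (y ^ j)⁻¹) * y⁻¹ by
        rw [pow_succ']; group, ih, ← conj_mul, ← conj_mul, hyx, ← conj_pow, hyd,
        ((hγc d).symm).mul_pow,
        show y * γ ^ j.choose 2 * y⁻¹ = γ ^ j.choose 2 by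
          rw [← ((hγc y).pow_left _).eq, mul_inv_cancel_right],
        Nat.choose_succ_succ' j 1, Nat.choose_one_right, pow_succ', pow_add]
      simp only [mul_assoc]
  have hdp : d ^ p = 1 := by
    have h1 := hiter p
    rw [hn.yp, one_mul, inv_one, mul_one] at h1
    obtain ⟨m, hm⟩ := hpp.dvd_choose_self (show 2 ≠ 0 by norm_num)
      (by have := hpp.two_le; omega)
    rw [hm, pow_mul, hγp, one_pow, mul_one] at h1
    exact mul_left_cancel (a := x) (h1.symm.trans (mul_one x).symm)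
  -- elements of order `p` of `G`
  obtain ⟨O, hO⟩ : ∃ O : Subgroup Y, ∀ w, w ∈ O ↔ w ∈ G ∧ w ^ p = 1 :=
    ⟨{ carrier := {w | w ∈ G ∧ w ^ p = 1}
       one_mem' := ⟨G.one_mem, one_pow p⟩
       mul_mem' := fun {u v} hu hv => ⟨G.mul_mem hu.1 hv.1, by
         rw [(show Commute u v from hn.Gcen u hu.1 v (hn.GE' hv.1)).mul_pow, hu.2, hv.2, mul_one]⟩
       inv_mem' := fun {u} hu => ⟨G.inv_mem hu.1, by rw [inv_pow, hu.2, inv_one]⟩ }, fun w => Iff.rfl⟩
  have hOn : O.Normal := ⟨fun w hw u => (hO _).2 ⟨hGn.conj_mem w ((hO w).1 hw).1 u, by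
    rw [conj_pow, ((hO w).1 hw).2, mul_one, mul_inv_cancel]⟩⟩
  have hOstep : ∀ w ∈ O, x⁻¹ * w * x * w⁻¹ ∈ Subgroup.zpowers c := by
    intro w hw
    have hcO : c ∈ O := (hO c).2 ⟨hn.cG, hcp⟩
    have hCn : (Subgroup.zpowers c).Normal := ⟨fun z hz u => by
      obtain ⟨m, rfl⟩ := Subgroup.mem_zpowers_iff.1 hz
      rw [← ((show Commute c u from hccen u).zpow_left m).eq, mul_inv_cancel_right]
      exact Subgroup.zpow_mem_zpowers c m⟩
    have hOe : Elem p O := ⟨fun u hu v hv => hn.Gcen u ((hO u).1 hu).1 v (hn.GE' ((hO v).1 hv).1),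
      fun u hu => ((hO u).1 hu).2⟩
    have e1 : Elem p (O ⊔ Subgroup.zpowers a) := hOe.sup (Elem.zpowers hn.aA.2.1) fun u hu b hb => by
      obtain ⟨m, rfl⟩ := Subgroup.mem_zpowers_iff.1 hb
      exact ((show Commute u a from hn.Gcen u ((hO u).1 hu).1 a hn.aE').zpow_right m).eq
    have h1 := (card_mul_le (p := p) h.pY (le_sup_left : O ≤ O ⊔ Subgroup.zpowers a)
      (Subgroup.mem_sup_right (Subgroup.mem_zpowers a))
      (fun hh => hn.aG ((hO a).1 hh).1)).trans (e1.card_le h.rank)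
    rw [pow_succ' p 2] at h1
    have h2 : Nat.card O ≤ p ^ 2 := Nat.le_of_mul_le_mul_left h1 hpp.pos
    rcases eq_or_ne (Subgroup.zpowers c) O with heq | hne
    · rw [heq]
      exact O.mul_mem (by simpa using hOn.conj_mem w hw x⁻¹) (O.inv_mem hw)
    have hle : Subgroup.zpowers c ≤ O := Subgroup.zpowers_le.2 hcO
    have hrel : (Subgroup.zpowers c).relIndex O = p := by
      have h3 := ((Subgroup.zpowers c).subgroupOf O).index_mul_card
      rw [Nat.card_congr (Subgroup.subgroupOfEquivOfLe hle).toEquiv, Nat.card_zpowers,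
        orderOf_eq_prime hcp hn.c1] at h3
      obtain ⟨m, hm⟩ := (h.pY.to_subgroup O).index ((Subgroup.zpowers c).subgroupOf O)
      have hm' : (Subgroup.zpowers c).relIndex O = p ^ m := hm
      have hm0 : m ≠ 0 := fun e => hne (le_antisymm hle
        (Subgroup.relIndex_eq_one.1 (by rw [hm', e, pow_zero])))
      have hm1 : m ≤ 1 := by
        rw [← h3, hm, ← pow_succ] at h2
        have := (Nat.pow_le_pow_iff_right hpp.one_lt).1 h2
        omega
      rw [hm', show m = 1 by omega, pow_one]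
    haveI := hOn
    haveI := hCn
    have h4 := comm_mem_of_step h.pY hle hrel w hw x⁻¹
    rw [commutatorElement_def, inv_inv] at h4
    have h5 := (hCn.conj_mem _ ((Subgroup.zpowers c).inv_mem h4) w⁻¹)
    rwa [show w⁻¹ * (w * x⁻¹ * w⁻¹ * x)⁻¹ * w⁻¹⁻¹ = (w⁻¹ * (x⁻¹ * w * x)) by group,
      ← (show Commute (x⁻¹ * w * x) w⁻¹ from
        Commute.inv_right (hn.Gcen _ (by simpa using hGn.conj_mem w ((hO w).1 hw).1 x⁻¹) w
          (hn.GE' ((hO w).1 hw).1))).eq] at h5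
  obtain ⟨d1, hd1⟩ : ∃ d1, d1 = x⁻¹ * d * x * d⁻¹ := ⟨_, rfl⟩
  have hg1O : g1 ∈ O := by
    refine (hO g1).2 ⟨hg1, ?_⟩
    rwa [hdd, (show Commute g1 (a ^ i1) from hn.Gcen g1 hg1 _ (E'.pow_mem hn.aE' i1)).mul_pow,
      ← pow_mul, mul_comm i1 p, pow_mul, hn.aA.2.1, one_pow, mul_one] at hdp
  have hd1c : d1 ∈ Subgroup.zpowers c := by
    have hxa : x⁻¹ * a ^ i1 * x = a ^ i1 := by
      rw [mul_assoc, ((show Commute a x from hn.aA.2.2 x hn.xE).pow_left i1).eq,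
        inv_mul_cancel_left]
    have h2 : d1 = x⁻¹ * g1 * x * g1⁻¹ := by
      rw [hd1, hdd, show x⁻¹ * (g1 * a ^ i1) * x * (g1 * a ^ i1)⁻¹ =
        (x⁻¹ * g1 * x) * (x⁻¹ * a ^ i1 * x) * ((a ^ i1)⁻¹ * g1⁻¹) by group, hxa]
      group
    exact h2 ▸ hOstep g1 hg1O
  have hd1cen : ∀ w, Commute d1 w := fun w => by
    obtain ⟨m, rfl⟩ := Subgroup.mem_zpowers_iff.1 hd1c
    exact (show Commute c w from hccen w).zpow_left m
  have hd1p : d1 ^ p = 1 := by
    obtain ⟨m, rfl⟩ := Subgroup.mem_zpowers_iff.1 hd1c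
    rw [← zpow_natCast, ← zpow_mul, mul_comm, zpow_mul, zpow_natCast, hcp, one_zpow]
  have hxd : (x * d) ^ p = x ^ p := by
    rw [mul_pow_two (d := d1) (by
      rw [hd1]; group) (hd1cen d).symm.eq (hd1cen x).eq hd1p hp2, hdp, mul_one]
  have hrelD : (E ⊓ E').relIndex E = p := by
    rw [inf_comm]
    exact inf_relIndex hnE' (h.idx E' hE') fun hle => hn.xE' (hle hn.xE)
  have hxpD : x ^ p ∈ E ⊓ E' := by
    have h1 := Subgroup.pow_index_mem ((E ⊓ E').subgroupOf E) ⟨x, hn.xE⟩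
    rw [show ((E ⊓ E').subgroupOf E).index = p from hrelD] at h1
    exact Subgroup.mem_inf.2 ⟨E.pow_mem hn.xE p, by simpa [Subgroup.mem_subgroupOf] using h1⟩
  have hxpG : x ^ p ∈ G := by
    refine hn.Gmax _ (E.pow_mem hn.xE p) (Subgroup.mem_inf.1 hxpD).2 ?_
    have h1 : y * x ^ p * y⁻¹ = x ^ p := by rw [← conj_pow, hyx, hxd]
    exact (mul_inv_eq_iff_eq_mul.1 h1).symm
  -- the Frattini subgroup
  obtain ⟨π, hπ⟩ : ∃ π : Y →* Y ⧸ G, π = QuotientGroup.mk' G := ⟨_, rfl⟩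
  have hπ1 : ∀ w, π w = 1 ↔ w ∈ G := fun w => hπ ▸ QuotientGroup.eq_one_iff w
  have hEgen : ∀ e ∈ E, ∃ g ∈ G, ∃ (i : ℕ) (m : ℤ), e = g * a ^ i * x ^ m := by
    intro e he
    obtain ⟨e', he', z, hz, rfl⟩ := exists_decomp_of_prime (E := E ⊓ E') inf_le_left hrelD
      (le_normalizer_of_conj fun w _ v hv =>
        ⟨hnE.conj_mem v hv.1 w, hnE'.conj_mem v hv.2 w⟩) hn.xE
      (fun hh => hn.xE' hh.2) (W := Subgroup.zpowers x) (Subgroup.zpowers_le.2 hn.xE)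
      (Subgroup.mem_zpowers x) e he
    obtain ⟨m, rfl⟩ := Subgroup.mem_zpowers_iff.1 hz
    obtain ⟨g, hg, i, rfl⟩ := hn.genD e' he'.1 he'.2
    exact ⟨g, hg, i, m, rfl⟩
  have hπE : ∀ e ∈ E, π e ∈ Subgroup.closure {π a, π x} := by
    intro e he
    obtain ⟨g, hg, i, m, rfl⟩ := hEgen e he
    rw [map_mul, map_mul, (hπ1 g).2 hg, one_mul, map_pow, map_zpow]
    exact Subgroup.mul_mem _ (Subgroup.pow_mem _ (Subgroup.subset_closure (by simp)) i)
      (Subgroup.zpow_mem _ (Subgroup.subset_closure (by simp)) m)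
  have hπel : Elem p (Subgroup.closure {π a, π x}) := by
    refine elem_closure ?_ ?_
    · have h1 : π a * π x = π x * π a := by
        rw [← map_mul, ← map_mul, hn.aA.2.2 x hn.xE]
      rintro u (rfl | rfl) v (rfl | rfl) <;> first | rfl | exact h1 | exact h1.symm
    · rintro u (rfl | rfl)
      · rw [← map_pow, hn.aA.2.1, map_one]
      · rw [← map_pow, hπ1]; exact hxpG
  have hphiG : phi E ≤ G := phi_le_of (p := p) (fun e _ g hg => hGn.conj_mem g hg e)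
    (fun e he f hf => by
      rw [← hπ1, map_commutatorElement, commutatorElement_eq_one_iff_mul_comm]
      exact hπel.1 _ (hπE e he) _ (hπE f hf))
    (fun e he => by rw [← hπ1, map_pow]; exact hπel.2 _ (hπE e he))
  -- the plane
  haveI hAn := h.zeta_normal hE
  haveI hΦn := h.phi_normal hE
  obtain ⟨C1, hC1⟩ : ∃ C1, C1 = phi E ⊔ zeta p E := ⟨_, rfl⟩
  have hAC1 : zeta p E ≤ C1 := hC1 ▸ le_sup_right
  have hC1E : C1 ≤ E := hC1 ▸ sup_le (phi_le E) (zeta_le p E)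
  have hsupinv : ∀ {B : Subgroup Y}, B ≤ E → (∀ β ∈ Γ.𝔸 E, ∀ e : E, (e : Y) ∈ B → (β e : Y) ∈ B) →
      ∀ β ∈ Γ.𝔸 E, ∀ e : E, (e : Y) ∈ phi E ⊔ B → (β e : Y) ∈ phi E ⊔ B := by
    intro B hB hBi β hβ e he
    have h1 : e ∈ (phi E).subgroupOf E ⊔ B.subgroupOf E := by
      rw [← Subgroup.subgroupOf_sup (phi_le E) hB]; exact he
    have h2 : ((phi E).subgroupOf E ⊔ B.subgroupOf E).map β.toMonoidHom ≤
        (phi E).subgroupOf E ⊔ B.subgroupOf E := by
      rw [Subgroup.map_sup]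
      refine sup_le_sup ?_ ?_
      · rintro _ ⟨z, hz, rfl⟩; exact phi_invariant β hz
      · rintro _ ⟨z, hz, rfl⟩; exact hBi β hβ z hz
    have h3 := h2 ⟨e, h1, rfl⟩
    rw [← Subgroup.subgroupOf_sup (phi_le E) hB] at h3
    exact h3
  have hC1i : ∀ β ∈ Γ.𝔸 E, ∀ e : E, (e : Y) ∈ C1 → (β e : Y) ∈ C1 :=
    hC1 ▸ hsupinv (zeta_le p E) fun β _ e he => zeta_invariant β he
  have hAGZ : ∀ z ∈ zeta p E, z ∈ G → z ∈ zeta p (⊤ : Subgroup Y) := fun z hz hzG =>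
    mem_zeta_top.2 ⟨hz.2.1, fun w => (Subgroup.mem_centralizer_singleton_iff.1
      (top_of_gen (h.idx E hE) (fun v hv => Subgroup.mem_centralizer_singleton_iff.2
        (hz.2.2 v hv).symm) (Subgroup.mem_centralizer_singleton_iff.2
        (hn.Gcen z hzG y hn.yE').symm) hn.yE w)).symm⟩
  have hZG : ∀ z ∈ zeta p (⊤ : Subgroup Y), z ∈ G := fun z hz =>
    hn.Gmax z (h.top_le_zeta hE hz).1 (hA (h.top_le_zeta hE hz)) ((mem_zeta_top.1 hz).2 y)
  obtain ⟨z0, hz0, hz0Φ⟩ : ∃ z0 ∈ zeta p (⊤ : Subgroup Y), z0 ∉ phi E := by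
    by_contra hc
    push Not at hc
    obtain ⟨β, hβ, e, he, hne⟩ := hm
    exact hne (hAGZ _ (zeta_invariant β (h.top_le_zeta hE he))
      (hphiG (phi_invariant β (hc _ he))))
  have hC1rel : C1.relIndex E ≤ p := by
    obtain ⟨R, hR⟩ : ∃ R, R = phi E ⊔ Subgroup.zpowers z0 := ⟨_, rfl⟩
    have hRC : R ≤ C1 := hR ▸ hC1 ▸ sup_le_sup_left
      (Subgroup.zpowers_le.2 (h.top_le_zeta hE hz0)) _
    have hRG : R ≤ G := hR ▸ sup_le hphiG (Subgroup.zpowers_le.2 (hZG z0 hz0))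
    have h1 := card_mul_le (p := p) h.pY (show phi E ≤ R from hR ▸ le_sup_left)
      (show z0 ∈ R from hR ▸ Subgroup.mem_sup_right (Subgroup.mem_zpowers z0)) hz0Φ
    have h2 := card_mul_le (p := p) h.pY hRC (hAC1 hn.aA) (fun hh => hn.aG (hRG hh))
    have hΦC : phi E ≤ C1 := hC1 ▸ le_sup_left
    have h3 : (phi E).relIndex E ≤ p ^ 3 := relIndex_le h.rank
      (fun g _ w hw => hΦn.conj_mem w hw g) (fun u hu v hv => comm_phi h.pY hu hv)
      (fun u hu => pow_phi h.pY hu)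
    have h4 := ((phi E).subgroupOf C1).index_mul_card
    rw [Nat.card_congr (Subgroup.subgroupOfEquivOfLe hΦC).toEquiv] at h4
    rw [← Subgroup.relIndex_mul_relIndex _ _ _ hΦC hC1E] at h3
    have h5 : p ^ 2 * Nat.card (phi E) ≤ (phi E).relIndex C1 * Nat.card (phi E) := by
      calc p ^ 2 * Nat.card (phi E) = p * (p * Nat.card (phi E)) := by ring
        _ ≤ p * Nat.card R := Nat.mul_le_mul_left _ h1
        _ ≤ Nat.card C1 := h2
        _ = _ := h4.symm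
    have h6 := Nat.le_of_mul_le_mul_right h5 Nat.card_pos
    have h7 := (Nat.mul_le_mul_right (C1.relIndex E) h6).trans h3
    rw [pow_succ p 2] at h7
    exact Nat.le_of_mul_le_mul_left h7 (pow_pos hpp.pos 2)
  have hC1n : C1.Normal := h.normal_of_invariant hE hC1E hC1i
  have hEC1 : ∀ e ∈ E, ∀ g : Y, e⁻¹ * (g * e * g⁻¹) ∈ C1 := by
    intro e he g
    rcases eq_or_lt_of_le hC1E with heq | hlt
    · exact heq.symm ▸ E.mul_mem (E.inv_mem he) (hnE.conj_mem e he g)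
    have hrel : C1.relIndex E = p := by
      obtain ⟨m, hm'⟩ := (h.pY.to_subgroup E).index (C1.subgroupOf E)
      have hm2 : C1.relIndex E = p ^ m := hm'
      have hm0 : m ≠ 0 := fun e' => hlt.not_ge (Subgroup.relIndex_eq_one.1
        (by rw [hm2, e', pow_zero]))
      rw [hm2] at hC1rel ⊢
      have : m ≤ 1 := (Nat.pow_le_pow_iff_right hpp.one_lt).1 (by rwa [pow_one])
      rw [show m = 1 by omega, pow_one]
    haveI := hC1n
    have h1 := comm_mem_of_step h.pY hC1E hrel _ (E.inv_mem he) g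
    rwa [commutatorElement_def, inv_inv, mul_assoc, mul_assoc, ← mul_assoc g] at h1
  have hGfix : ∀ g ∈ G, g⁻¹ * (y * g * y⁻¹) ∈ phi E := fun g hg => by
    rw [hGy g hg, inv_mul_cancel]; exact Subgroup.one_mem _
  have hAdec : ∀ z ∈ zeta p E, ∃ g ∈ G, ∃ i : ℕ, z = g * a ^ i ∧ g ∈ zeta p (⊤ : Subgroup Y) := by
    intro z hz
    obtain ⟨g, hg, i, rfl⟩ := hn.genD z hz.1 (hA hz)
    refine ⟨g, hg, i, rfl, hAGZ g ?_ hg⟩
    have := (zeta p E).mul_mem hz ((zeta p E).inv_mem ((zeta p E).pow_mem hn.aA i))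
    rwa [mul_inv_cancel_right] at this
  have hCΦ : c ∉ phi E := by
    intro hcΦ
    obtain ⟨K, hK⟩ : ∃ K : Subgroup Y, ∀ w, w ∈ K ↔ w⁻¹ * (y * w * y⁻¹) ∈ phi E := by
      refine ⟨{ carrier := {w | w⁻¹ * (y * w * y⁻¹) ∈ phi E}
                one_mem' := by simp
                mul_mem' := fun {u v} hu hv => ?_
                inv_mem' := fun {u} hu => ?_ }, fun w => Iff.rfl⟩
      · show (u * v)⁻¹ * (y * (u * v) * y⁻¹) ∈ phi E
        rw [show (u * v)⁻¹ * (y * (u * v) * y⁻¹) =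
          v⁻¹ * (u⁻¹ * (y * u * y⁻¹)) * v⁻¹⁻¹ * (v⁻¹ * (y * v * y⁻¹)) by group]
        exact Subgroup.mul_mem _ (hΦn.conj_mem _ hu _) hv
      · show u⁻¹⁻¹ * (y * u⁻¹ * y⁻¹) ∈ phi E
        rw [show u⁻¹⁻¹ * (y * u⁻¹ * y⁻¹) = u * (u⁻¹ * (y * u * y⁻¹))⁻¹ * u⁻¹ by group]
        exact hΦn.conj_mem _ (Subgroup.inv_mem _ hu) _
    have hle : C1 ≤ K := by
      rw [hC1]
      refine sup_le (fun w hw => (hK w).2 (hGfix w (hphiG hw))) fun w hw => ?_
      obtain ⟨g, hg, i, rfl, -⟩ := hAdec w hw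
      refine K.mul_mem ((hK g).2 (hGfix g hg)) (K.pow_mem ((hK a).2 ?_) i)
      rw [hyay, inv_mul_cancel_left]
      exact Subgroup.inv_mem _ hcΦ
    refine h.flag hE (hC1 ▸ le_sup_left) le_rfl hC1E hC1i hC1i hn.yE (fun w hw => (hK w).1 (hle hw))
      (fun w hw => hC1 ▸ Subgroup.mem_sup_left ((hK w).1 (hle hw))) fun w hw => hEC1 w hw y
  -- the invariant plane
  obtain ⟨C0, hC0⟩ : ∃ C0, C0 = phi E ⊔ Subgroup.zpowers c := ⟨_, rfl⟩
  have hC0G : C0 ≤ G := hC0 ▸ sup_le hphiG (Subgroup.zpowers_le.2 hn.cG)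
  have hC0C1 : C0 ≤ C1 := hC0 ▸ hC1 ▸ sup_le_sup_left
    (Subgroup.zpowers_le.2 (h.top_le_zeta hE hn.cA)) _
  have hcC0 : c ∈ C0 := hC0 ▸ Subgroup.mem_sup_right (Subgroup.mem_zpowers c)
  have hΦC0 : phi E ≤ C0 := hC0 ▸ le_sup_left
  have hC0n : C0.Normal := by
    rw [hC0]
    haveI : (Subgroup.zpowers c).Normal := ⟨fun z hz u => by
      obtain ⟨m, rfl⟩ := Subgroup.mem_zpowers_iff.1 hz
      rw [← ((show Commute c u from hccen u).zpow_left m).eq, mul_inv_cancel_right]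
      exact Subgroup.zpow_mem_zpowers c m⟩
    infer_instance
  haveI := hC0n
  -- every element of the plane is congruent to a word in `c` and `a`
  obtain ⟨πC, hπC⟩ : ∃ πC : Y →* Y ⧸ phi E, πC = QuotientGroup.mk' (phi E) := ⟨_, rfl⟩
  have hπC1 : ∀ w, πC w = 1 ↔ w ∈ phi E := fun w => hπC ▸ QuotientGroup.eq_one_iff w
  have hplane : ∀ w ∈ C1, ∃ i j : ℤ, πC w = πC c ^ i * πC a ^ j := by
    obtain ⟨P, hP⟩ : ∃ P, P = Subgroup.closure {πC c, πC a} := ⟨_, rfl⟩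
    have hPc : Commute (πC c) (πC a) := (show Commute c a from hccen a).map πC
    have hPmem : ∀ u ∈ P, ∃ i j : ℤ, u = πC c ^ i * πC a ^ j := by
      intro u hu
      rw [hP] at hu
      induction hu using Subgroup.closure_induction with
      | mem u hu =>
        rcases hu with rfl | rfl
        · exact ⟨1, 0, by simp⟩
        · exact ⟨0, 1, by simp⟩
      | one => exact ⟨0, 0, by simp⟩
      | mul u v _ _ ihu ihv =>
        obtain ⟨i, j, rfl⟩ := ihu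
        obtain ⟨i', j', rfl⟩ := ihv
        refine ⟨i + i', j + j', ?_⟩
        rw [zpow_add, zpow_add, mul_assoc, ← mul_assoc (πC a ^ j),
          ((hPc.zpow_zpow i' j).symm).eq]
        simp only [mul_assoc]
      | inv u _ ihu =>
        obtain ⟨i, j, rfl⟩ := ihu
        exact ⟨-i, -j, by rw [mul_inv_rev, ← zpow_neg, ← zpow_neg,
          ((hPc.zpow_zpow (-i) (-j))).eq]⟩
    intro w hw
    refine hPmem _ ?_
    -- the plane has order at most `p ^ 2` modulo the Frattini subgroup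
    by_contra hwP
    have hcomm : ∀ u ∈ C1, ∀ v ∈ C1, ⁅u, v⁆ ∈ phi E := fun u hu v hv =>
      comm_phi h.pY (hC1E hu) (hC1E hv)
    have hCx : x ∉ C1 := fun hh => hn.xE' ((hC1 ▸ sup_le
      (hphiG.trans hn.GE') hA : C1 ≤ E') hh)
    obtain ⟨R, hR⟩ : ∃ R : Subgroup Y, R = P.comap πC := ⟨_, rfl⟩
    have hcR : c ∈ R := hR ▸ hP ▸ Subgroup.subset_closure (by simp)
    have haR : a ∈ R := hR ▸ hP ▸ Subgroup.subset_closure (by simp)
    have hΦR : phi E ≤ R := fun u hu => by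
      rw [hR, Subgroup.mem_comap, (hπC1 u).2 hu]; exact P.one_mem
    obtain ⟨R', hR'⟩ : ∃ R', R' = C1 ⊓ R := ⟨_, rfl⟩
    have hΦR' : phi E ≤ R' := hR' ▸ le_inf (hC1 ▸ le_sup_left) hΦR
    obtain ⟨R0, hR0⟩ : ∃ R0, R0 = phi E ⊔ Subgroup.zpowers c := ⟨_, rfl⟩
    have hR0G : R0 ≤ G := hR0 ▸ sup_le hphiG (Subgroup.zpowers_le.2 hn.cG)
    have hR0R' : R0 ≤ R' := hR0 ▸ sup_le hΦR' (hR' ▸ Subgroup.zpowers_le.2
      ⟨hAC1 (h.top_le_zeta hE hn.cA), hcR⟩)
    have k1 := card_mul_le (p := p) h.pY (show phi E ≤ R0 from hR0 ▸ le_sup_left)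
      (show c ∈ R0 from hR0 ▸ Subgroup.mem_sup_right (Subgroup.mem_zpowers c)) hCΦ
    have k2 := card_mul_le (p := p) h.pY hR0R'
      (show a ∈ R' from hR' ▸ ⟨hAC1 hn.aA, haR⟩) (fun hh => hn.aG (hR0G hh))
    have k3 := card_mul_le (p := p) h.pY (show R' ≤ C1 from hR' ▸ inf_le_left) hw
      (fun hh => hwP (by rw [hR', hR] at hh; exact hh.2))
    have k4 := card_mul_le (p := p) h.pY hC1E hn.xE hCx
    have k5 : (phi E).relIndex E ≤ p ^ 3 := relIndex_le h.rank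
      (fun g _ v hv => hΦn.conj_mem v hv g) (fun u hu v hv => comm_phi h.pY hu hv)
      (fun u hu => pow_phi h.pY hu)
    have k6 := ((phi E).subgroupOf E).index_mul_card
    rw [Nat.card_congr (Subgroup.subgroupOfEquivOfLe (phi_le E)).toEquiv] at k6
    have k7 : p ^ 4 * Nat.card (phi E) ≤ p ^ 3 * Nat.card (phi E) := by
      calc p ^ 4 * Nat.card (phi E) = p * (p * (p * (p * Nat.card (phi E)))) := by ring
        _ ≤ p * (p * (p * Nat.card R0)) :=
            Nat.mul_le_mul_left _ (Nat.mul_le_mul_left _ (Nat.mul_le_mul_left _ k1))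
        _ ≤ p * (p * Nat.card R') := Nat.mul_le_mul_left _ (Nat.mul_le_mul_left _ k2)
        _ ≤ p * Nat.card C1 := Nat.mul_le_mul_left _ k3
        _ ≤ Nat.card E := k4
        _ = _ := k6.symm
        _ ≤ _ := Nat.mul_le_mul_right _ k5
    exact absurd ((Nat.pow_le_pow_iff_right hpp.one_lt).1 (Nat.le_of_mul_le_mul_right k7 Nat.card_pos))
      (by norm_num)
  obtain ⟨τ, hτ𝔸, hτY, hτ⟩ := h.exists_conj hE y
  have hC0fix : ∀ w ∈ C0, w⁻¹ * (y * w * y⁻¹) ∈ phi E := fun w hw => hGfix w (hC0G hw)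
  obtain ⟨β, hβ, ec, hec, hβc⟩ : ∃ β ∈ Γ.𝔸 E, ∃ e : E, (e : Y) = c ∧ (β e : Y) ∉ C0 := by
    by_contra hc
    push Not at hc
    have hC0i : ∀ β ∈ Γ.𝔸 E, ∀ e : E, (e : Y) ∈ C0 → (β e : Y) ∈ C0 := by
      intro β hβ e he
      obtain ⟨R, hR⟩ : ∃ R : Subgroup E, R = (C0.subgroupOf E).comap β.toMonoidHom := ⟨_, rfl⟩
      have hle : C0 ≤ R.map E.subtype := by
        rw [hC0]
        refine sup_le (fun w hw => ⟨⟨w, phi_le E hw⟩, ?_, rfl⟩) (Subgroup.zpowers_le.2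
          ⟨⟨c, hn.GE hn.cG⟩, ?_, rfl⟩)
        · rw [hR]; exact hΦC0 (phi_invariant β (e := ⟨w, phi_le E hw⟩) hw)
        · rw [hR]; exact hc β hβ ⟨c, hn.GE hn.cG⟩ rfl
      obtain ⟨e', he', hee⟩ := hle he
      rw [← (Subtype.ext hee : e' = e)]
      rw [hR] at he'
      exact he'
    refine h.flag hE hΦC0 hC0C1 hC1E hC0i hC1i hn.yE hC0fix (fun w hw => ?_) fun w hw => hEC1 w hw y
    obtain ⟨i, j, hij⟩ := hplane w hw
    have hm : πC (w⁻¹ * (y * w * y⁻¹)) = πC c ^ (-j) := by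
      have hPc : Commute (πC c) (πC a) := (show Commute c a from hccen a).map πC
      have hya : πC y * πC a * (πC y)⁻¹ = πC a * (πC c)⁻¹ := by
        rw [← map_inv, ← map_mul, ← map_mul, hyay, map_mul, map_inv]
      have hyc : πC y * πC c * (πC y)⁻¹ = πC c := by
        rw [← map_inv, ← map_mul, ← map_mul, ← hccen y, mul_inv_cancel_right]
      simp only [map_mul, map_inv]
      rw [hij, ← conj_mul, ← conj_zpow, ← conj_zpow, hya, hyc, (hPc.symm.inv_right).mul_zpow,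
        inv_zpow, ← zpow_neg]
      group
    have h2 : (w⁻¹ * (y * w * y⁻¹)) * (c ^ (-j))⁻¹ ∈ phi E := by
      rw [← hπC1, map_mul, map_inv, map_zpow, hm, mul_inv_cancel]
    have := C0.mul_mem (hΦC0 h2) (C0.zpow_mem hcC0 (-j))
    rwa [inv_mul_cancel_right] at this
  have hecC0 : (ec : Y) ∈ C0 := hec ▸ hcC0
  have hc'C1 : (β ec : Y) ∈ C1 := hC1i β hβ ec (hC0C1 hecC0)
  obtain ⟨q, hq⟩ : ∃ q : E →* E ⧸ frattini E, q = QuotientGroup.mk' (frattini E) := ⟨_, rfl⟩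
  have hq1 : ∀ e : E, q e = 1 ↔ (e : Y) ∈ phi E := fun e => by
    rw [hq, QuotientGroup.mk'_apply, QuotientGroup.eq_one_iff, mem_phi]
  have hqf : ∀ (σ : MulAut E) (e : E), frattiniHom E σ (q e) = q (σ e) := fun σ e => by
    rw [hq]; rfl
  have hqs : ∀ v, ∃ e, q e = v := hq ▸ QuotientGroup.mk'_surjective _
  have hqc : ∀ e f : E, Commute (q e) (q f) := fun e f => by
    rw [← commutatorElement_eq_one_iff_commute, ← map_commutatorElement, hq1]
    simpa [commutatorElement_def] using comm_phi h.pY e.2 f.2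
  have hVp : ∀ e : E, q e ^ p = 1 := fun e => by
    rw [← map_pow, hq1, SubgroupClass.coe_pow]
    exact pow_phi h.pY e.2
  obtain ⟨ea, hea⟩ : ∃ ea : E, (ea : Y) = a := ⟨⟨a, hn.aA.1⟩, rfl⟩
  have hC0q : ∀ (e : E) (k : ℤ), q e = q ec ^ k → (e : Y) ∈ C0 := by
    intro e k hk
    have h1 : (e : Y) * (c ^ k)⁻¹ ∈ phi E := by
      have := (hq1 (e * (ec ^ k)⁻¹)).1 (by rw [map_mul, map_inv, map_zpow, hk, mul_inv_cancel])
      simpa [hec] using this
    have := C0.mul_mem (hΦC0 h1) (C0.zpow_mem hcC0 k)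
    rwa [inv_mul_cancel_right] at this
  have hplaneq : ∀ e : E, (e : Y) ∈ C1 → ∃ i j : ℤ, q e = q ec ^ i * q ea ^ j := by
    intro e he
    obtain ⟨i, j, hij⟩ := hplane e he
    refine ⟨i, j, ?_⟩
    rw [← map_zpow, ← map_zpow, ← map_mul, ← mul_inv_eq_one, ← map_inv, ← map_mul, hq1, ← hπC1]
    simp only [Subgroup.coe_mul, Subgroup.coe_inv, SubgroupClass.coe_zpow, hec, hea, map_mul,
      map_inv, map_zpow, hij, mul_inv_cancel]
  obtain ⟨t, ht⟩ : ∃ t, t = frattiniHom E τ := ⟨_, rfl⟩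
  have ht1 : t (q ec) = q ec := by
    rw [ht, hqf]
    refine congrArg q (Subtype.ext ?_)
    rw [hτ, hec, ← hccen y, mul_inv_cancel_right]
  have hta : t (q ea) = q ea * (q ec)⁻¹ := by
    rw [ht, hqf, ← map_inv, ← map_mul]
    refine congrArg q (Subtype.ext ?_)
    rw [hτ, Subgroup.coe_mul, Subgroup.coe_inv, hec, hea, hyay]
  have htplane : ∀ i j : ℤ,
      t (q ec ^ i * q ea ^ j) = q ec ^ i * q ea ^ j * q ec ^ (-j) := by
    intro i j
    rw [map_mul, map_zpow, map_zpow, ht1, hta, ((hqc ea ec).inv_right).mul_zpow, inv_zpow,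
      ← zpow_neg, mul_assoc]
  obtain ⟨i0, j0, hc'⟩ := hplaneq (β ec) hc'C1
  have hj0 : (j0 : ZMod p) ≠ 0 := fun h0 => hβc (hC0q _ i0 (by
    rw [hc', zpow_congr (hVp ea) (show (j0 : ZMod p) = ((0 : ℤ) : ZMod p) by rw [h0, Int.cast_zero]),
      zpow_zero, mul_one]))
  have ht2 : t (q (β ec)) = q (β ec) * q ec ^ (-j0) := by rw [hc', htplane]
  obtain ⟨k, l, hbi⟩ := hplaneq (β⁻¹ ec) (hC1i _ ((Γ.𝔸 E).inv_mem hβ) _ (hC0C1 hecC0))
  have hl : (l : ZMod p) ≠ 0 := by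
    intro h0
    rw [zpow_congr (hVp ea) (show (l : ZMod p) = ((0 : ℤ) : ZMod p) by rw [h0, Int.cast_zero]),
      zpow_zero, mul_one] at hbi
    have h1 := congrArg (frattiniHom E β) hbi
    rw [hqf, MulAut.apply_inv_self, map_zpow, hqf] at h1
    have hk : (k : ZMod p) ≠ 0 := fun hk0 => by
      rw [zpow_congr (hVp _) (show (k : ZMod p) = ((0 : ℤ) : ZMod p) by rw [hk0, Int.cast_zero]),
        zpow_zero, hq1, hec] at h1
      exact hCΦ h1
    obtain ⟨k', hk'⟩ := ZMod.intCast_surjective ((k : ZMod p)⁻¹)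
    refine hβc (hC0q _ k' ?_)
    rw [h1, ← zpow_mul, zpow_congr (hVp _) (show ((k * k' : ℤ) : ZMod p) = ((1 : ℤ) : ZMod p) by
      rw [Int.cast_mul, hk', mul_inv_cancel₀ hk, Int.cast_one]), zpow_one]
  obtain ⟨τ', hτ'⟩ : ∃ τ', τ' = β * τ * β⁻¹ := ⟨_, rfl⟩
  have hb : frattiniHom E β (q ec) = q (β ec) := hqf _ _
  have hbb : (frattiniHom E β)⁻¹ (q ec) = q ec ^ k * q ea ^ l := by
    rw [← map_inv, hqf, hbi]
  have ht3 : frattiniHom E τ' (q (β ec)) = q (β ec) := by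
    rw [hτ', map_mul, map_mul, map_inv, MulAut.mul_apply, MulAut.mul_apply, ← hb,
      MulAut.inv_apply_self, ← ht, ht1]
  have ht4 : frattiniHom E τ' (q ec) = q ec * q (β ec) ^ (-l) := by
    rw [hτ', map_mul, map_mul, map_inv, MulAut.mul_apply, MulAut.mul_apply, hbb, ← ht, htplane,
      map_mul, ← hbb, MulAut.apply_inv_self, map_zpow, hb]
  obtain ⟨m, n, hm1, hm2⟩ := shear_inv (hVp ec) (hVp (β ec)) (hqc _ _)
    (show ((-j0 : ℤ) : ZMod p) ≠ 0 by rw [Int.cast_neg, neg_ne_zero]; exact hj0)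
    (show ((-l : ℤ) : ZMod p) ≠ 0 by rw [Int.cast_neg, neg_ne_zero]; exact hl) ht1 ht2 ht3 ht4
  obtain ⟨W, hW⟩ : ∃ W, W = (τ ^ m * τ' ^ n * τ ^ m) ^ 2 := ⟨_, rfl⟩
  have hWimg : frattiniHom E W = (t ^ m * frattiniHom E τ' ^ n * t ^ m) ^ 2 := by
    rw [hW, ht, map_pow, map_mul, map_mul, map_pow, map_pow]
  rw [← hWimg] at hm1 hm2
  have hWpl : ∀ e : E, (e : Y) ∈ C1 → frattiniHom E W (q e) = (q e)⁻¹ := by
    intro e he
    obtain ⟨i, j, hij⟩ := hplaneq e he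
    obtain ⟨i', j', hij', hcom⟩ : ∃ i' j' : ℤ, q e = q ec ^ i' * q (β ec) ^ j' ∧
        Commute (q ec ^ i') (q (β ec) ^ j') := by
      obtain ⟨J, hJ⟩ := ZMod.intCast_surjective ((j : ZMod p) * (j0 : ZMod p)⁻¹)
      refine ⟨i - i0 * J, J, ?_, (hqc _ _).zpow_zpow _ _⟩
      rw [hc', ((hqc ec ea).zpow_zpow i0 j0).mul_zpow, ← zpow_mul, ← zpow_mul,
        ← mul_assoc, ← zpow_add, sub_add_cancel, zpow_congr (hVp ea)
        (show ((j0 * J : ℤ) : ZMod p) = (j : ZMod p) by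
          rw [Int.cast_mul, hJ, mul_comm (j : ZMod p), ← mul_assoc, mul_inv_cancel₀ hj0, one_mul]),
        hij]
    rw [hij', map_mul, map_zpow, map_zpow, hm1, hm2, inv_zpow, inv_zpow, mul_inv_rev]
    exact (hcom.inv_inv).eq
  obtain ⟨T2, hT2⟩ : ∃ T2 : Subgroup (MulAut E), ∀ σ, σ ∈ T2 ↔ σ ∈ Γ.𝔸 E ∧
      ∀ e : E, (e : Y)⁻¹ * σ e ∈ C1 := by
    refine ⟨{ carrier := {σ | σ ∈ Γ.𝔸 E ∧ ∀ e : E, (e : Y)⁻¹ * σ e ∈ C1}
              one_mem' := ⟨Subgroup.one_mem _, fun e => by simp⟩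
              mul_mem' := fun {u v} hu hv => ⟨Subgroup.mul_mem _ hu.1 hv.1, fun e => ?_⟩
              inv_mem' := fun {u} hu => ⟨Subgroup.inv_mem _ hu.1, fun e => ?_⟩ }, fun σ => Iff.rfl⟩
    · have h1 := C1.mul_mem (hv.2 e) (hu.2 (v e))
      rwa [mul_assoc, mul_inv_cancel_left] at h1
    · have h1 := C1.inv_mem (hu.2 (u⁻¹ e))
      rwa [MulAut.apply_inv_self, mul_inv_rev, inv_inv] at h1
  have hτT : τ ∈ T2 := (hT2 τ).2 ⟨hτ𝔸, fun e => by rw [hτ]; exact hEC1 e e.2 y⟩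
  have hτ'T : τ' ∈ T2 := by
    refine (hT2 τ').2 ⟨hτ' ▸ (Γ.𝔸 E).mul_mem ((Γ.𝔸 E).mul_mem hβ hτ𝔸) ((Γ.𝔸 E).inv_mem hβ),
      fun e => ?_⟩
    obtain ⟨f, rfl⟩ := β.surjective e
    rw [hτ', MulAut.mul_apply, MulAut.mul_apply, MulAut.inv_apply_self, ← Subgroup.coe_inv,
      ← map_inv, ← Subgroup.coe_mul, ← map_mul]
    exact hC1i β hβ _ (by simpa using ((hT2 τ).1 hτT).2 f)
  have hWT : W ∈ T2 := hW ▸ T2.pow_mem (T2.mul_mem (T2.mul_mem (T2.pow_mem hτT m)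
    (T2.pow_mem hτ'T n)) (T2.pow_mem hτT m)) 2
  obtain ⟨κ, hκ⟩ : ∃ κ, κ = (τ * W)⁻¹ * (W * τ) := ⟨_, rfl⟩
  have hκT : κ ∈ T2 := hκ ▸ T2.mul_mem (T2.inv_mem (T2.mul_mem hτT hWT)) (T2.mul_mem hWT hτT)
  have hκfix : ∀ e : E, (e : Y) ∈ C1 → frattiniHom E κ (q e) = q e := by
    intro e he
    have he' : (τ e : Y) ∈ C1 := hC1i τ hτ𝔸 e he
    rw [hκ, map_mul, map_inv, map_mul, map_mul, MulAut.mul_apply, MulAut.mul_apply, hqf τ e,
      hWpl _ he', ← hqf τ e, ← map_inv, ← hWpl e he, ← MulAut.mul_apply _ (frattiniHom E τ),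
      MulAut.inv_apply_self]
  have hκs : κ ∈ Γ.𝔸 E ⊓ stab E C1 C1 := by
    refine Subgroup.mem_inf.2 ⟨((hT2 κ).1 hκT).1, mem_stab.2 ⟨fun e he => ?_, fun e he => ?_,
      fun e he => ?_, fun e he => ?_, ((hT2 κ).1 hκT).2⟩⟩
    · exact hC1i κ ((hT2 κ).1 hκT).1 e he
    · exact hC1i κ ((hT2 κ).1 hκT).1 e he
    · have h1 := hκfix e he
      rw [hqf] at h1
      simpa using (hq1 (e⁻¹ * κ e)).1 (by rw [map_mul, map_inv, h1, inv_mul_cancel])
    · exact ((hT2 κ).1 hκT).2 e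
  obtain ⟨U, hU⟩ : ∃ U, U = Γ.𝔸 E ⊓ stab E C1 C1 := ⟨_, rfl⟩
  rw [← hU] at hκs
  have hUn : ∀ σ ∈ Γ.𝔸 E, ∀ u ∈ U, σ * u * σ⁻¹ ∈ U := by
    intro σ hσ u hu
    rw [hU] at hu ⊢
    obtain ⟨hu1, hu2⟩ := Subgroup.mem_inf.1 hu
    obtain ⟨-, -, u3, -, u5⟩ := mem_stab.1 hu2
    have hmem := (Γ.𝔸 E).mul_mem ((Γ.𝔸 E).mul_mem hσ hu1) ((Γ.𝔸 E).inv_mem hσ)
    have h5 : ∀ e : E, (e : Y)⁻¹ * (σ * u * σ⁻¹) e ∈ C1 := fun e => by
      obtain ⟨f, rfl⟩ := σ.surjective e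
      rw [MulAut.mul_apply, MulAut.mul_apply, MulAut.inv_apply_self, ← Subgroup.coe_inv,
        ← map_inv, ← Subgroup.coe_mul, ← map_mul]
      exact hC1i σ hσ _ (by simpa using u5 f)
    refine Subgroup.mem_inf.2 ⟨hmem, mem_stab.2 ⟨hC1i _ hmem, hC1i _ hmem, fun e he => ?_,
      fun e _ => h5 e, h5⟩⟩
    obtain ⟨f, rfl⟩ := σ.surjective e
    rw [MulAut.mul_apply, MulAut.mul_apply, MulAut.inv_apply_self, ← Subgroup.coe_inv,
      ← map_inv, ← Subgroup.coe_mul, ← map_mul]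
    refine phi_invariant σ ?_
    simpa using u3 f (by simpa using hC1i σ⁻¹ ((Γ.𝔸 E).inv_mem hσ) _ he)
  have hsup : U ⊔ autY E ≤ autY E := by
    refine h.max E hE _ (sup_le (hU ▸ inf_le_left) (h.conj E hE)) ?_ le_sup_right
    refine IsPGroup.to_sup_of_normal_left' (hU ▸ (isPGroup_stab h.pY E C1 C1).to_le inf_le_right)
      ?_ ?_
    · rintro ⟨σ, hσ⟩
      obtain ⟨g, hg⟩ := mem_autY.1 hσ
      obtain ⟨k, hk⟩ := h.pY g
      refine ⟨k, Subtype.ext (MulEquiv.ext fun e => Subtype.ext ?_)⟩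
      have hit : ∀ j : ℕ, ((σ ^ j) e : Y) = g ^ j * e * (g ^ j)⁻¹ := by
        intro j
        induction j with
        | zero => simp
        | succ j ih => rw [pow_succ', MulAut.mul_apply, hg, ih, pow_succ']; group
      simp [hit, hk]
    · exact fun σ hσ => Subgroup.mem_normalizer_fintype fun u hu => hUn σ (h.conj E hE hσ) u hu
  obtain ⟨g, hg⟩ := mem_autY.1 (hsup (Subgroup.mem_sup_left hκs))
  have hgE : g ∈ E := by
    by_contra hgE
    obtain ⟨K, hK⟩ : ∃ K : Subgroup Y, ∀ v, v ∈ K ↔ ∀ w ∈ C1, w⁻¹ * (v * w * v⁻¹) ∈ phi E := by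
      refine ⟨{ carrier := {v | ∀ w ∈ C1, w⁻¹ * (v * w * v⁻¹) ∈ phi E}
                one_mem' := fun w _ => by simp
                mul_mem' := fun {u v} hu hv w hw => ?_
                inv_mem' := fun {u} hu w hw => ?_ }, fun v => Iff.rfl⟩
      · have h1 := (phi E).mul_mem (hv w hw) (hu _ (hC1n.conj_mem w hw v))
        rwa [show w⁻¹ * (v * w * v⁻¹) * ((v * w * v⁻¹)⁻¹ * (u * (v * w * v⁻¹) * u⁻¹)) =
          w⁻¹ * (u * v * w * (u * v)⁻¹) by group] at h1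
      · have h1 := (phi E).inv_mem (hu _ (by simpa using hC1n.conj_mem w hw u⁻¹))
        rwa [show ((u⁻¹ * w * u)⁻¹ * (u * (u⁻¹ * w * u) * u⁻¹))⁻¹ = w⁻¹ * (u⁻¹ * w * u⁻¹⁻¹) by
          group] at h1
    have hEK : E ≤ K := fun v hv => (hK v).2 fun w hw => by
      have h1 := comm_phi h.pY (E.inv_mem (hC1E hw)) hv
      rwa [commutatorElement_def, inv_inv, mul_assoc, mul_assoc, ← mul_assoc v] at h1
    have hgK : g ∈ K := (hK g).2 fun w hw => by
      have h1 := hκfix ⟨w, hC1E hw⟩ hw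
      rw [hqf] at h1
      have := (hq1 (⟨w, hC1E hw⟩⁻¹ * κ ⟨w, hC1E hw⟩)).1
        (by rw [map_mul, map_inv, h1, inv_mul_cancel])
      simpa [hg] using this
    have h1 := (hK y).1 (top_of_gen (h.idx E hE) hEK hgK hgE y) a (hAC1 hn.aA)
    rw [hyay, inv_mul_cancel_left] at h1
    exact hCΦ (inv_inv c ▸ (phi E).inv_mem h1)
  have hκ1 : frattiniHom E κ = 1 := by
    refine MulEquiv.ext fun v => ?_
    obtain ⟨e, rfl⟩ := hqs v
    rw [hqf, MulAut.one_apply, ← mul_inv_eq_one, ← map_inv, ← map_mul, hq1]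
    have h1 := comm_phi h.pY hgE e.2
    simpa [hg, commutatorElement_def] using h1
  have hWt : frattiniHom E W * t = t * frattiniHom E W := by
    rw [hκ, map_mul, map_inv, inv_mul_eq_one, map_mul, map_mul] at hκ1
    rw [ht, hκ1]
  obtain ⟨ex, hex⟩ : ∃ ex : E, (ex : Y) = x := ⟨⟨x, hn.xE⟩, rfl⟩
  obtain ⟨ed, hed⟩ : ∃ ed : E, (ed : Y) = d := ⟨⟨d, hdE⟩, rfl⟩
  have hdC1 : d ∈ C1 := by
    have h1 := hEC1 x hn.xE y
    rwa [hyx, inv_mul_cancel_left] at h1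
  have htx : t (q ex) = q ex * q ed := by
    rw [ht, hqf, ← map_mul]
    refine congrArg q (Subtype.ext ?_)
    rw [hτ, Subgroup.coe_mul, hex, hed, hyx]
  obtain ⟨ev, hev, hWx⟩ : ∃ ev : E, (ev : Y) ∈ C1 ∧ frattiniHom E W (q ex) = q ex * q ev := by
    refine ⟨ex⁻¹ * W ex, by simpa using ((hT2 W).1 hWT).2 ex, ?_⟩
    rw [hqf, ← map_mul, mul_inv_cancel_left]
  obtain ⟨iv, jv, hijv⟩ := hplaneq ev hev
  have hdC0 : d ∈ C0 := by
    have h1 := DFunLike.congr_fun hWt (q ex)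
    rw [MulAut.mul_apply, MulAut.mul_apply, htx, map_mul, hWx, hWpl ed (hed ▸ hdC1), map_mul, htx,
      hijv, htplane, mul_assoc (q ex), mul_assoc (q ex), mul_left_cancel_iff] at h1
    obtain ⟨V, hV⟩ : ∃ V, V = q ec ^ iv * q ea ^ jv := ⟨_, rfl⟩
    rw [← hV] at h1 hijv
    have h2 : V * (q ed)⁻¹ = V * (q ed * q ec ^ (-jv)) := by
      rw [h1, ← mul_assoc, ← mul_assoc, ← hijv, (hqc ev ed).eq]
    have h3 : q (ed ^ 2) = q ec ^ jv := by
      rw [mul_left_cancel_iff, zpow_neg] at h2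
      rw [map_pow, pow_two]
      calc q ed * q ed = q ed * (q ed * (q ec ^ jv)⁻¹) * q ec ^ jv := by group
        _ = _ := by rw [← h2, mul_inv_cancel, one_mul]
    have h4 := hC0q _ jv h3
    rw [SubgroupClass.coe_pow, hed] at h4
    obtain ⟨r, hr⟩ := hpp.odd_of_ne_two hp2
    have h5 := C0.pow_mem h4 (r + 1)
    rwa [← pow_mul, show 2 * (r + 1) = p + 1 by omega, pow_succ, hdp, one_mul] at h5
  -- the flag on the other member
  have hdG : d ∈ G := hC0G hdC0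
  have haπ : π a * π x = π x * π a := by rw [← map_mul, ← map_mul, hn.aA.2.2 x hn.xE]
  have hyπ : π y * π x = π x * π y := by
    rw [← map_mul, ← map_mul, show y * x = x * d * y by rw [← hyx, inv_mul_cancel_right], map_mul,
      map_mul, (hπ1 d).2 hdG, mul_one, map_mul]
  have hE'gen : ∀ e ∈ E', ∃ i j : ℕ, π e = π a ^ i * π y ^ j := by
    intro e he
    obtain ⟨d', hd', hd'', j, rfl⟩ := hn.gen' e he
    obtain ⟨g', hg', i, rfl⟩ := hn.genD d' hd' hd''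
    exact ⟨i, j, by rw [map_mul, map_mul, (hπ1 g').2 hg', one_mul, map_pow, map_pow]⟩
  have hphiG' : phi E' ≤ G := phi_le_of (p := p) (fun e _ v hv => hGn.conj_mem v hv e) hn.Gquot
    fun e he => by
      obtain ⟨i, j, hij⟩ := hE'gen e he
      have hcay : Commute (π a) (π y) := by
        rw [← commutatorElement_eq_one_iff_commute, ← map_commutatorElement, hπ1]
        exact hn.Gquot a hn.aE' y hn.yE'
      rw [← hπ1, map_pow, hij, (hcay.pow_pow i j).mul_pow, ← pow_mul, ← pow_mul, mul_comm i,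
        mul_comm j, pow_mul, pow_mul, ← map_pow π a, ← map_pow π y, hn.aA.2.1, hn.yp, map_one, one_pow,
        one_pow, one_mul]
  haveI hΦn' := h.phi_normal hE'
  have hΦrel : (phi E').relIndex G ≤ p := by
    have h1 : (phi E').relIndex E' ≤ p ^ 3 := relIndex_le h.rank
      (fun g _ w hw => hΦn'.conj_mem w hw g) (fun u hu v hv => comm_phi h.pY hu hv)
      (fun u hu => pow_phi h.pY hu)
    have h2 := card_mul_le (p := p) h.pY (le_sup_left : G ≤ G ⊔ Subgroup.zpowers a)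
      (Subgroup.mem_sup_right (Subgroup.mem_zpowers a)) hn.aG
    have h3 := card_mul_le (p := p) h.pY
      (sup_le hn.GE' (Subgroup.zpowers_le.2 hn.aE') : G ⊔ Subgroup.zpowers a ≤ E') hn.yE'
      (fun hh => hn.yE ((sup_le hn.GE (Subgroup.zpowers_le.2 hn.aA.1) :
        G ⊔ Subgroup.zpowers a ≤ E) hh))
    have h4 := ((phi E').subgroupOf G).index_mul_card
    rw [Nat.card_congr (Subgroup.subgroupOfEquivOfLe hphiG').toEquiv] at h4
    have h5 := ((phi E').subgroupOf E').index_mul_card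
    rw [Nat.card_congr (Subgroup.subgroupOfEquivOfLe (phi_le E')).toEquiv] at h5
    have h6 : p ^ 2 * ((phi E').relIndex G * Nat.card (phi E')) ≤
        p ^ 2 * (p * Nat.card (phi E')) := by
      calc p ^ 2 * ((phi E').relIndex G * Nat.card (phi E')) = p * (p * Nat.card G) := by
            rw [← h4, pow_two, mul_assoc]; rfl
        _ ≤ p * Nat.card (G ⊔ Subgroup.zpowers a : Subgroup Y) := Nat.mul_le_mul_left _ h2
        _ ≤ Nat.card E' := h3
        _ = _ := h5.symm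
        _ ≤ p ^ 3 * Nat.card (phi E') := Nat.mul_le_mul_right _ h1
        _ = _ := by ring
    exact Nat.le_of_mul_le_mul_right (Nat.le_of_mul_le_mul_left h6 (pow_pos hpp.pos 2)) Nat.card_pos
  refine h.flag hE' hphiG' le_rfl hn.GE' hGi hGi hn.xE' ?_
    (fun w hw => G.mul_mem (G.inv_mem hw) (hGn.conj_mem w hw x)) fun w hw => ?_
  · intro w hw
    obtain ⟨m', hm'⟩ := (h.pY.to_subgroup G).index ((phi E').subgroupOf G)
    have hm'' : (phi E').relIndex G = p ^ m' := hm'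
    rw [hm'', ← pow_one p, ← pow_mul, one_mul] at hΦrel
    have := (Nat.pow_le_pow_iff_right hpp.one_lt).1 hΦrel
    interval_cases m'
    · have hle : G ≤ phi E' := Subgroup.relIndex_eq_one.1 (by rw [hm'', pow_zero])
      exact Subgroup.mul_mem _ (Subgroup.inv_mem _ (hle hw)) (hΦn'.conj_mem w (hle hw) x)
    · have h1 := comm_mem_of_step h.pY hphiG' (by rw [hm'', pow_one]) _ (G.inv_mem hw) x
      rwa [commutatorElement_def, inv_inv, mul_assoc, mul_assoc, ← mul_assoc x] at h1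
  · obtain ⟨i, j, hij⟩ := hE'gen w hw
    rw [← hπ1, map_mul, map_mul, map_mul, map_inv, map_inv, hij, ←
      ((show Commute (π a) (π x) from haπ).pow_left i |>.mul_left
        ((show Commute (π y) (π x) from hyπ).pow_left j)).eq]
    group

end CfsgLib.RankThreeAmalgam
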