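import Cfsg.Agent.Lib.Fusion.RankThreeAmalgam.Lift
import Cfsg.Agent.Lib.Fusion.RankThreeAmalgam.Noncommuting

/-!
Two members forming a Heisenberg group modulo the invariant subgroup.
-/

set_option autoImplicit false
set_option linter.style.haveILetI false
set_option linter.unusedSectionVars false

namespace CfsgLib.RankThreeAmalgam

open Cfsg CfsgLib.RankThree
open scoped commutatorElement

variable {Y : Type*} [Group Y] [Finite Y] {p : ℕ} [hp : Fact p.Prime] {Γ : Sys Y} {K : Subgroup Y}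

theorem mem_of_zpow_mem {C : Subgroup Y} {x : Y} (hx : x ^ p ∈ C) {n : ℤ} (hn : (n : ZMod p) ≠ 0)
    (hxn : x ^ n ∈ C) : x ∈ C := by
  rw [Ne, ZMod.intCast_zmod_eq_zero_iff_dvd] at hn
  obtain ⟨a, b, hab⟩ := (Nat.prime_iff_prime_int.1 hp.out).coprime_iff_not_dvd.2 hn
  rw [← zpow_one x, ← hab, zpow_add, mul_comm a, mul_comm b, zpow_mul, zpow_mul, zpow_natCast]
  exact C.mul_mem (C.zpow_mem hx a) (C.zpow_mem hxn b)

/-- `E = ⟨K, z, e⟩`, `E' = ⟨K, z, e'⟩` with `⁅e, e'⁆` a generator of `⟨z⟩` modulo `K`. -/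
structure Heis (p : ℕ) (K E E' : Subgroup Y) (z e e' : Y) : Prop where
  zE : z ∈ E
  zE' : z ∈ E'
  eE : e ∈ E
  eE' : e ∉ E'
  eE'' : e' ∈ E'
  e'E : e' ∉ E
  KE : K ≤ E
  KE' : K ≤ E'
  zK : z ∉ K
  zc : ∀ y, ⁅z, y⁆ ∈ K
  gen : ∀ x ∈ E, ∃ k ∈ K, ∃ i j : ℕ, x = z ^ i * e ^ j * k
  gen' : ∀ x ∈ E', ∃ k ∈ K, ∃ i j : ℕ, x = z ^ i * e' ^ j * k
  zp : z ^ p ∈ K
  ep : e ^ p ∈ K
  e'p : e' ^ p ∈ K
  rel : ∃ u : ℤ, (u : ZMod p) ≠ 0 ∧ (z ^ u)⁻¹ * ⁅e, e'⁆ ∈ K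

namespace Heis

variable {E E' : Subgroup Y} {z e e' : Y} (H : Heis p K E E' z e e')

include H

theorem symm [K.Normal] : Heis p K E' E z e' e := by
  obtain ⟨u, hu, hr⟩ := H.rel
  refine ⟨H.zE', H.zE, H.eE'', H.e'E, H.eE, H.eE', H.KE', H.KE, H.zK, H.zc, H.gen', H.gen, H.zp,
    H.e'p, H.ep, -u, by push_cast; simpa using hu, ?_⟩
  have h1 := (inferInstance : K.Normal).conj_mem _ (K.inv_mem hr) (z ^ u)
  rw [← commutatorElement_inv e e', zpow_neg, inv_inv]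
  rwa [show z ^ u * ((z ^ u)⁻¹ * ⁅e, e'⁆)⁻¹ * (z ^ u)⁻¹ = z ^ u * ⁅e, e'⁆⁻¹ by group] at h1

theorem quot_facts [K.Normal] {u : ℤ} (hr : (z ^ u)⁻¹ * ⁅e, e'⁆ ∈ K) :
    (∀ w : Y ⧸ K, Commute (QuotientGroup.mk' K z) w) ∧ QuotientGroup.mk' K z ^ p = 1 ∧
      QuotientGroup.mk' K e ^ p = 1 ∧ QuotientGroup.mk' K e' ^ p = 1 ∧
      ∀ j : ℤ, QuotientGroup.mk' K e' * QuotientGroup.mk' K e ^ j * (QuotientGroup.mk' K e')⁻¹ =
        QuotientGroup.mk' K e ^ j * (QuotientGroup.mk' K z ^ (u * j))⁻¹ := by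
  obtain ⟨ρ, hρ⟩ : ∃ ρ, ρ = QuotientGroup.mk' K := ⟨_, rfl⟩
  rw [← hρ]
  have hρ1 : ∀ {w}, ρ w = 1 ↔ w ∈ K := fun {w} => by
    rw [hρ, QuotientGroup.mk'_apply, QuotientGroup.eq_one_iff]
  have hc : ∀ w : Y ⧸ K, Commute (ρ z) w := fun w => by
    obtain ⟨y, rfl⟩ := QuotientGroup.mk'_surjective K w
    rw [← hρ, ← commutatorElement_eq_one_iff_commute, ← map_commutatorElement, hρ1]
    exact H.zc y
  refine ⟨hc, by rw [← map_pow, hρ1]; exact H.zp, by rw [← map_pow, hρ1]; exact H.ep,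
    by rw [← map_pow, hρ1]; exact H.e'p, fun j => ?_⟩
  have h1 : ρ z ^ u = ⁅ρ e, ρ e'⁆ := by
    rw [← map_zpow, ← map_commutatorElement, ← inv_mul_eq_one, ← map_inv, ← map_mul, hρ1]
    exact hr
  have h2 : ρ e' * ρ e * (ρ e')⁻¹ = ρ e * (ρ z ^ u)⁻¹ := by
    rw [← ((hc (ρ e)).zpow_left u).inv_left.eq, h1, commutatorElement_def]; group
  rw [← conj_zpow, h2, ((hc (ρ e)).zpow_left u).inv_left.symm.mul_zpow, inv_zpow, zpow_mul]

theorem z_ne [K.Normal] : QuotientGroup.mk' K z ≠ 1 := fun hc =>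
  H.zK ((QuotientGroup.eq_one_iff z).1 hc)

theorem not_mem_zpowers [K.Normal] : QuotientGroup.mk' K e ∉ Subgroup.zpowers (QuotientGroup.mk' K z) := by
  rintro ⟨n, hn⟩
  have h1 : (z ^ n)⁻¹ * e ∈ K := by
    rw [← QuotientGroup.eq_one_iff (N := K), ← QuotientGroup.mk'_apply]
    simp only [map_mul, map_inv, map_zpow]
    exact inv_mul_eq_one.2 hn
  refine H.eE' ?_
  have h2 := E'.mul_mem (E'.zpow_mem H.zE' n) (H.KE' h1)
  rwa [mul_inv_cancel_left] at h2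

theorem phi_le [K.Normal] (hY : IsPGroup p Y) : phi E ≤ K := by
  obtain ⟨u, -, hr⟩ := H.rel
  obtain ⟨hc, hz, he, -, -⟩ := H.quot_facts hr
  have hcomm : ∀ a ∈ E, ∀ b ∈ E, Commute (QuotientGroup.mk' K a) (QuotientGroup.mk' K b) := by
    intro a ha b hb
    obtain ⟨k, hk, i, j, rfl⟩ := H.gen a ha
    obtain ⟨k', hk', i', j', rfl⟩ := H.gen b hb
    simp only [map_mul, map_pow, (QuotientGroup.eq_one_iff k).2 hk, (QuotientGroup.eq_one_iff k').2 hk',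
      QuotientGroup.mk'_apply, mul_one]
    exact Commute.mul_left ((hc _).pow_left i) (Commute.mul_right ((hc _).symm.pow_pow j i')
      ((Commute.refl _).pow_pow j j'))
  refine phi_le_of (p := p) (fun a _ y hy => (inferInstance : K.Normal).conj_mem y hy a)
    (fun a ha b hb => ?_) fun a ha => ?_
  · rw [← QuotientGroup.eq_one_iff (N := K), ← QuotientGroup.mk'_apply, map_commutatorElement]
    exact commutatorElement_eq_one_iff_commute.2 (hcomm a ha b hb)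
  · obtain ⟨k, hk, i, j, rfl⟩ := H.gen a ha
    rw [← QuotientGroup.eq_one_iff (N := K), ← QuotientGroup.mk'_apply]
    simp only [map_mul, map_pow]
    rw [show QuotientGroup.mk' K k = 1 from (QuotientGroup.eq_one_iff k).2 hk, mul_one,
      ((hc _).pow_pow i j).mul_pow, ← pow_mul, ← pow_mul, mul_comm i, mul_comm j, pow_mul, pow_mul,
      hz, he, one_pow, one_pow, one_mul]

theorem card_ge [K.Normal] (hY : IsPGroup p Y) : p ^ 2 ≤ K.relIndex E := by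
  obtain ⟨u, -, hr⟩ := H.rel
  obtain ⟨-, hz, -, -, -⟩ := H.quot_facts hr
  have h1 := card_mul_le (hY.to_quotient K)
    (A := Subgroup.zpowers (QuotientGroup.mk' K z)) (B := E.map (QuotientGroup.mk' K))
    (Subgroup.zpowers_le.2 ⟨z, H.zE, rfl⟩) ⟨e, H.eE, rfl⟩ H.not_mem_zpowers
  rw [Nat.card_zpowers, orderOf_eq_prime hz H.z_ne, ← pow_two] at h1
  refine h1.trans (le_of_eq ?_)
  rw [← Subgroup.relIndex_bot_left, ← Subgroup.relIndex_comap, MonoidHom.comap_bot,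
    QuotientGroup.ker_mk']

theorem irr [K.Normal] (h : Γ.Good p) (hK : Γ.Inv K) (hE : E ∈ Γ.ℰ) (ht : TrivOn K E) :
    Irr Γ K E := by
  intro C hKC hCE hCi
  obtain ⟨u, hu, hr⟩ := H.rel
  obtain ⟨hc, hz, he, he', hconj⟩ := H.quot_facts hr
  haveI := h.normal_of_invariant hE hCE hCi
  rcases eq_or_lt_of_le hKC with hlt | hlt
  · exact Or.inl hlt.symm
  right
  obtain ⟨ρ, hρ⟩ : ∃ ρ, ρ = QuotientGroup.mk' K := ⟨_, rfl⟩
  rw [← hρ] at hc hz he he' hconj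
  have hρC : ∀ {w w' : Y}, ρ w = ρ w' → w ∈ C → w' ∈ C := by
    intro w w' e1 hw
    have h2 : w⁻¹ * w' ∈ K := QuotientGroup.eq.1 (by simpa [hρ] using e1)
    have h3 := C.mul_mem hw (hKC h2)
    rwa [mul_inv_cancel_left] at h3
  have hzC : z ∈ C := by
    obtain ⟨x, hx, hxK⟩ := SetLike.exists_of_lt hlt
    obtain ⟨k, hk, i, j, rfl⟩ := H.gen x (hCE hx)
    have hzp := hKC H.zp
    have hx' : z ^ i * e ^ j ∈ C := by
      have := C.mul_mem hx (C.inv_mem (hKC hk))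
      rwa [mul_inv_cancel_right] at this
    by_cases hj : p ∣ j
    · obtain ⟨j', rfl⟩ := hj
      have hej : e ^ (p * j') ∈ C := by rw [pow_mul]; exact C.pow_mem (hKC H.ep) _
      have hzi := C.mul_mem hx' (C.inv_mem hej)
      rw [mul_inv_cancel_right] at hzi
      refine mem_of_zpow_mem (n := i) hzp ?_ (by rwa [zpow_natCast])
      rw [Int.cast_natCast, Ne, ZMod.natCast_eq_zero_iff]
      rintro ⟨i', rfl⟩
      refine hxK (K.mul_mem (K.mul_mem ?_ ?_) hk)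
      · rw [pow_mul]; exact K.pow_mem H.zp _
      · rw [pow_mul]; exact K.pow_mem H.ep _
    · have h2 : (z ^ i * e ^ j)⁻¹ * (e' * (z ^ i * e ^ j) * e'⁻¹) ∈ C :=
        C.mul_mem (C.inv_mem hx') ((inferInstance : C.Normal).conj_mem _ hx' e')
      refine mem_of_zpow_mem (n := -(u * j)) hzp ?_ (hρC ?_ h2)
      · push_cast
        rw [neg_ne_zero]
        exact mul_ne_zero hu (by rwa [Ne, ZMod.natCast_eq_zero_iff])
      · simp only [map_mul, map_inv, map_pow, map_zpow]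
        rw [zpow_neg, show ρ e' * (ρ z ^ i * ρ e ^ j) * (ρ e')⁻¹ =
          (ρ e' * ρ z ^ i * (ρ e')⁻¹) * (ρ e' * ρ e ^ (j : ℤ) * (ρ e')⁻¹) by rw [zpow_natCast]; group,
          hconj, ← ((hc _).pow_left i).eq, mul_inv_cancel_right, zpow_natCast]
        group
  by_cases heC : e ∈ C
  · refine le_antisymm hCE fun x hx => ?_
    obtain ⟨k, hk, i, j, rfl⟩ := H.gen x hx
    exact C.mul_mem (C.mul_mem (C.pow_mem hzC i) (C.pow_mem heC j)) (hKC hk)
  exfalso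
  refine h.flag hE (C₁ := K) (C₂ := C) (H.phi_le h.pY) hKC hCE (fun α hα x hx => hK.A E hE α hα x hx)
    hCi H.e'E (fun y hy => ht e' y hy) (fun y hy => ?_) fun y hy => ?_
  · obtain ⟨k, hk, i, j, rfl⟩ := H.gen y (hCE hy)
    have hj : p ∣ j := by
      by_contra hj
      have h2 := C.mul_mem (C.inv_mem (C.pow_mem hzC i)) (C.mul_mem hy (C.inv_mem (hKC hk)))
      rw [mul_inv_cancel_right, inv_mul_cancel_left] at h2
      refine heC (mem_of_zpow_mem (n := j) (hKC H.ep) ?_ (by rwa [zpow_natCast]))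
      rwa [Int.cast_natCast, Ne, ZMod.natCast_eq_zero_iff]
    rw [← QuotientGroup.eq_one_iff (N := K), ← QuotientGroup.mk'_apply, ← hρ]
    simp only [map_mul, map_inv, map_pow]
    obtain ⟨j', rfl⟩ := hj
    rw [show ρ k = 1 by rw [hρ]; exact (QuotientGroup.eq_one_iff k).2 hk, pow_mul, he, one_pow,
      mul_one, mul_one, ← ((hc _).pow_left i).eq, mul_inv_cancel_right, inv_mul_cancel]
  · obtain ⟨k, hk, i, j, rfl⟩ := H.gen y hy
    refine hρC (w := z ^ (-(u * j))) ?_ (C.zpow_mem hzC _)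
    simp only [map_mul, map_inv, map_pow, map_zpow]
    rw [show ρ k = 1 by rw [hρ]; exact (QuotientGroup.eq_one_iff k).2 hk, mul_one, zpow_neg,
      show ρ e' * (ρ z ^ i * ρ e ^ j) * (ρ e')⁻¹ =
        (ρ e' * ρ z ^ i * (ρ e')⁻¹) * (ρ e' * ρ e ^ (j : ℤ) * (ρ e')⁻¹) by rw [zpow_natCast]; group,
      hconj, ← ((hc _).pow_left i).eq, mul_inv_cancel_right, zpow_natCast]
    group

end Heis

end CfsgLib.RankThreeAmalgam
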