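import Cfsg.Agent.Lib.Fusion.RankThreeAmalgam.Moving
import Cfsg.Agent.Lib.Fusion.RankThree.Linear

/-!
The outcomes of a split pair.
-/

set_option autoImplicit false
set_option linter.style.haveILetI false
set_option linter.unusedSectionVars false

namespace CfsgLib.RankThreeAmalgam

open Cfsg Cfsg.FusionSystem CfsgLib.Fusion CfsgLib.RankThree CfsgLib.Fusion.Transvections
open scoped commutatorElement

variable {Y : Type*} [Group Y] [Finite Y] {p : ℕ} [hp : Fact p.Prime] {E E' G : Subgroup Y}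
  {v r s : Y}

/-- A nonabelian group of order `p ^ 3` has sectional rank at most two. -/
theorem rank_two_of_card (hc : Nat.card Y = p ^ 3) {a b : Y} (hab : a * b ≠ b * a) :
    Cfsg.SectionalPRankLE p 2 Y := by
  intro H N _ A hA hAp
  have hpp := hp.out
  by_contra hlt
  push Not at hlt
  have h1 : Nat.card A ≤ Nat.card (H ⧸ N) := Subgroup.card_le_card_group A
  have hmul := N.index_mul_card
  rw [Subgroup.index_eq_card] at hmul
  have h2 : Nat.card (H ⧸ N) ≤ Nat.card H := by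
    conv_rhs => rw [← hmul]
    exact Nat.le_mul_of_pos_right _ Nat.card_pos
  have h3 : Nat.card H ≤ p ^ 3 := hc ▸ Subgroup.card_le_card_group H
  obtain ⟨i, hi⟩ := ((IsPGroup.of_card hc).to_subgroup H).to_quotient N |>.to_subgroup A |>.exists_card_eq
  have hi3 : 3 ≤ i := by
    rw [hi] at hlt
    exact (Nat.pow_lt_pow_iff_right hpp.one_lt).1 hlt
  have h4 : p ^ 3 ≤ Nat.card A := hi ▸ Nat.pow_le_pow_right hpp.pos hi3
  have hN : N = ⊥ := by
    refine Subgroup.card_eq_one.1 ?_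
    have h5 : Nat.card (H ⧸ N) * Nat.card N ≤ Nat.card (H ⧸ N) * 1 := by
      rw [hmul, mul_one]; exact h3.trans (h4.trans h1)
    exact le_antisymm (Nat.le_of_mul_le_mul_left h5 Nat.card_pos) Nat.card_pos
  have hH : H = ⊤ := Subgroup.eq_top_of_le_card _ (by rw [hc]; exact h4.trans (h1.trans h2))
  have hAt : A = ⊤ := Subgroup.eq_top_of_le_card _ (h2.trans (h3.trans h4))
  obtain ⟨⟨a', ha⟩, hb⟩ : (∃ a', a' = (⟨a, hH ▸ Subgroup.mem_top a⟩ : H)) ∧
      ∃ b', b' = (⟨b, hH ▸ Subgroup.mem_top b⟩ : H) := ⟨⟨_, rfl⟩, _, rfl⟩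
  obtain ⟨b', hb⟩ := hb
  have h6 : QuotientGroup.mk' N (a' * b') = QuotientGroup.mk' N (b' * a') := by
    rw [map_mul, map_mul]
    exact congrArg Subtype.val (hA.is_comm.comm ⟨_, hAt.symm ▸ Subgroup.mem_top _⟩
      ⟨_, hAt.symm ▸ Subgroup.mem_top _⟩)
  rw [QuotientGroup.mk'_apply, QuotientGroup.mk'_apply, QuotientGroup.eq, hN,
    Subgroup.mem_bot, inv_mul_eq_one, ha, hb] at h6
  exact hab (congrArg Subtype.val h6)

namespace Shape

/-- The `p`-th powers when the central part is not of order `p`. -/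
theorem powers (hS : Shape p E E' G v r s) (hY : IsPGroup p Y) (hp2 : p ≠ 2)
    (hrk : Cfsg.SectionalPRankLE p 3 Y) (hi : E'.index = p) (hG : p ^ 2 ≤ Nat.card G) :
    ∃ R : Subgroup Y, R ≤ G ∧ R ≠ ⊥ ∧ (∀ y : Y, y ^ p ∈ R) ∧ ∀ x ∈ R, ∃ g ∈ G, g ^ p = x := by
  haveI := hS.cyclic hY hp2 hrk
  have hc := hS.central hY hp2 hrk hi
  obtain ⟨⟨g0, hg0⟩, hgen⟩ := IsCyclic.exists_generator (α := G)
  have hG0 : G = Subgroup.zpowers g0 := by
    refine le_antisymm (fun x hx => ?_) (Subgroup.zpowers_le.2 hg0)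
    obtain ⟨i, hi'⟩ := Subgroup.mem_zpowers_iff.1 (hgen ⟨x, hx⟩)
    exact ⟨i, by simpa using congrArg Subtype.val hi'⟩
  obtain ⟨k, hk⟩ := (hY.to_subgroup G).exists_card_eq
  have hk2 : 2 ≤ k := (Nat.pow_le_pow_iff_right hp.out.one_lt).1 (hk ▸ hG)
  have hord : orderOf g0 = p ^ k := by rw [← hk, hG0, Nat.card_zpowers]
  obtain ⟨-, -, -, hzp⟩ := hS.z_comm
  obtain ⟨R, hR⟩ : ∃ R, R = Subgroup.zpowers (g0 ^ p) := ⟨_, rfl⟩
  have hpow : ∀ g ∈ G, g ^ p ∈ R := by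
    intro g hg
    obtain ⟨i, rfl⟩ := Subgroup.mem_zpowers_iff.1 (hG0 ▸ hg)
    exact hR ▸ Subgroup.mem_zpowers_iff.2 ⟨i, by
      rw [← zpow_natCast, ← zpow_natCast, ← zpow_mul, ← zpow_mul, mul_comm]⟩
  have hz : ⁅r, s⁆ ∈ R := by
    obtain ⟨i, hi'⟩ := Subgroup.mem_zpowers_iff.1 (hG0 ▸ hS.zG)
    have h1 : (p ^ k : ℤ) ∣ i * p := by
      have h2 : g0 ^ (i * p) = 1 := by rw [zpow_mul, hi', zpow_natCast, hzp]
      have h3 := orderOf_dvd_iff_zpow_eq_one.2 h2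
      rw [hord] at h3
      exact_mod_cast h3
    obtain ⟨k', rfl⟩ : ∃ k', k = k' + 2 := ⟨k - 2, by omega⟩
    rw [pow_succ] at h1
    have h4 : (p : ℤ) ∣ i := (dvd_pow_self (p : ℤ) (Nat.succ_ne_zero k')).trans
      ((mul_dvd_mul_iff_right (by exact_mod_cast hp.out.ne_zero)).1 h1)
    obtain ⟨j, rfl⟩ := h4
    rw [← hi', zpow_mul, zpow_natCast]
    exact hR ▸ Subgroup.zpow_mem_zpowers _ j
  refine ⟨R, hR ▸ Subgroup.zpowers_le.2 (G.pow_mem hg0 p), fun e => ?_, fun y => ?_, fun x hx => ?_⟩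
  · rw [hR, Subgroup.zpowers_eq_bot, ← orderOf_dvd_iff_pow_eq_one, hord] at e
    have := Nat.le_of_dvd hp.out.pos e
    exact absurd this (not_le.2 (by nth_rw 1 [← pow_one p]; exact Nat.pow_lt_pow_right hp.out.one_lt hk2))
  · obtain ⟨n, g, hg, he⟩ := hS.pow_mem hY hp2 hrk hi y
    rw [he]
    exact R.mul_mem (R.zpow_mem hz n) (hpow g hg)
  · obtain ⟨i, rfl⟩ := Subgroup.mem_zpowers_iff.1 (hR ▸ hx)
    exact ⟨g0 ^ i, G.zpow_mem hg0 i, by
      rw [← zpow_natCast, ← zpow_natCast, ← zpow_mul, ← zpow_mul, mul_comm]⟩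

theorem rv (hS : Shape p E E' G v r s) : r * v = v * r := hS.comm_facts.2.2.1

theorem vs_ne (hS : Shape p E E' G v r s) : v * s ≠ s * v := fun e => hS.rG (by
  have h1 := hS.rdef
  rw [e, mul_inv_cancel_right, left_eq_mul] at h1
  exact h1 ▸ G.one_mem)

/-- Trivial central part: rank two. -/
theorem rank_two (hS : Shape p E E' G v r s) (hY : IsPGroup p Y) (hi : E.index = p)
    (hi' : E'.index = p) (hG : G = ⊥) : Cfsg.SectionalPRankLE p 2 Y := by
  obtain ⟨-, -, h3⟩ := hS.cards hY hi hi'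
  rw [hG, Subgroup.card_bot, mul_one] at h3
  exact rank_two_of_card h3 hS.vs_ne

end Shape

namespace Sys.Good

variable {Γ : Sys Y} (h : Γ.Good p)

include h

theorem autY_isSylow {E : Subgroup Y} (hE : E ∈ Γ.ℰ) {n : ℕ} (hn : Nat.card (autY E) ≤ n)
    (hp' : IsPGroup p (autY E)) {U : Subgroup (MulAut E)} (hU : U ≤ Γ.𝔸 E) (hUp : IsPGroup p U) :
    Nat.card U ≤ n := by
  haveI := finite_mulAut E
  obtain ⟨P, hP⟩ : ∃ P : Sylow p (Γ.𝔸 E), (P : Subgroup (Γ.𝔸 E)) = (autY E).subgroupOf (Γ.𝔸 E) := by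
    obtain ⟨P, hP⟩ := (hp'.comap_subtype (K := Γ.𝔸 E)).exists_le_sylow
    refine ⟨P, (le_antisymm hP fun x hx => ?_).symm⟩
    have h1 := h.max E hE ((P : Subgroup (Γ.𝔸 E)).map (Γ.𝔸 E).subtype)
      (Subgroup.map_subtype_le _) (P.2.map _) (fun y hy => ⟨⟨y, h.conj E hE hy⟩, hP hy, rfl⟩)
    exact h1 ⟨x, hx, rfl⟩
  obtain ⟨Q, hQ⟩ := (hUp.comap_subtype (K := Γ.𝔸 E)).exists_le_sylow
  have h1 : Nat.card (Q : Subgroup (Γ.𝔸 E)) = Nat.card (P : Subgroup (Γ.𝔸 E)) := by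
    rw [Sylow.card_eq_multiplicity, Sylow.card_eq_multiplicity]
  have h2 := Subgroup.card_le_of_le hQ
  change Nat.card (U.subgroupOf (Γ.𝔸 E)) ≤ _ at h2
  rw [Nat.card_congr (Subgroup.subgroupOfEquivOfLe hU).toEquiv, h1, hP,
    Nat.card_congr (Subgroup.subgroupOfEquivOfLe (h.conj E hE)).toEquiv] at h2
  exact h2.trans hn

variable (hcore : Γ.NoCore) {E E' : Subgroup Y}

include hcore

/-- The central part has order at most `p`. -/
theorem shape_small (hE' : E' ∈ Γ.ℰ) {G : Subgroup Y} {v r s : Y} (hS : Shape p E E' G v r s) :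
    Nat.card G ≤ p := by
  by_contra hlt
  push Not at hlt
  obtain ⟨k, hk⟩ := (h.pY.to_subgroup G).exists_card_eq
  have hG : p ^ 2 ≤ Nat.card G := by
    rw [hk] at hlt ⊢
    refine Nat.pow_le_pow_right hp.out.pos ?_
    by_contra hk2
    exact absurd hlt (not_lt.2 ((Nat.pow_le_pow_right hp.out.pos (by omega : k ≤ 1)).trans
      (pow_one p).le))
  obtain ⟨R, hRG, hR1, hRp, hRg⟩ := hS.powers h.pY h.podd h.rank (h.idx E' hE') hG
  have hc := hS.central h.pY h.podd h.rank (h.idx E' hE')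
  refine hR1 (hcore R (fun φ _ x hx => ?_) (fun E₂ hE₂ x hx => h.cen E₂ hE₂ x fun e _ => hc x (hRG hx) e)
    fun E₂ hE₂ α _ e he => ?_)
  · obtain ⟨g, -, rfl⟩ := hRg x hx
    rw [map_pow]
    exact hRp _
  · obtain ⟨g, hg, hge⟩ := hRg e he
    have hgE : g ∈ E₂ := h.cen E₂ hE₂ g fun f _ => hc g hg f
    rw [show e = (⟨g, hgE⟩ : E₂) ^ p from Subtype.ext (by rw [SubgroupClass.coe_pow]; exact hge.symm),
      map_pow, SubgroupClass.coe_pow]
    exact hRp _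

/-- Central part of order `p` without commutators is impossible. -/
theorem shape_comm_ne (hE : E ∈ Γ.ℰ) (hE' : E' ∈ Γ.ℰ) {G : Subgroup Y} {v r s : Y}
    (hS : Shape p E E' G v r s) (hG : Nat.card G = p) : ⁅r, s⁆ ≠ 1 := by
  intro hz
  have hpp := hp.out
  have hY := h.pY
  have hi' := h.idx E' hE'
  obtain ⟨hcE', -, hcY⟩ := hS.cards hY (h.idx E hE) hi'
  rw [hG, ← pow_succ] at hcY hcE'
  have hc := hS.central hY h.podd h.rank hi'
  have hexp : ∀ y : Y, y ^ p = 1 := fun y => by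
    obtain ⟨n, g, hg, he⟩ := hS.pow_mem hY h.podd h.rank hi' y
    rw [he, hz, one_zpow, one_mul]
    obtain ⟨j, hj⟩ : ∃ j, orderOf g = p ^ j ∧ j ≤ 1 := by
      obtain ⟨j, hj1, hj⟩ := (Nat.dvd_prime_pow hpp).1 (show orderOf g ∣ p ^ 1 by
        rw [pow_one, ← hG]; exact Subgroup.orderOf_dvd_natCard G hg)
      exact ⟨j, hj, hj1⟩
    refine orderOf_dvd_iff_pow_eq_one.1 (hj.1 ▸ ?_)
    calc p ^ j ∣ p ^ 1 := pow_dvd_pow p hj.2
      _ = p := pow_one p
  have hr1 : r ≠ 1 := fun e => hS.rG (e ▸ G.one_mem)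
  obtain ⟨hrg, hvg, hrv, -⟩ := hS.comm_facts
  have hrs : r * s = s * r := commutatorElement_eq_one_iff_mul_comm.1 hz
  have hrc : ∀ y : Y, r * y = y * r := fun y => by
    obtain ⟨g, hg, i, j, k, rfl⟩ := hS.decomp_top hY hi' y
    have c0 : Commute r g := (hrg g hg).symm
    have c1 : Commute r s := hrs
    have c2 : Commute r v := hrv
    exact (((c0.mul_right (Commute.self_pow r i)).mul_right (c1.pow_right j)).mul_right
      (c2.pow_right k)).eq
  obtain ⟨R, hR⟩ : ∃ R, R = Subgroup.zpowers r := ⟨_, rfl⟩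
  haveI hRn : R.Normal := ⟨fun x hx g => by
    obtain ⟨i, rfl⟩ := Subgroup.mem_zpowers_iff.1 (hR ▸ hx)
    rw [← ((show Commute r g from hrc g).zpow_left i).eq, mul_inv_cancel_right]
    exact hR ▸ Subgroup.zpow_mem_zpowers r i⟩
  have hcomm : ∀ a b : Y, a⁻¹ * (b * a * b⁻¹) ∈ R := by
    intro a b
    obtain ⟨T, hT⟩ : ∃ T : Set (Y ⧸ R), T = QuotientGroup.mk' R '' ({x | x ∈ G} ∪ {r, s, v}) :=
      ⟨_, rfl⟩
    have hT' : ∀ x ∈ T, ∀ y ∈ T, x * y = y * x := by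
      rw [hT]
      rintro _ ⟨x, hx, rfl⟩ _ ⟨y, hy, rfl⟩
      rcases hx with hx | hx
      · rw [← map_mul, ← map_mul, hc x hx y]
      rcases hy with hy | hy
      · rw [← map_mul, ← map_mul, ← hc y hy x]
      rcases hx with hx | hx | hx <;> rcases hy with hy | hy | hy <;> rw [hx, hy]
      all_goals first
        | rw [← map_mul, ← map_mul, hrc]
        | rw [← map_mul, ← map_mul, ← hrc]
        | skip
      · refine (comm_iff.1 ?_).eq
        have : ⁅s, v⁆ = r⁻¹ := by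
          rw [← commutatorElement_inv, commutatorElement_def, hS.rdef, ← hrs, mul_inv_cancel_right]
        rw [this]
        exact R.inv_mem (hR ▸ Subgroup.mem_zpowers r)
      · refine (comm_iff.1 ?_).eq
        have : ⁅v, s⁆ = r := by
          rw [commutatorElement_def, hS.rdef, ← hrs, mul_inv_cancel_right]
        rw [this]
        exact hR ▸ Subgroup.mem_zpowers r
    have hall : ∀ y, QuotientGroup.mk' R y ∈ Subgroup.closure T := by
      intro y
      obtain ⟨g, hg, i, j, k, rfl⟩ := hS.decomp_top hY hi' y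
      simp only [map_mul, map_pow]
      refine Subgroup.mul_mem _ (Subgroup.mul_mem _ (Subgroup.mul_mem _ ?_ (Subgroup.pow_mem _ ?_ i))
        (Subgroup.pow_mem _ ?_ j)) (Subgroup.pow_mem _ ?_ k) <;>
        refine Subgroup.subset_closure (hT ▸ Set.mem_image_of_mem _ ?_)
      · exact Or.inl hg
      all_goals simp
    exact conj_step_iff.2 (closure_comm hT' (hall b) (hall a))
  obtain ⟨Z, hZ⟩ : ∃ Z, Z = zeta p (⊤ : Subgroup Y) := ⟨_, rfl⟩
  have hmemZ : ∀ z, z ∈ Z ↔ ∀ y, z * y = y * z := fun z => by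
    rw [hZ, mem_zeta_top]; exact ⟨fun hh => hh.2, fun hh => ⟨hexp z, hh⟩⟩
  have hrZ : r ∈ Z := (hmemZ r).2 hrc
  have hRZ : R ≤ Z := hR ▸ Subgroup.zpowers_le.2 hrZ
  have hZle : ∀ E₂ ∈ Γ.ℰ, Z ≤ E₂ := fun E₂ hE₂ z hz => h.cen E₂ hE₂ z fun e _ => (hmemZ z).1 hz e
  have hcE : ∀ E₂ ∈ Γ.ℰ, Nat.card E₂ = p ^ 3 := fun E₂ hE₂ => by
    have h1 := E₂.index_mul_card
    rw [h.idx E₂ hE₂, hcY, pow_succ'] at h1
    exact Nat.eq_of_mul_eq_mul_left hpp.pos h1
  have hZc : Nat.card Z = p ^ 2 := by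
    refine le_antisymm ?_ ?_
    · have hle : Z ≤ E ⊓ E' := le_inf (hZle E hE) (hZle E' hE')
      refine (Subgroup.card_le_of_le hle).trans ?_
      have h1 := inf_relIndex (H := E) (h.normal hE') hi' (fun hle' => hS.vE' (hle' hS.vE))
      rw [inf_comm] at h1
      have h2 := ((E ⊓ E').subgroupOf E).index_mul_card
      rw [Nat.card_congr (Subgroup.subgroupOfEquivOfLe inf_le_left).toEquiv, hcE E hE,
        show ((E ⊓ E').subgroupOf E).index = p from h1, pow_succ' p 2] at h2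
      exact (Nat.eq_of_mul_eq_mul_left hpp.pos h2).le
    · have hGZ : G ≤ Z := fun g hg => (hmemZ g).2 (hc g hg)
      have h1 := card_mul_le (p := p) hY hGZ hrZ hS.rG
      rwa [hG, ← pow_two] at h1
  have hZi : ∀ φ : MulAut Y, ∀ z ∈ Z, φ z ∈ Z := fun φ z hz => (hmemZ _).2 fun y => by
    obtain ⟨y, rfl⟩ := φ.surjective y
    rw [← map_mul, ← map_mul, (hmemZ z).1 hz]
  -- the torus of a member and a displacing automorphism
  have key : ∀ E₂ ∈ Γ.ℰ, ∀ α ∈ Γ.𝔸 E₂, (∃ e : E₂, (e : Y) ∈ Z ∧ (α e : Y) ∉ Z) →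
      ∃ φ ∈ Γ.𝔹, φ r = r⁻¹ ∧ (∀ l ∈ Z ⊓ img α Z, φ l = l) ∧
        Nat.card (Z ⊓ img α Z : Subgroup Y) = p ∧ r ∉ Z ⊓ img α Z := by
    intro E₂ hE₂ α hα hmv
    haveI := finite_mulAut E₂
    haveI hn2 := h.normal hE₂
    have hZE := hZle E₂ hE₂
    have hab : ∀ a b : E₂, a * b = b * a := by
      intro a b
      obtain ⟨w, hw, hwZ⟩ : ∃ w ∈ E₂, w ∉ Z := by
        by_contra hh
        push Not at hh
        have h1 := Subgroup.card_le_of_le hh
        rw [hcE E₂ hE₂, hZc] at h1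
        exact absurd ((Nat.pow_le_pow_iff_right hpp.one_lt).1 h1) (by norm_num)
      have heq : E₂ = Z ⊔ Subgroup.zpowers w :=
        eq_sup_of_card hY hZE hZc (hcE E₂ hE₂) hw hwZ
      have hle : E₂ ≤ Subgroup.centralizer {w} := heq.le.trans (sup_le
        (fun z hz => Subgroup.mem_centralizer_singleton_iff.2 ((hmemZ z).1 hz w))
        (Subgroup.zpowers_le.2 (Subgroup.mem_centralizer_singleton_iff.2 rfl)))
      have hle2 : E₂ ≤ Subgroup.centralizer {(b : Y)} := heq.le.trans (sup_le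
        (fun z hz => Subgroup.mem_centralizer_singleton_iff.2 ((hmemZ z).1 hz b))
        (Subgroup.zpowers_le.2 (Subgroup.mem_centralizer_singleton_iff.2
          (Subgroup.mem_centralizer_singleton_iff.1 (hle b.2)).symm)))
      exact Subtype.ext (Subgroup.mem_centralizer_singleton_iff.1 (hle2 a.2))
    letI : CommGroup E₂ := { (inferInstance : Group E₂) with mul_comm := hab }
    obtain ⟨y0, hy0⟩ := h.exists_notMem hE₂
    obtain ⟨t, ht𝔸, htY, ht⟩ := h.exists_conj hE₂ y0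
    have htfix : ∀ e : E₂, (e : Y) ∈ Z → t e = e := fun e he => Subtype.ext (by
      rw [ht, ← (hmemZ _).1 he y0, mul_inv_cancel_right])
    have htR : ∀ e : E₂, (e : Y)⁻¹ * t e ∈ R := fun e => by rw [ht]; exact hcomm e y0
    have htpow : ∀ (i : ℕ) (e : E₂), ((t ^ i) e : Y) = y0 ^ i * e * (y0 ^ i)⁻¹ := by
      intro i
      induction i with
      | zero => simp
      | succ i ih =>
        intro e
        rw [pow_succ', MulAut.mul_apply, ht, ih, pow_succ']; group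
    have hautY : autY E₂ ≤ Subgroup.zpowers t := by
      intro σ hσ
      obtain ⟨g, hg⟩ := mem_autY.1 hσ
      obtain ⟨d, hd, i, rfl⟩ := decomp (le_top : E₂ ≤ ⊤)
        (by rw [Subgroup.relIndex_top_right]; exact h.idx E₂ hE₂)
        (fun g _ w hw => hn2.conj_mem w hw g) (Subgroup.mem_top y0) hy0 (hexp y0) (Subgroup.mem_top g)
      refine Subgroup.mem_zpowers_iff.2 ⟨i, MulEquiv.ext fun e => Subtype.ext ?_⟩
      rw [zpow_natCast, hg, htpow]
      have h1 : d * ((t ^ i) e : Y) = ((t ^ i) e : Y) * d :=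
        congrArg Subtype.val (hab ⟨d, hd⟩ ((t ^ i) e))
      rw [htpow] at h1
      rw [show d * y0 ^ i * (e : Y) * (d * y0 ^ i)⁻¹ = d * (y0 ^ i * e * (y0 ^ i)⁻¹) * d⁻¹ by group,
        h1, mul_inv_cancel_right]
    have htord : orderOf t ∣ p := orderOf_dvd_of_pow_eq_one (MulEquiv.ext fun e => Subtype.ext (by
      rw [htpow, hexp, one_mul, inv_one, mul_one]; rfl))
    have hTp : IsPGroup p (autY E₂) := by
      refine IsPGroup.to_le ?_ hautY
      rcases (Nat.dvd_prime hpp).1 htord with e | e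
      · exact IsPGroup.of_card (n := 0) (by rw [Nat.card_zpowers, e, pow_zero])
      · exact IsPGroup.of_card (n := 1) (by rw [Nat.card_zpowers, e, pow_one])
    have hTc : Nat.card (autY E₂) ≤ p := (Subgroup.card_le_of_le hautY).trans
      ((Nat.card_zpowers t).trans_le (Nat.le_of_dvd hpp.pos htord))
    have hfixZ : ∀ e : E₂, t e = e → (e : Y) ∈ Z := by
      intro e he
      by_contra heZ
      refine hy0 (h.cen E₂ hE₂ y0 fun f hf => ?_)
      have heq : E₂ = Z ⊔ Subgroup.zpowers (e : Y) :=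
        eq_sup_of_card hY hZE hZc (hcE E₂ hE₂) e.2 heZ
      have h1 := congrArg Subtype.val he
      rw [ht, mul_inv_eq_iff_eq_mul] at h1
      have hle : E₂ ≤ Subgroup.centralizer {y0} := heq.le.trans (sup_le
        (fun z hz => Subgroup.mem_centralizer_singleton_iff.2 ((hmemZ z).1 hz y0))
        (Subgroup.zpowers_le.2 (Subgroup.mem_centralizer_singleton_iff.2 h1.symm)))
      exact (Subgroup.mem_centralizer_singleton_iff.1 (hle hf)).symm
    -- the centre of the transvection moves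
    have hrnot : ∀ β ∈ Γ.𝔸 E₂, (∃ e : E₂, (e : Y) ∈ Z ∧ (β e : Y) ∉ Z) → r ∉ img β Z := by
      intro β hβ hmv hr
      obtain ⟨f0, hf0, hf0r⟩ := exists_of_mem_img hr
      obtain ⟨u, hu⟩ : ∃ u, u = β * t * β⁻¹ := ⟨_, rfl⟩
      have hu𝔸 : u ∈ Γ.𝔸 E₂ := hu ▸ (Γ.𝔸 E₂).mul_mem ((Γ.𝔸 E₂).mul_mem hβ ht𝔸) ((Γ.𝔸 E₂).inv_mem hβ)
      have huR : ∀ f : E₂, (f : Y) ∈ R → u f = f := by
        intro f hf
        obtain ⟨i, hi⟩ := Subgroup.mem_zpowers_iff.1 (hR ▸ hf)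
        have hf' : f = β f0 ^ i := Subtype.ext (by rw [SubgroupClass.coe_zpow, hf0r, hi])
        rw [hf', map_zpow, hu, MulAut.mul_apply, MulAut.mul_apply, MulAut.inv_apply_self,
          htfix f0 hf0]
      have hst : ∀ σ ∈ Γ.𝔸 E₂, σ ∈ stab E₂ R R → σ ∈ autY E₂ := by
        intro σ hσ hσs
        refine h.max E₂ hE₂ (Γ.𝔸 E₂ ⊓ stab E₂ R R) inf_le_left
          ((isPGroup_stab hY _ _ _).to_le inf_le_right) (le_inf (h.conj E₂ hE₂) ?_)
          (Subgroup.mem_inf.2 ⟨hσ, hσs⟩)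
        intro τ hτ
        obtain ⟨g, hg⟩ := mem_autY.1 hτ
        have hg1 : ∀ e : E₂, (e : Y)⁻¹ * τ e ∈ R := fun e => by rw [hg]; exact hcomm e g
        have hg2 : ∀ e : E₂, (e : Y) ∈ R → (τ e : Y) = e := fun e he => by
          rw [hg, ← (hmemZ _).1 (hRZ he) g, mul_inv_cancel_right]
        exact mem_stab.2 ⟨fun e he => by rw [hg2 e he]; exact he,
          fun e he => by rw [hg2 e he]; exact he,
          fun e he => by rw [hg2 e he, inv_mul_cancel]; exact one_mem _, fun e _ => hg1 e, hg1⟩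
      have hunor : ∀ σ ∈ autY E₂, u * σ * u⁻¹ ∈ autY E₂ := by
        intro σ hσ
        obtain ⟨g, hg⟩ := mem_autY.1 hσ
        refine hst _ ((Γ.𝔸 E₂).mul_mem ((Γ.𝔸 E₂).mul_mem hu𝔸 (h.conj E₂ hE₂ hσ))
          ((Γ.𝔸 E₂).inv_mem hu𝔸)) ?_
        have huinv : ∀ f : E₂, (f : Y) ∈ R → u⁻¹ f = f := fun f hf => by
          conv_lhs => rw [← huR f hf]
          exact MulAut.inv_apply_self _ _ _
        have e1 : ∀ e : E₂, (e : Y) ∈ R → (u * σ * u⁻¹) e = e := fun e he => by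
          rw [MulAut.mul_apply, MulAut.mul_apply, huinv e he,
            show σ e = e from Subtype.ext (by rw [hg, ← (hmemZ _).1 (hRZ he) g, mul_inv_cancel_right]),
            huR e he]
        have e2 : ∀ e : E₂, (e : Y)⁻¹ * (u * σ * u⁻¹) e ∈ R := fun e => by
          obtain ⟨f, rfl⟩ := u.surjective e
          rw [MulAut.mul_apply, MulAut.mul_apply, MulAut.inv_apply_self, ← Subgroup.coe_inv,
            ← map_inv, ← Subgroup.coe_mul, ← map_mul]
          have h1 : ((f⁻¹ * σ f : E₂) : Y) ∈ R := by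
            rw [Subgroup.coe_mul, Subgroup.coe_inv, hg]; exact hcomm f g
          rw [huR _ h1]
          exact h1
        exact mem_stab.2 ⟨fun e he => by rw [e1 e he]; exact he,
          fun e he => by rw [e1 e he]; exact he,
          fun e he => by rw [e1 e he, inv_mul_cancel]; exact one_mem _, fun e _ => e2 e, e2⟩
      have hup : orderOf u ∣ p := by
        refine orderOf_dvd_of_pow_eq_one ?_
        rw [hu, conj_pow, orderOf_dvd_iff_pow_eq_one.1 htord, mul_one, mul_inv_cancel]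
      have hjoin : autY E₂ ⊔ Subgroup.zpowers u ≤ autY E₂ := by
        refine h.max E₂ hE₂ _ (sup_le (h.conj E₂ hE₂) (Subgroup.zpowers_le.2 hu𝔸)) ?_ le_sup_left
        refine IsPGroup.to_sup_of_normal_left' hTp ?_ ?_
        · rcases (Nat.dvd_prime hpp).1 hup with e | e
          · exact IsPGroup.of_card (n := 0) (by rw [Nat.card_zpowers, e, pow_zero])
          · exact IsPGroup.of_card (n := 1) (by rw [Nat.card_zpowers, e, pow_one])
        · exact Subgroup.zpowers_le.2 (Subgroup.mem_normalizer_fintype fun σ hσ => hunor σ hσ)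
      obtain ⟨g, hg⟩ := mem_autY.1 (hjoin (Subgroup.mem_sup_right (Subgroup.mem_zpowers u)))
      obtain ⟨e, he, heZ⟩ := hmv
      obtain ⟨f, hf, hfZ⟩ : ∃ f : E₂, (f : Y) ∈ Z ∧ (β⁻¹ f : Y) ∉ Z := by
        by_contra hc'
        push Not at hc'
        have hle : Z ≤ img β Z := fun z hz =>
          (show (β (β⁻¹ ⟨z, hZE hz⟩) : Y) = z by rw [MulAut.apply_inv_self]) ▸
            mem_img.2 (hc' ⟨z, hZE hz⟩ hz)
        exact heZ ((Subgroup.eq_of_le_of_card_ge hle (card_img β hZE).le).symm ▸ mem_img.2 he)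
      refine hfZ (hfixZ _ ?_)
      have h1 : u f = f := Subtype.ext (by rw [hg, ← (hmemZ _).1 hf g, mul_inv_cancel_right])
      refine β.injective ?_
      simpa [hu] using h1
    have hinv : ∃ e : E₂, (e : Y) ∈ Z ∧ (α⁻¹ e : Y) ∉ Z := by
      obtain ⟨e, he, heZ⟩ := hmv
      by_contra hc'
      push Not at hc'
      have hle : Z ≤ img α Z := fun z hz =>
        (show (α (α⁻¹ ⟨z, hZE hz⟩) : Y) = z by rw [MulAut.apply_inv_self]) ▸
          mem_img.2 (hc' ⟨z, hZE hz⟩ hz)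
      exact heZ ((Subgroup.eq_of_le_of_card_ge hle (card_img α hZE).le).symm ▸ mem_img.2 he)
    have hr1' := hrnot α hα hmv
    have hr2' := hrnot α⁻¹ ((Γ.𝔸 E₂).inv_mem hα) hinv
    -- the two planes
    obtain ⟨P, hP⟩ : ∃ P : Subgroup E₂, P = Z.subgroupOf E₂ := ⟨_, rfl⟩
    obtain ⟨P', hP'⟩ : ∃ P' : Subgroup E₂, P' = P.map α.toMonoidHom := ⟨_, rfl⟩
    obtain ⟨L, hL⟩ : ∃ L : Subgroup E₂, L = P ⊓ P' := ⟨_, rfl⟩
    have hPi : P.index = p := by
      have h1 := P.index_mul_card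
      rw [hcE E₂ hE₂, hP, Nat.card_congr (Subgroup.subgroupOfEquivOfLe hZE).toEquiv, hZc,
        pow_succ' p 2] at h1
      exact Nat.eq_of_mul_eq_mul_right (pow_pos hpp.pos 2) (hP ▸ h1)
    have hP'i : P'.index = p := hP' ▸ (Subgroup.index_map_equiv (H := P) α).trans hPi
    have hPmem : ∀ x : E₂, x ∈ P' ↔ (α⁻¹ x : Y) ∈ Z := fun x => by
      rw [hP']
      constructor
      · rintro ⟨y, hy, rfl⟩
        show ((α⁻¹ (α y) : E₂) : Y) ∈ Z
        rw [MulAut.inv_apply_self]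
        exact Subgroup.mem_subgroupOf.1 (hP ▸ hy)
      · intro hx
        exact ⟨α⁻¹ x, by rw [hP]; exact hx, MulAut.apply_inv_self _ _ _⟩
    have hPmem0 : ∀ x : E₂, x ∈ P ↔ (x : Y) ∈ Z := fun x => hP ▸ Subgroup.mem_subgroupOf
    have hPne : P ≠ P' := by
      intro e
      obtain ⟨f, hf, hfZ⟩ := hinv
      exact hfZ ((hPmem f).1 (e ▸ (hPmem0 f).2 hf))
    have hLeq : L.map E₂.subtype = Z ⊓ img α Z := by
      refine le_antisymm ?_ fun x hx => ?_
      · rintro _ ⟨e, he, rfl⟩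
        rw [hL] at he
        refine Subgroup.mem_inf.2 ⟨(hPmem0 e).1 he.1, ?_⟩
        have := mem_img (α := α).2 ((hPmem e).1 he.2)
        rwa [MulAut.apply_inv_self] at this
      · obtain ⟨hx1, hx2⟩ := Subgroup.mem_inf.1 hx
        obtain ⟨e, he, rfl⟩ := exists_of_mem_img hx2
        exact ⟨α e, hL ▸ ⟨(hPmem0 _).2 hx1, (hPmem _).2 (by rw [MulAut.inv_apply_self]; exact he)⟩, rfl⟩
    have hLc : Nat.card L = p := by
      have hnP : P.Normal := inferInstance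
      have h1 := inf_relIndex (Y := E₂) hnP hPi (H := P') fun hle =>
        hPne (Subgroup.eq_of_le_of_card_ge hle (by
          rw [hP', Subgroup.card_map_of_injective α.injective])).symm
      have h2 := ((P ⊓ P').subgroupOf P').index_mul_card
      rw [show ((P ⊓ P').subgroupOf P').index = p from h1,
        Nat.card_congr (Subgroup.subgroupOfEquivOfLe inf_le_right).toEquiv, ← hL, hP',
        Subgroup.card_map_of_injective α.injective, hP,
        Nat.card_congr (Subgroup.subgroupOfEquivOfLe hZE).toEquiv, hZc, pow_two] at h2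
      exact Nat.eq_of_mul_eq_mul_left hpp.pos h2
    obtain ⟨re, hre⟩ : ∃ re : E₂, (re : Y) = r := ⟨⟨r, hZE hrZ⟩, rfl⟩
    have hreL : re ∉ L := fun hh => hr1' (by
      have h1 : (re : Y) ∈ Z ⊓ img α Z := hLeq ▸ ⟨re, hh, rfl⟩
      exact hre ▸ (Subgroup.mem_inf.1 h1).2)
    have hgenr : ∀ x : E₂, (x : Y) ∈ R → x ≠ 1 → ∀ Q : Subgroup E₂, x ∈ Q → re ∈ Q := by
      intro x hx hx1 Q hQ
      obtain ⟨i, hi⟩ := Subgroup.mem_zpowers_iff.1 (hR ▸ hx)
      have hx' : x = re ^ i := Subtype.ext (by rw [SubgroupClass.coe_zpow, hre, hi])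
      have hrep : re ^ p = 1 := Subtype.ext (by rw [SubgroupClass.coe_pow, hexp]; rfl)
      have hi0 : (i : ZMod p) ≠ 0 := fun h0 => hx1 (by
        rw [hx']
        obtain ⟨d, rfl⟩ := (ZMod.intCast_zmod_eq_zero_iff_dvd i p).1 h0
        rw [zpow_mul, zpow_natCast, hrep, one_zpow])
      obtain ⟨j, hj⟩ := ZMod.intCast_surjective ((i : ZMod p)⁻¹)
      obtain ⟨d, hd⟩ := (ZMod.intCast_eq_intCast_iff_dvd_sub (i * j) 1 p).1
        (by rw [Int.cast_mul, hj, mul_inv_cancel₀ hi0, Int.cast_one])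
      have h1 := Q.zpow_mem hQ j
      rwa [hx', ← zpow_mul, show i * j = 1 + (p : ℤ) * (-d) by rw [mul_neg]; omega, zpow_add,
        zpow_mul, zpow_natCast, hrep, one_zpow, mul_one, zpow_one] at h1
    obtain ⟨x0, hx0⟩ : ∃ x0 : E₂, t x0 ≠ x0 := by
      by_contra hc'
      push Not at hc'
      obtain ⟨e, -, heZ⟩ := hmv
      exact heZ (hfixZ _ (hc' _))
    have hx0R : ((x0⁻¹ * t x0 : E₂) : Y) ∈ R := by simpa using htR x0
    have htn : ¬ ∀ x : E₂, x⁻¹ * t x ∈ L := fun hall =>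
      hreL (hgenr _ hx0R (fun e => hx0 (inv_mul_eq_one.1 e).symm) L (hall x0))
    obtain ⟨t', ht'⟩ : ∃ t', t' = α * t * α⁻¹ := ⟨_, rfl⟩
    have ht'app : ∀ f : E₂, t' (α f) = α (t f) := fun f => by
      rw [ht', MulAut.mul_apply, MulAut.mul_apply, MulAut.inv_apply_self]
    have ht'n : ¬ ∀ x : E₂, x⁻¹ * t' x ∈ L := by
      intro hall
      have h1 := hall (α x0)
      rw [ht'app, ← map_inv, ← map_mul, hL] at h1
      have h2 : re ∈ P.comap α.toMonoidHom :=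
        hgenr _ hx0R (fun e => hx0 (inv_mul_eq_one.1 e).symm) _ h1.1
      refine hr2' ?_
      have h3 : (α re : Y) ∈ Z := (hPmem0 _).1 h2
      have h4 := mem_img (α := α⁻¹).2 h3
      rwa [MulAut.inv_apply_self, hre] at h4
    have hst : t ∈ seriesStab L P (hL ▸ inf_le_left) := mem_seriesStab.2
      ⟨fun x hx => htfix x ((hPmem0 x).1 (hL ▸ hx : x ∈ P ⊓ P').1),
        fun x hx => by rw [htfix x ((hPmem0 x).1 hx), inv_mul_cancel]; exact one_mem _,
        fun x => (hPmem0 _).2 (hRZ (by simpa using htR x))⟩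
    have hfix' : ∀ x ∈ P', t' x = x := fun x hx => by
      rw [ht', MulAut.mul_apply, MulAut.mul_apply, htfix _ ((hPmem x).1 hx), MulAut.apply_inv_self]
    have hst' : t' ∈ seriesStab L P' (hL ▸ inf_le_right) := mem_seriesStab.2
      ⟨fun x hx => hfix' x (hL ▸ hx : x ∈ P ⊓ P').2,
        fun x hx => by rw [hfix' x hx, inv_mul_cancel]; exact one_mem _,
        fun x => by
          obtain ⟨f, rfl⟩ := α.surjective x
          rw [ht'app, ← map_inv, ← map_mul, hPmem, MulAut.inv_apply_self]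
          exact hRZ (by simpa using htR f)⟩
    obtain ⟨c, htr, -, htor⟩ := torus (hY.to_subgroup E₂) (hcE E₂ hE₂)
      (fun x => Subtype.ext (by rw [SubgroupClass.coe_pow, hexp]; rfl)) h.podd (Γ.𝔸 E₂)
      (fun T hT hTp' => h.autY_isSylow hE₂ hTc hTp hT hTp') hLc (hL ▸ inf_le_left)
      (hL ▸ inf_le_right) hPi hP'i hPne ht𝔸
      (ht' ▸ (Γ.𝔸 E₂).mul_mem ((Γ.𝔸 E₂).mul_mem hα ht𝔸) ((Γ.𝔸 E₂).inv_mem hα))
      hst hst' htn ht'n
    obtain ⟨hh, hh𝔸, hhn, hhL, hhc, -⟩ := htor (-1) (-1) (by norm_num)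
    have hrec : re ∈ c :=
      hgenr _ hx0R (fun e => hx0 (inv_mul_eq_one.1 e).symm) c (htr.diff x0)
    obtain ⟨φ, hφ, hφv⟩ := h.ext E₂ hE₂ hh hh𝔸 fun σ hσ => by
      obtain ⟨i, rfl⟩ := Subgroup.mem_zpowers_iff.1 (hautY hσ)
      rw [← conj_zpow]
      exact Subgroup.zpow_mem _ ((Subgroup.zpowers_le.2 htY) hhn) i
    refine ⟨φ, hφ, ?_, fun l hl => ?_, ?_, ?_⟩
    · rw [← hre, hφv, hhc re hrec, zpow_neg, zpow_one, Subgroup.coe_inv]
    · obtain ⟨le', hle', rfl⟩ := hLeq ▸ hl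
      show φ (le' : Y) = _
      rw [hφv, hhL le' hle']
      rfl
    · rw [← hLeq, Subgroup.card_map_of_injective E₂.subtype_injective, hLc]
    · exact fun hh => hr1' (Subgroup.mem_inf.1 hh).2
  -- every member moves the centre
  have hmove : ∀ E₂ ∈ Γ.ℰ, ∃ α ∈ Γ.𝔸 E₂, ∃ e : E₂, (e : Y) ∈ Z ∧ (α e : Y) ∉ Z := by
    intro E₂ hE₂
    by_contra hc'
    push Not at hc'
    obtain ⟨y0, hy0⟩ := h.exists_notMem hE₂
    have hΦ : phi E₂ ≤ Z := by
      haveI hZn : Z.Normal := ⟨fun z hz g => by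
        rw [← (hmemZ z).1 hz g, mul_inv_cancel_right]; exact hz⟩
      refine phi_le_of (p := p) (fun e _ z hz => hZn.conj_mem z hz e) (fun e _ f _ => ?_)
        fun e _ => by rw [hexp]; exact Z.one_mem
      have h1 := hcomm e⁻¹ f
      rw [inv_inv, ← mul_assoc, ← mul_assoc] at h1
      exact hRZ (by rwa [commutatorElement_def])
    exact h.flag hE₂ hΦ le_rfl (hZle E₂ hE₂) hc' hc' hy0
      (fun z hz => by rw [← (hmemZ z).1 hz y0, mul_inv_cancel_right, inv_mul_cancel]; exact one_mem _)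
      (fun z _ => hRZ (hcomm z y0)) fun z _ => hRZ (hcomm z y0)
  -- the fixed line does not depend on the member
  have hone : ∀ (L₁ L₂ : Subgroup Y), (L₁ ≤ Z ∧ ∃ φ ∈ Γ.𝔹, φ r = r⁻¹ ∧ (∀ l ∈ L₁, φ l = l)) →
      (L₂ ≤ Z ∧ Nat.card L₂ = p ∧ r ∉ L₂ ∧ ∃ φ ∈ Γ.𝔹, φ r = r⁻¹ ∧ (∀ l ∈ L₂, φ l = l)) →
      L₁ ≤ L₂ := by
    rintro L₁ L₂ ⟨hL1, φ1, hφ1, hφ1r, hφ1l⟩ ⟨hL2, hL2c, hrL2, φ2, hφ2, hφ2r, hφ2l⟩ l hl
    have hrel : L₂.relIndex Z = p := by
      have h1 := (L₂.subgroupOf Z).index_mul_card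
      rw [Nat.card_congr (Subgroup.subgroupOfEquivOfLe hL2).toEquiv, hZc, hL2c, pow_two] at h1
      exact Nat.eq_of_mul_eq_mul_right hpp.pos h1
    obtain ⟨l2, hl2, i, hdec⟩ := decomp hL2 hrel
      (fun g hg z hz => by rw [(hmemZ g).1 hg z, mul_inv_cancel_right]; exact hz) hrZ hrL2 (hexp r)
      (hL1 hl)
    have hφ2lv : φ2 l = l * (r ^ (2 * i))⁻¹ := by
      rw [hdec, map_mul, map_pow, hφ2l l2 hl2, hφ2r, inv_pow, two_mul, pow_add, mul_inv_rev,
        ← mul_assoc, mul_inv_cancel_right]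
    obtain ⟨δ, hδ⟩ : ∃ δ, δ = φ1⁻¹ * φ2 := ⟨_, rfl⟩
    have hφ1inv : ∀ x, φ1 x = x → φ1⁻¹ x = x := fun x hx => by
      conv_lhs => rw [← hx]
      exact MulAut.inv_apply_self _ _ _
    have hφ1r' : φ1⁻¹ r = r⁻¹ := by
      exact φ1.injective (by rw [MulAut.apply_inv_self, map_inv, hφ1r, inv_inv])
    have hδr : δ r = r := by
      rw [hδ, MulAut.mul_apply, hφ2r, map_inv, hφ1r', inv_inv]
    have hδl : δ l = l * r ^ (2 * i) := by
      rw [hδ, MulAut.mul_apply, hφ2lv, map_mul, hφ1inv l (hφ1l l hl), map_inv, map_pow, hφ1r',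
        inv_pow, inv_inv]
    have hδk : ∀ k : ℕ, (δ ^ k) l = l * r ^ (2 * i * k) := by
      intro k
      induction k with
      | zero => simp
      | succ k ih =>
        rw [pow_succ', MulAut.mul_apply, ih, map_mul, map_pow, hδr, hδl, mul_assoc, ← pow_add]
        ring_nf
    haveI : Finite (MulAut Y) := Finite.of_injective (fun φ => (φ : Y → Y)) DFunLike.coe_injective
    obtain ⟨a, m, hm, hord⟩ := Nat.exists_eq_pow_mul_and_not_dvd (orderOf_pos δ).ne' p hpp.ne_one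
    obtain ⟨g, hg⟩ := h.pB (δ ^ m) (hδ ▸ Γ.𝔹.pow_mem (Γ.𝔹.mul_mem (Γ.𝔹.inv_mem hφ1) hφ2) m)
      ⟨a, by rw [← pow_mul, mul_comm, ← hord, pow_orderOf_eq_one]⟩
    have h1 : (δ ^ m) l = l := by
      rw [hg, MulAut.conj_apply, ← (hmemZ l).1 (hL1 hl) g, mul_inv_cancel_right]
    rw [hδk, mul_eq_left, ← orderOf_dvd_iff_pow_eq_one, orderOf_eq_prime (hexp r) hr1,
      hpp.dvd_mul, hpp.dvd_mul] at h1
    rcases h1 with (h1 | h1) | h1
    · exact absurd ((Nat.prime_dvd_prime_iff_eq hpp Nat.prime_two).1 h1) h.podd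
    · obtain ⟨d, rfl⟩ := h1
      rw [hdec, pow_mul, hexp, one_pow, mul_one]
      exact hl2
    · exact absurd h1 hm
  obtain ⟨α0, hα0, hmv0⟩ := hmove E hE
  obtain ⟨φ0, hφ0, hφ0r, hφ0l, hL0c, hrL0⟩ := key E hE α0 hα0 hmv0
  obtain ⟨L0, hL0⟩ : ∃ L0, L0 = Z ⊓ img α0 Z := ⟨_, rfl⟩
  rw [← hL0] at hφ0l hL0c hrL0
  have hL0Z : L0 ≤ Z := hL0 ▸ inf_le_left
  have hsame : ∀ E₂ ∈ Γ.ℰ, ∀ α ∈ Γ.𝔸 E₂, (∃ e : E₂, (e : Y) ∈ Z ∧ (α e : Y) ∉ Z) →
      Z ⊓ img α Z = L0 := by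
    intro E₂ hE₂ α hα hmv
    obtain ⟨φ, hφ, hφr, hφl, hc', hr'⟩ := key E₂ hE₂ α hα hmv
    exact le_antisymm (hone _ _ ⟨inf_le_left, φ, hφ, hφr, hφl⟩ ⟨hL0Z, hL0c, hrL0, φ0, hφ0, hφ0r, hφ0l⟩)
      (hone _ _ ⟨hL0Z, φ0, hφ0, hφ0r, hφ0l⟩ ⟨inf_le_left, hc', hr', φ, hφ, hφr, hφl⟩)
  have hbot : L0 = ⊥ := by
    refine hcore L0 (fun φ hφ l hl => ?_) (fun E₂ hE₂ => hL0Z.trans (hZle E₂ hE₂))
      fun E₂ hE₂ α hα e he => ?_
    · obtain ⟨hE1, hres⟩ := h.perm φ hφ E hE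
      obtain ⟨β, hβ, hβv⟩ := hres α0 hα0
      have hmv1 : ∃ e : E.map φ.toMonoidHom, (e : Y) ∈ Z ∧ (β e : Y) ∉ Z := by
        obtain ⟨e, he, heZ⟩ := hmv0
        refine ⟨⟨φ e, e, e.2, rfl⟩, hZi φ _ he, fun hc' => heZ ?_⟩
        rw [hβv e _ rfl] at hc'
        have := hZi φ.symm _ hc'
        rwa [MulEquiv.symm_apply_apply] at this
      rw [← hsame _ hE1 β hβ hmv1]
      refine Subgroup.mem_inf.2 ⟨hZi φ _ (hL0Z hl), ?_⟩
      obtain ⟨f, hf, hfl⟩ := exists_of_mem_img (Subgroup.mem_inf.1 (hL0 ▸ hl)).2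
      have h2 := mem_img (α := β).2 (show (((⟨φ f, f, f.2, rfl⟩ : E.map φ.toMonoidHom) : Y)) ∈ Z
        from hZi φ _ hf)
      rwa [hβv f _ rfl, hfl] at h2
    · have hin : ∀ β ∈ Γ.𝔸 E₂, (β e : Y) ∈ Z := by
        intro β hβ
        by_contra hn
        obtain ⟨γ, hγ⟩ : ∃ γ, γ = β⁻¹ := ⟨_, rfl⟩
        have hmv2 : ∃ e : E₂, (e : Y) ∈ Z ∧ (γ e : Y) ∉ Z := by
          by_contra hc'
          push Not at hc'
          refine hn ?_
          have hle : img γ Z ≤ Z := fun x hx => by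
            obtain ⟨f, hf, rfl⟩ := exists_of_mem_img hx; exact hc' f hf
          have heq := Subgroup.eq_of_le_of_card_ge hle (card_img γ (hZle E₂ hE₂)).ge
          obtain ⟨f, hf, hfe⟩ := exists_of_mem_img (heq.symm ▸ hL0Z he)
          rw [← (Subtype.ext hfe : γ f = e), hγ, MulAut.apply_inv_self]
          exact hf
        rw [← hsame E₂ hE₂ γ (hγ ▸ (Γ.𝔸 E₂).inv_mem hβ) hmv2] at he
        obtain ⟨f, hf, hfe⟩ := exists_of_mem_img (Subgroup.mem_inf.1 he).2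
        refine hn ?_
        rw [← (Subtype.ext hfe : γ f = e), hγ, MulAut.apply_inv_self]
        exact hf
      obtain ⟨α2, hα2, hmv2⟩ := hmove E₂ hE₂
      rw [← hsame E₂ hE₂ α2 hα2 hmv2]
      refine Subgroup.mem_inf.2 ⟨hin α hα, ?_⟩
      have h2 := mem_img (α := α2).2 (hin (α2⁻¹ * α) ((Γ.𝔸 E₂).mul_mem ((Γ.𝔸 E₂).inv_mem hα2) hα))
      rwa [MulAut.mul_apply, MulAut.apply_inv_self] at h2
  rw [hbot, Subgroup.card_bot] at hL0c
  exact hpp.ne_one hL0c.symm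

end Sys.Good

end CfsgLib.RankThreeAmalgam
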