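import Cfsg.Agent.Lib.Fusion.RankThreeAmalgam.Core
import Cfsg.Agent.Lib.Fusion.RankThreeAmalgam.Sp4Shape
import Cfsg.Agent.Lib.Fusion.RankThreeAmalgam.Outcomes

/-!
The abelian member of a symplectic pair has no proper invariant subgroup.
-/

set_option autoImplicit false
set_option linter.style.haveILetI false
set_option linter.unusedSectionVars false

namespace CfsgLib.RankThreeAmalgam

open Cfsg CfsgLib.RankThree
open scoped commutatorElement

variable {Y : Type*} [Group Y] [Finite Y] {p : ℕ} [hp : Fact p.Prime] {Γ : Sys Y}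
  {E E' G : Subgroup Y} {v r s : Y}

/-- A `p`-element of a subgroup whose `k`-th power lies in it for `k` prime to `p`. -/
theorem mem_of_pow_mem {C : Subgroup Y} {x : Y} (hx : x ^ p ∈ C) {k : ℕ} (hk : ¬ p ∣ k)
    (hxk : x ^ k ∈ C) : x ∈ C := by
  have h1 := Nat.gcd_eq_gcd_ab p k
  rw [show Nat.gcd p k = 1 from hp.out.coprime_iff_not_dvd.2 hk] at h1
  rw [← zpow_one x, show (1 : ℤ) = p * Nat.gcdA p k + k * Nat.gcdB p k by exact_mod_cast h1,
    zpow_add, zpow_mul, zpow_mul, zpow_natCast, zpow_natCast]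
  exact C.mul_mem (C.zpow_mem hx _) (C.zpow_mem hxk _)

theorem Sys.Good.irred_of_sp4 (h : Γ.Good p) (hcore : Γ.NoCore) (hE : E ∈ Γ.ℰ) (hE' : E' ∈ Γ.ℰ)
    (hS : Shape p E E' G v r s) (hG : Nat.card G = p) (hz : ⁅r, s⁆ ≠ 1)
    (honly : ∀ F ∈ Γ.ℰ, F = E ∨ F = E') {C : Subgroup Y} (hC : C ≤ E)
    (hCi : ∀ α ∈ Γ.𝔸 E, ∀ e : E, (e : Y) ∈ C → (α e : Y) ∈ C) : C = ⊥ ∨ C = E := by
  classical
  have hY := h.pY
  have hpp := hp.out
  haveI := CfsgLib.Fusion.finite_mulAut E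
  obtain ⟨-, hel, hcE, hext, hcE', -⟩ :=
    hS.sp4 hY h.podd h.rank (h.idx E hE) (h.idx E' hE') hG hz
  have hcen := hS.central hY h.podd h.rank (h.idx E' hE')
  obtain ⟨czr, czs, czv, hzp⟩ := hS.z_comm
  obtain ⟨z, hzdef⟩ : ∃ z, z = ⁅r, s⁆ := ⟨_, rfl⟩
  rw [← hzdef] at hz czr czs czv hzp
  have hzG : z ∈ G := hzdef ▸ hS.zG
  have hGz : G = Subgroup.zpowers z :=
    (Subgroup.eq_of_le_of_card_ge (Subgroup.zpowers_le.2 hzG)
      (by rw [hG, Nat.card_zpowers, orderOf_eq_prime hzp hz])).symm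
  have hzc : ∀ y : Y, z * y = y * z := fun y => hcen z hzG y
  have hZ : ∀ w : Y, (∀ y : Y, w * y = y * w) → w ∈ G := by
    intro w hw
    have hwE' : w ∈ E' := h.cen E' hE' w fun e _ => hw e
    have h1 : (G.subgroupOf E') = Subgroup.center E' := by
      refine Subgroup.eq_of_le_of_card_ge (fun x hx => Subgroup.mem_center_iff.2 fun y =>
        Subtype.ext (hcen _ hx _).symm) ?_
      rw [hext.2, Nat.card_congr (Subgroup.subgroupOfEquivOfLe hS.GE').toEquiv, hG]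
    exact h1.ge (Subgroup.mem_center_iff.2 fun y => Subtype.ext (hw y).symm : (⟨w, hwE'⟩ : E') ∈ _)
  have hGnot : ¬ ∀ α ∈ Γ.𝔸 E, ∀ e : E, (e : Y) ∈ G → (α e : Y) ∈ G := by
    intro hinv
    have h1 := hcore G (fun φ _ x hx => hZ _ fun y => by
        obtain ⟨y, rfl⟩ := φ.surjective y
        rw [← map_mul, ← map_mul, hcen x hx y])
      (fun F hF => (honly F hF).elim (fun e => e ▸ hS.GE) fun e => e ▸ hS.GE') ?_
    · rw [h1, Subgroup.card_bot] at hG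
      exact hpp.one_lt.ne hG
    intro F hF
    rcases honly F hF with rfl | rfl
    · exact hinv
    · intro α _ e he
      have h2 : e ∈ Subgroup.center F := Subgroup.mem_center_iff.2 fun y =>
        Subtype.ext (hcen _ he y).symm
      have h3 : α e ∈ Subgroup.center F :=
        (Subgroup.characteristic_iff_map_eq.1 inferInstance α).le ⟨e, h2, rfl⟩
      have h4 : (G.subgroupOf F) = Subgroup.center F := by
        refine Subgroup.eq_of_le_of_card_ge (fun x hx => Subgroup.mem_center_iff.2 fun y =>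
          Subtype.ext (hcen _ hx _).symm) ?_
        rw [hext.2, Nat.card_congr (Subgroup.subgroupOfEquivOfLe hS.GE').toEquiv, hG]
      exact h4.ge h3
  rcases eq_or_ne C ⊥ with hC0 | hC0
  · exact Or.inl hC0
  right
  haveI hCn := h.normal_of_invariant hE hC hCi
  have hzC : z ∈ C := by
    haveI : Nontrivial C := (Subgroup.nontrivial_iff_ne_bot C).2 hC0
    obtain ⟨⟨w, hw⟩, hw1', -, hwf⟩ := exists_fixed (MulAut.conjNormal (H := C)) hY
      (hY.to_subgroup C) inferInstance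
    have hw1 : w ≠ 1 := fun e => hw1' (Subtype.ext e)
    have hwc : ∀ y : Y, w * y = y * w := fun y => by
      have h1 := congrArg Subtype.val (hwf y)
      rw [MulAut.conjNormal_apply] at h1
      exact (mul_inv_eq_iff_eq_mul.1 h1).symm
    have hwG := hZ w hwc
    have h1 : Subgroup.zpowers w = G := Subgroup.eq_of_le_of_card_ge (Subgroup.zpowers_le.2 hwG) (by
      rw [hG, Nat.card_zpowers, orderOf_eq_prime (orderOf_dvd_iff_pow_eq_one.1
        (hG ▸ Subgroup.orderOf_dvd_natCard G hwG)) hw1])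
    exact Subgroup.zpowers_le.2 hw (h1.ge hzG)
  have hGC : G ≤ C := hGz ▸ Subgroup.zpowers_le.2 hzC
  have hrC : r ∈ C := by
    by_contra hrC
    have hall : ∀ x ∈ C, x ∈ G := by
      intro x hx
      obtain ⟨g, hg, i, k, rfl⟩ := hS.gen x (hC hx)
      have hk : p ∣ k := by
        by_contra hk
        have hrs : ∀ j : ℕ, r ^ j * s * (r ^ j)⁻¹ = z ^ j * s := fun j => by
          have key : r * s * r⁻¹ = z * s := by rw [hzdef, commutatorElement_def]; group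
          induction j with
          | zero => simp
          | succ i ih =>
            calc r ^ (i + 1) * s * (r ^ (i + 1))⁻¹ = r * (r ^ i * s * (r ^ i)⁻¹) * r⁻¹ := by
                  rw [pow_succ']; group
              _ = z ^ i * (r * s * r⁻¹) := by
                  rw [ih, ← mul_assoc r, ← ((show Commute z r from czr).pow_left i).eq]; group
              _ = z ^ (i + 1) * s := by rw [key, ← mul_assoc, ← pow_succ]
        have hvs : ∀ j : ℕ, v ^ j * s * (v ^ j)⁻¹ = s * r ^ j := by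
          intro j
          induction j with
          | zero => simp
          | succ j ih =>
            calc v ^ (j + 1) * s * (v ^ (j + 1))⁻¹ = v * (v ^ j * s * (v ^ j)⁻¹) * v⁻¹ := by
                  rw [pow_succ']; group
              _ = v * s * v⁻¹ * (v * r ^ j * v⁻¹) := by rw [ih]; group
              _ = s * r ^ (j + 1) := by
                  rw [hS.rdef, (show Commute v (r ^ j) from
                    (show Commute v r from hS.vcen _ hS.rE).pow_right j).eq, mul_inv_cancel_right,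
                    mul_assoc, ← pow_succ']
        have hrr : Commute (r ^ i) (r ^ k) := (Commute.refl r).pow_pow i k
        have h1 : g * r ^ i * v ^ k * s * (g * r ^ i * v ^ k)⁻¹ * s⁻¹ = z ^ i * (s * r ^ k * s⁻¹) := by
          calc g * r ^ i * v ^ k * s * (g * r ^ i * v ^ k)⁻¹ * s⁻¹
              = g * (r ^ i * (v ^ k * s * (v ^ k)⁻¹) * (r ^ i)⁻¹) * g⁻¹ * s⁻¹ := by group
            _ = g * (r ^ i * s * (r ^ i)⁻¹ * (r ^ i * r ^ k * (r ^ i)⁻¹)) * g⁻¹ * s⁻¹ := by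
                rw [hvs]; group
            _ = z ^ i * s * r ^ k * s⁻¹ := by
                rw [hrr.eq, mul_inv_cancel_right, hrs i, hcen g hg, mul_inv_cancel_right]
            _ = _ := by group
        have h2 : g * r ^ i * v ^ k * s * (g * r ^ i * v ^ k)⁻¹ * s⁻¹ ∈ C := by
          rw [show g * r ^ i * v ^ k * s * (g * r ^ i * v ^ k)⁻¹ * s⁻¹ =
            g * r ^ i * v ^ k * (s * (g * r ^ i * v ^ k)⁻¹ * s⁻¹) by group]
          exact C.mul_mem hx (hCn.conj_mem _ (C.inv_mem hx) s)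
        have h3 := C.mul_mem (C.inv_mem (C.pow_mem hzC i)) (h1 ▸ h2)
        rw [inv_mul_cancel_left] at h3
        have h4 := hCn.conj_mem _ h3 s⁻¹
        rw [show s⁻¹ * (s * r ^ k * s⁻¹) * s⁻¹⁻¹ = r ^ k by group] at h4
        exact hrC (mem_of_pow_mem (by rw [hS.rp]; exact C.one_mem) hk h4)
      obtain ⟨k', rfl⟩ := hk
      rw [pow_mul, hS.vp, one_pow, mul_one] at hx ⊢
      by_cases hi : p ∣ i
      · obtain ⟨i', rfl⟩ := hi
        rwa [pow_mul, hS.rp, one_pow, mul_one]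
      · have h3 := C.mul_mem (C.inv_mem (hGC hg)) hx
        rw [inv_mul_cancel_left] at h3
        exact absurd (mem_of_pow_mem (by rw [hS.rp]; exact C.one_mem) hi h3) hrC
    exact hGnot fun α hα e he => hall _ (hCi α hα e (hGC he))
  by_cases hvC : v ∈ C
  · refine le_antisymm hC fun x hx => ?_
    obtain ⟨g, hg, i, k, rfl⟩ := hS.gen x hx
    exact C.mul_mem (C.mul_mem (hGC hg) (C.pow_mem hrC i)) (C.pow_mem hvC k)
  exfalso
  -- the plane `R = ⟨z, r⟩`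
  have hR : ∀ x ∈ C, ∃ g ∈ G, ∃ i : ℕ, x = g * r ^ i := by
    intro x hx
    obtain ⟨g, hg, i, k, rfl⟩ := hS.gen x (hC hx)
    have h3 := C.mul_mem (C.inv_mem (C.mul_mem (hGC hg) (C.pow_mem hrC i))) hx
    rw [inv_mul_cancel_left] at h3
    have hk : p ∣ k := by
      by_contra hk
      exact hvC (mem_of_pow_mem (by rw [hS.vp]; exact C.one_mem) hk h3)
    obtain ⟨k', rfl⟩ := hk
    exact ⟨g, hg, i, by rw [pow_mul, hS.vp, one_pow, mul_one]⟩
  obtain ⟨τ, hτ, hτT, hτv⟩ := h.exists_conj hE s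
  obtain ⟨R0, hR0⟩ : ∃ R0 : E, (R0 : Y) = r := ⟨⟨r, hS.rE⟩, rfl⟩
  obtain ⟨Z0, hZ0⟩ : ∃ Z0 : E, (Z0 : Y) = z := ⟨⟨z, hS.GE hzG⟩, rfl⟩
  obtain ⟨V0, hV0⟩ : ∃ V0 : E, (V0 : Y) = v := ⟨⟨v, hS.vE⟩, rfl⟩
  have hcomm : ∀ a b : E, Commute a b := fun a b => Subtype.ext (hel.1 a a.2 b b.2)
  have hpE : ∀ a : E, a ^ p = 1 := fun a => Subtype.ext (by
    rw [SubgroupClass.coe_pow]; exact hel.2 a a.2)
  have hτfix : ∀ e : E, (e : Y) ∈ G → τ e = e := fun e he => Subtype.ext (by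
    rw [hτv, ← hcen _ he, mul_inv_cancel_right])
  have hτr : τ R0 = R0 * Z0⁻¹ := Subtype.ext (by
    rw [hτv, Subgroup.coe_mul, Subgroup.coe_inv, hR0, hZ0]
    calc s * r * s⁻¹ = ⁅r, s⁆⁻¹ * r := by rw [commutatorElement_def]; group
      _ = r * z⁻¹ := by rw [← hzdef]; exact ((show Commute z r from czr).inv_left).eq)
  have hτpow : ∀ e : E, (e : Y) ∈ C → ∃ i : ℕ, τ e = e * Z0⁻¹ ^ i ∧ ((e : Y) ∉ G → ¬ p ∣ i) := by
    intro e he
    obtain ⟨g, hg, i, hi⟩ := hR e he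
    refine ⟨i, ?_, fun hn hd => hn ?_⟩
    · have h1 : e = ⟨g, hS.GE hg⟩ * R0 ^ i := Subtype.ext (by rw [hi]; simp [hR0])
      rw [h1, map_mul, map_pow, hτfix _ hg, hτr, (hcomm _ _).mul_pow, mul_assoc]
    · obtain ⟨i', rfl⟩ := hd
      rwa [hi, pow_mul, hS.rp, one_pow, mul_one]
  obtain ⟨β, hβ, hβz⟩ : ∃ β ∈ Γ.𝔸 E, (β Z0 : Y) ∉ G := by
    by_contra hc
    push Not at hc
    refine hGnot fun α hα e he => ?_
    obtain ⟨n, hn⟩ := Subgroup.mem_zpowers_iff.1 (hGz ▸ he)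
    have h1 : e = Z0 ^ n := Subtype.ext (by rw [SubgroupClass.coe_zpow, hZ0, hn])
    rw [h1, map_zpow, SubgroupClass.coe_zpow]
    exact G.zpow_mem (hc α hα) n
  have hZC : (Z0 : Y) ∈ C := hZ0 ▸ hzC
  have hβi := (Γ.𝔸 E).inv_mem hβ
  have hβz' : ((β⁻¹) Z0 : Y) ∉ G := by
    intro hc
    obtain ⟨n, hn⟩ := Subgroup.mem_zpowers_iff.1 (hGz ▸ hc)
    have h1 : β⁻¹ Z0 = Z0 ^ n := Subtype.ext (by rw [SubgroupClass.coe_zpow, hZ0, hn])
    have h2 := congrArg β h1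
    rw [MulAut.apply_inv_self, map_zpow] at h2
    by_cases hd : (p : ℤ) ∣ n
    · obtain ⟨n', rfl⟩ := hd
      rw [zpow_mul, zpow_natCast, hpE, one_zpow] at h2
      exact hz (by rw [← hZ0, h2, Subgroup.coe_one])
    · obtain ⟨a, b, hab⟩ := ((Nat.prime_iff_prime_int.1 hpp).coprime_iff_not_dvd.2 hd)
      refine hβz ?_
      rw [← zpow_one (β Z0), ← hab, zpow_add, mul_comm a, mul_comm b, zpow_mul, zpow_mul, ← h2,
        zpow_natCast, hpE, one_zpow, one_mul, SubgroupClass.coe_zpow, hZ0]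
      exact G.zpow_mem hzG b
  obtain ⟨i1, hi1, hi1'⟩ := hτpow (β Z0) (hCi β hβ Z0 hZC)
  obtain ⟨i2, hi2, hi2'⟩ := hτpow (β⁻¹ Z0) (hCi _ hβi Z0 hZC)
  obtain ⟨m, n, hW1, hW2⟩ := shear_inv (C := Z0) (C' := β Z0) (hpE _) (hpE _) (hcomm _ _)
    (t := τ) (t' := β * τ * β⁻¹) (u := -(i1 : ℤ)) (w := -(i2 : ℤ))
    (by
      push_cast
      rw [neg_ne_zero, Ne, ZMod.natCast_eq_zero_iff]
      exact hi1' hβz)
    (by
      push_cast
      rw [neg_ne_zero, Ne, ZMod.natCast_eq_zero_iff]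
      exact hi2' hβz')
    (hτfix _ (hZ0 ▸ hzG))
    (by rw [hi1, zpow_neg, zpow_natCast, inv_pow])
    (by rw [MulAut.mul_apply, MulAut.mul_apply, MulAut.inv_apply_self, hτfix _ (hZ0 ▸ hzG)])
    (by rw [MulAut.mul_apply, MulAut.mul_apply, hi2, map_mul, MulAut.apply_inv_self, map_pow,
      map_inv, zpow_neg, zpow_natCast, inv_pow])
  obtain ⟨T, hT⟩ : ∃ T : Subgroup (MulAut E), ∀ σ, σ ∈ T ↔ σ ∈ Γ.𝔸 E ∧ ∀ e : E, (e : Y)⁻¹ * σ e ∈ C := by
    refine ⟨{ carrier := {σ | σ ∈ Γ.𝔸 E ∧ ∀ e : E, (e : Y)⁻¹ * σ e ∈ C}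
              one_mem' := ⟨Subgroup.one_mem _, fun e => by simp⟩
              mul_mem' := fun {a b} ha hb => ⟨Subgroup.mul_mem _ ha.1 hb.1, fun e => ?_⟩
              inv_mem' := fun {a} ha => ⟨Subgroup.inv_mem _ ha.1, fun e => ?_⟩ }, fun σ => Iff.rfl⟩
    · have h1 := C.mul_mem (hb.2 e) (ha.2 (b e))
      rwa [mul_assoc, mul_inv_cancel_left] at h1
    · have h1 := C.inv_mem (ha.2 (a⁻¹ e))
      rwa [MulAut.apply_inv_self, mul_inv_rev, inv_inv] at h1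
  have hTn : ∀ a ∈ Γ.𝔸 E, ∀ u ∈ T, a * u * a⁻¹ ∈ T := by
    intro a ha u hu
    refine (hT _).2 ⟨Subgroup.mul_mem _ (Subgroup.mul_mem _ ha ((hT u).1 hu).1) (Subgroup.inv_mem _ ha),
      fun e => ?_⟩
    obtain ⟨e, rfl⟩ := a.surjective e
    rw [MulAut.mul_apply, MulAut.mul_apply, MulAut.inv_apply_self, ← Subgroup.coe_inv, ← map_inv,
      ← Subgroup.coe_mul, ← map_mul]
    refine hCi a ha _ ?_
    simpa using ((hT u).1 hu).2 e
  have hτstep : (V0 : Y)⁻¹ * τ V0 ∈ C ∧ (V0 : Y)⁻¹ * τ V0 ∉ G := by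
    have h1 : (V0 : Y)⁻¹ * τ V0 = s * r⁻¹ * s⁻¹ := by
      have e1 : s⁻¹ * v * s = r * v := by
        calc s⁻¹ * v * s = s⁻¹ * (v * s * v⁻¹) * v := by group
          _ = r * v := by rw [hS.rdef, inv_mul_cancel_left]
      have e2 : s * v * s⁻¹ = (s * r * s⁻¹)⁻¹ * v := by
        calc s * v * s⁻¹ = (s * r * s⁻¹)⁻¹ * (s * (r * v) * s⁻¹) := by group
          _ = (s * r * s⁻¹)⁻¹ * v := by rw [← e1]; group
      have e3 : s * r * s⁻¹ ∈ E := h.conj_mem hE s hS.rE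
      rw [hτv, hV0, e2, ← (hS.vcen _ (E.inv_mem e3)), inv_mul_cancel_left]
      group
    rw [h1]
    refine ⟨hCn.conj_mem _ (C.inv_mem hrC) s, fun hc => hS.rG ?_⟩
    have := hcen _ hc s
    rw [inv_mul_cancel_right, mul_right_inj] at this
    have h2 : r⁻¹ ∈ G := by
      have e := (hcen _ hc s)
      rw [show s * r⁻¹ * s⁻¹ * s = s * r⁻¹ by group] at e
      exact (mul_left_cancel e) ▸ hc
    simpa using G.inv_mem h2
  have hτT' : τ ∈ T := by
    refine (hT τ).2 ⟨hτ, fun e => ?_⟩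
    obtain ⟨g, hg, i, k, he⟩ := hS.gen e e.2
    have hgrC : g * r ^ i ∈ C := C.mul_mem (hGC hg) (C.pow_mem hrC i)
    have h1 : e = ⟨g * r ^ i, hC hgrC⟩ * V0 ^ k := Subtype.ext (by rw [he]; simp [hV0])
    rw [h1, ← Subgroup.coe_inv, ← Subgroup.coe_mul, map_mul, map_pow,
      show ∀ a b c d : E, (a * b)⁻¹ * (c * d) = (a⁻¹ * c) * (b⁻¹ * d) from fun a b c d => by
        rw [mul_inv_rev, mul_assoc, ← mul_assoc a⁻¹ c d, ← mul_assoc b⁻¹,
          (hcomm b⁻¹ (a⁻¹ * c)).eq, mul_assoc (a⁻¹ * c)],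
      ← inv_pow, ← (hcomm _ _).mul_pow, Subgroup.coe_mul, SubgroupClass.coe_pow]
    refine C.mul_mem ?_ (C.pow_mem hτstep.1 k)
    exact C.mul_mem (C.inv_mem hgrC) (hCi τ hτ ⟨_, hC hgrC⟩ hgrC)
  obtain ⟨W, hWdef⟩ : ∃ W, W = (τ ^ m * (β * τ * β⁻¹) ^ n * τ ^ m) ^ 2 := ⟨_, rfl⟩
  rw [← hWdef] at hW1 hW2
  have hWT : W ∈ T := hWdef ▸ T.pow_mem (T.mul_mem (T.mul_mem (T.pow_mem hτT' m)
    (T.pow_mem (hTn β hβ τ hτT') n)) (T.pow_mem hτT' m)) 2
  have hWC : ∀ e : E, (e : Y) ∈ C → W e = e⁻¹ := by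
    intro e he
    obtain ⟨g, hg, i, hi⟩ := hR (β Z0 : Y) (hCi β hβ Z0 hZC)
    obtain ⟨g', hg', j, hj⟩ := hR e he
    have hWG : ∀ e : E, (e : Y) ∈ G → W e = e⁻¹ := fun e he => by
      obtain ⟨n, hn⟩ := Subgroup.mem_zpowers_iff.1 (hGz ▸ he)
      rw [show e = Z0 ^ n from Subtype.ext (by rw [SubgroupClass.coe_zpow, hZ0, hn]), map_zpow, hW1,
        inv_zpow]
    have hpi : ¬ p ∣ i := by
      rintro ⟨i', rfl⟩
      refine hβz ?_
      rwa [hi, pow_mul, hS.rp, one_pow, mul_one]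
    have hWr : W R0 = R0⁻¹ := by
      obtain ⟨g1, hg1⟩ : ∃ g1 : E, (g1 : Y) = g := ⟨⟨g, hS.GE hg⟩, rfl⟩
      have h1 : β Z0 = g1 * R0 ^ i := Subtype.ext (by rw [hi]; simp [hR0, hg1])
      rw [h1, map_mul, map_pow, hWG g1 (hg1 ▸ hg), mul_inv_rev, ← (hcomm g1⁻¹ _).eq,
        mul_right_inj, ← inv_pow] at hW2
      refine inv_mul_eq_one.1 (Subtype.ext ?_)
      have h2 : ((W R0)⁻¹ * R0⁻¹) ^ i = 1 := by
        rw [(hcomm _ _).mul_pow, inv_pow, hW2, inv_mul_cancel]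
      rw [Subgroup.coe_one]
      exact Subgroup.mem_bot.1 (mem_of_pow_mem (C := ⊥)
        (Subgroup.mem_bot.2 (by rw [← SubgroupClass.coe_pow, hpE]; rfl)) hpi
        (Subgroup.mem_bot.2 (by rw [← SubgroupClass.coe_pow, h2]; rfl)))
    obtain ⟨g2, hg2⟩ : ∃ g2 : E, (g2 : Y) = g' := ⟨⟨g', hS.GE hg'⟩, rfl⟩
    rw [show e = g2 * R0 ^ j from Subtype.ext (by rw [hj]; simp [hR0, hg2]), map_mul, map_pow,
      hWG g2 (hg2 ▸ hg'), hWr, mul_inv_rev, inv_pow, (hcomm g2⁻¹ _).eq]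
  obtain ⟨Q, hQ⟩ : ∃ Q : Subgroup (MulAut E),
      ∀ σ, σ ∈ Q ↔ σ ∈ T ∧ ∀ e : E, (e : Y) ∈ C → σ e = e := by
    refine ⟨{ carrier := {σ | σ ∈ T ∧ ∀ e : E, (e : Y) ∈ C → σ e = e}
              one_mem' := ⟨T.one_mem, fun e _ => rfl⟩
              mul_mem' := fun {a b} ha hb => ⟨T.mul_mem ha.1 hb.1, fun e he => by
                rw [MulAut.mul_apply, hb.2 e he, ha.2 e he]⟩
              inv_mem' := fun {a} ha => ⟨T.inv_mem ha.1, fun e he => a.injective (by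
                rw [MulAut.apply_inv_self, ha.2 e he])⟩ }, fun σ => Iff.rfl⟩
  have hQ𝔸 : Q ≤ Γ.𝔸 E := fun σ hσ => ((hT σ).1 ((hQ σ).1 hσ).1).1
  have hQp : IsPGroup p Q := (isPGroup_stab hY E C C).to_le fun σ hσ => by
    obtain ⟨hσT, hσC⟩ := (hQ σ).1 hσ
    refine mem_stab.2 ⟨fun e he => by rw [hσC e he]; exact he, fun e he => by rw [hσC e he]; exact he,
      fun e he => by rw [hσC e he, inv_mul_cancel]; exact Subgroup.one_mem _,
      fun e he => by rw [hσC e he, inv_mul_cancel]; exact Subgroup.one_mem _, ((hT σ).1 hσT).2⟩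
  have hQT : Q ≤ autY E := by
    have hnorm : autY E ≤ Subgroup.normalizer (Q : Set (MulAut E)) := by
      intro u hu
      refine Subgroup.mem_normalizer_fintype fun q hq => ?_
      have hu𝔸 := h.conj E hE hu
      refine (hQ _).2 ⟨hTn u hu𝔸 q ((hQ q).1 hq).1, fun e he => ?_⟩
      rw [MulAut.mul_apply, MulAut.mul_apply, ((hQ q).1 hq).2 _ (hCi _ (Subgroup.inv_mem _ hu𝔸) e he),
        MulAut.apply_inv_self]
    exact le_sup_left.trans (h.max E hE (Q ⊔ autY E) (sup_le hQ𝔸 (h.conj E hE))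
      (hQp.to_sup_of_normal_left' (h.autY_isPGroup hE) hnorm) le_sup_right)
  obtain ⟨κ, hκ⟩ : ∃ κ, κ = (τ * W)⁻¹ * (W * τ) := ⟨_, rfl⟩
  have hκQ : κ ∈ Q := by
    refine (hQ _).2 ⟨hκ ▸ T.mul_mem (T.inv_mem (T.mul_mem hτT' hWT)) (T.mul_mem hWT hτT'),
      fun e he => ?_⟩
    refine (τ * W).injective ?_
    rw [hκ, ← MulAut.mul_apply, mul_inv_cancel_left, MulAut.mul_apply, MulAut.mul_apply,
      hWC _ (hCi τ hτ e he), hWC e he, map_inv]
  have hκ1 : κ = 1 := by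
    obtain ⟨g, hg⟩ := mem_autY.1 (hQT hκQ)
    obtain ⟨d, hd, i, rfl⟩ := decomp (p := p) (H := (⊤ : Subgroup Y)) (D := E) le_top
      (by rw [Subgroup.relIndex_top_right]; exact h.idx E hE)
      (fun g _ y hy => h.conj_mem hE g hy) (Subgroup.mem_top s) hS.sE hS.sp (Subgroup.mem_top g)
    have hτi : ∀ e : E, ((τ ^ i) e : Y) = s ^ i * e * (s ^ i)⁻¹ := fun e => by
      clear hg
      induction i with
      | zero => simp
      | succ j ih => rw [pow_succ', MulAut.mul_apply, hτv, ih, pow_succ']; group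
    have hκτ : κ = τ ^ i := MulEquiv.ext fun e => Subtype.ext (by
      rw [hg, show d * s ^ i * (e : Y) * (d * s ^ i)⁻¹ = d * (s ^ i * e * (s ^ i)⁻¹) * d⁻¹ by group,
        ← hτi, hel.1 d hd _ ((τ ^ i) e).2, mul_inv_cancel_right])
    have hr' : ∀ j : ℕ, (τ ^ j) R0 = R0 * Z0⁻¹ ^ j := by
      intro j
      induction j with
      | zero => simp
      | succ j ih =>
        rw [pow_succ', MulAut.mul_apply, ih, map_mul, map_pow, map_inv, hτr, hτfix Z0 (hZ0 ▸ hzG),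
          mul_assoc, ← pow_succ']
    have h1 := ((hQ κ).1 hκQ).2 R0 (hR0 ▸ hrC)
    rw [hκτ, hr', mul_eq_left, inv_pow, inv_eq_one] at h1
    have h2 := congrArg Subtype.val h1
    rw [SubgroupClass.coe_pow, hZ0, Subgroup.coe_one, ← orderOf_dvd_iff_pow_eq_one,
      orderOf_eq_prime hzp hz] at h2
    obtain ⟨i', rfl⟩ := h2
    have hτp : τ ^ p = 1 := MulEquiv.ext fun e => Subtype.ext (by
      have hτi' : ∀ j : ℕ, ((τ ^ j) e : Y) = s ^ j * e * (s ^ j)⁻¹ := fun j => by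
        induction j with
        | zero => simp
        | succ j ih => rw [pow_succ', MulAut.mul_apply, hτv, ih, pow_succ']; group
      rw [hτi', hS.sp]; simp)
    rw [hκτ, pow_mul, hτp, one_pow]
  have hcommute : W * τ = τ * W := by
    rw [hκ] at hκ1
    exact (inv_mul_eq_one.1 hκ1).symm
  obtain ⟨ρ, hρ⟩ : ∃ ρ : E, ρ = V0⁻¹ * W V0 := ⟨_, rfl⟩
  obtain ⟨ρ0, hρ0⟩ : ∃ ρ0 : E, ρ0 = V0⁻¹ * τ V0 := ⟨_, rfl⟩
  have hρC : (ρ : Y) ∈ C := by rw [hρ]; simpa using ((hT W).1 hWT).2 V0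
  have hρ0C : (ρ0 : Y) ∈ C := by rw [hρ0]; simpa using hτstep.1
  have hWv : W V0 = V0 * ρ := by rw [hρ, mul_inv_cancel_left]
  have hτv0 : τ V0 = V0 * ρ0 := by rw [hρ0, mul_inv_cancel_left]
  have h1 : W (τ V0) = τ (W V0) := by rw [← MulAut.mul_apply, hcommute]; rfl
  rw [hτv0, hWv, map_mul, map_mul, hWv, hτv0, hWC ρ0 hρ0C, mul_assoc, mul_assoc,
    mul_right_inj] at h1
  obtain ⟨i, hi, -⟩ := hτpow ρ hρC
  rw [hi, ← mul_assoc, (hcomm ρ0 ρ).eq, mul_assoc, mul_right_inj] at h1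
  have h2 : ρ0 ^ 2 = (Z0⁻¹ ^ i)⁻¹ := by
    rw [eq_inv_iff_mul_eq_one, pow_two, mul_assoc, ← h1, mul_inv_cancel]
  refine hτstep.2 ?_
  have h3 : ((ρ0 : Y)) ^ 2 ∈ G := by
    rw [← SubgroupClass.coe_pow, h2, Subgroup.coe_inv, SubgroupClass.coe_pow, Subgroup.coe_inv, hZ0]
    exact G.inv_mem (G.pow_mem (G.inv_mem hzG) i)
  have h4 := mem_of_pow_mem (p := p) (C := G) (by rw [hel.2 _ ρ0.2]; exact G.one_mem)
    (fun hd => h.podd ((Nat.prime_dvd_prime_iff_eq hpp Nat.prime_two).1 hd)) h3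
  rw [hρ0] at h4
  simpa using h4

end CfsgLib.RankThreeAmalgam
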