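import Cfsg.Agent.Lib.Fusion.RankThreeAmalgam.Elem

/-!
An elementary abelian normal subgroup of order at most `p ^ 3` of a `p`-group.
-/

set_option autoImplicit false
set_option linter.style.haveILetI false
set_option linter.unusedSectionVars false

namespace CfsgLib.RankThreeAmalgam

open Cfsg CfsgLib.RankThree
open scoped commutatorElement

variable {Q : Type*} [Group Q]

/-- Two elements acting alike on `M` differ by an element centralising it. -/
theorem commute_of_conj_eq {M : Subgroup Q} (hM : M.Normal) {x y : Q}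
    (h : ∀ m ∈ M, x * m * x⁻¹ = y * m * y⁻¹) {m : Q} (hm : m ∈ M) : Commute (x * y⁻¹) m := by
  have hb : y⁻¹ * m * y ∈ M := by simpa using hM.conj_mem m hm y⁻¹
  have h1 : x * (y⁻¹ * m * y) * x⁻¹ = m := by
    rw [h _ hb]; group
  calc x * y⁻¹ * m = x * (y⁻¹ * m * y) * x⁻¹ * (x * y⁻¹) := by group
    _ = m * (x * y⁻¹) := by rw [h1]

/-- Commutators of elements translating `M` into their common fixed points centralise `M`. -/
theorem comm_trivial {M N : Subgroup Q} (hM : M.Normal) {H : Set Q}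
    (hstep : ∀ g ∈ H, ∀ m ∈ M, m⁻¹ * (g * m * g⁻¹) ∈ N) (hfix : ∀ g ∈ H, ∀ n ∈ N, g * n = n * g)
    (hNc : ∀ a ∈ N, ∀ b ∈ N, a * b = b * a) {g h : Q} (hg : g ∈ H) (hh : h ∈ H) {m : Q} (hm : m ∈ M) :
    Commute ⁅g, h⁆ m := by
  rw [show ⁅g, h⁆ = g * h * (h * g)⁻¹ by rw [commutatorElement_def]; group]
  refine commute_of_conj_eq hM (fun m hm => ?_) hm
  obtain ⟨u, hu, hgu⟩ : ∃ u ∈ N, g * m * g⁻¹ = m * u :=
    ⟨_, hstep g hg m hm, by rw [mul_inv_cancel_left]⟩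
  obtain ⟨w, hw, hhw⟩ : ∃ w ∈ N, h * m * h⁻¹ = m * w :=
    ⟨_, hstep h hh m hm, by rw [mul_inv_cancel_left]⟩
  calc g * h * m * (g * h)⁻¹ = g * (h * m * h⁻¹) * g⁻¹ := by group
    _ = g * m * g⁻¹ * (g * w * g⁻¹) := by rw [hhw]; group
    _ = m * u * w := by rw [hgu, hfix g hg w hw, mul_inv_cancel_right]
    _ = m * w * u := by rw [mul_assoc, hNc u hu w hw, mul_assoc]
    _ = h * m * h⁻¹ * (h * u * h⁻¹) := by rw [hhw, hfix h hh u hu, mul_inv_cancel_right]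
    _ = h * (g * m * g⁻¹) * h⁻¹ := by rw [hgu]; group
    _ = h * g * m * (h * g)⁻¹ := by group

variable {p : ℕ} [hp : Fact p.Prime]

/-- A power `p` undoes two steps. -/
theorem conj_pow_fix (hp2 : p ≠ 2) {g x u d : Q} (h1 : g * x * g⁻¹ = x * u)
    (h2 : g * u * g⁻¹ = u * d) (h3 : g * d * g⁻¹ = d) (hud : Commute u d) (hu : u ^ p = 1)
    (hd : d ^ p = 1) : g ^ p * x = x * g ^ p := by
  have key : ∀ n : ℕ, g ^ n * x * (g ^ n)⁻¹ = x * u ^ n * d ^ n.choose 2 := by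
    intro n
    induction n with
    | zero => simp
    | succ n ih =>
      calc g ^ (n + 1) * x * (g ^ (n + 1))⁻¹ = g * (g ^ n * x * (g ^ n)⁻¹) * g⁻¹ := by
            rw [pow_succ']; group
        _ = g * x * g⁻¹ * (g * u * g⁻¹) ^ n * (g * d * g⁻¹) ^ n.choose 2 := by
            rw [ih, conj_pow, conj_pow]; group
        _ = x * u * (u * d) ^ n * d ^ n.choose 2 := by rw [h1, h2, h3]
        _ = x * (u * u ^ n) * (d ^ n * d ^ n.choose 2) := by rw [hud.mul_pow]; group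
        _ = x * u ^ (n + 1) * d ^ (n + 1).choose 2 := by
            rw [← pow_succ', ← pow_add, Nat.choose_succ_succ n 1, Nat.choose_one_right]
  obtain ⟨j, hj⟩ := hp.out.dvd_choose_self (k := 2) two_ne_zero
    (lt_of_le_of_ne hp.out.two_le hp2.symm)
  have h := key p
  rw [hu, hj, pow_mul, hd, one_pow, mul_one, mul_one] at h
  calc g ^ p * x = g ^ p * x * (g ^ p)⁻¹ * g ^ p := by group
    _ = x * g ^ p := by rw [h]

variable [Finite Q]

theorem commutator_top_card_le (hQ : IsPGroup p Q) {M : Subgroup Q} (hM : M.Normal) {n : ℕ}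
    (hc : Nat.card M ≤ p ^ (n + 1)) : Nat.card ↥(⁅(⊤ : Subgroup Q), M⁆) ≤ p ^ n := by
  haveI := hM
  have hle : ⁅(⊤ : Subgroup Q), M⁆ ≤ M := Subgroup.commutator_le_right ⊤ M
  by_cases h : ∀ x ∈ M, x ∈ ⁅(⊤ : Subgroup Q), M⁆
  · have hl : ∀ i, M ≤ Subgroup.lowerCentralSeries (⊤ : Subgroup Q) i := fun i => by
      induction i with
      | zero => exact le_top
      | succ i ih =>
        intro x hx
        rw [Subgroup.lowerCentralSeries_succ, Subgroup.commutator_comm]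
        exact Subgroup.commutator_mono le_rfl ih (h x hx)
    haveI := hQ.isNilpotent
    obtain ⟨i, hi⟩ := Subgroup.nilpotent_iff_lowerCentralSeries.1 (inferInstance : Group.IsNilpotent Q)
    rw [show ⁅(⊤ : Subgroup Q), M⁆ = ⊥ from le_bot_iff.1 (hle.trans ((hl i).trans hi.le)),
      Subgroup.card_bot]
    exact Nat.one_le_pow _ _ hp.out.pos
  · push Not at h
    obtain ⟨w, hw, hwn⟩ := h
    have h1 := (card_mul_le hQ hle hw hwn).trans hc
    rw [pow_succ'] at h1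
    exact Nat.le_of_mul_le_mul_left h1 hp.out.pos

/-- A central series of `K` with factors of order at most `p`. -/
structure Series (p : ℕ) (K A c : Subgroup Q) : Prop where
  Kn : K.Normal
  An : A.Normal
  cn : c.Normal
  Ale : A ≤ K
  cle : c ≤ A
  comm : ∀ a ∈ K, ∀ b ∈ K, a * b = b * a
  pow : ∀ a ∈ K, a ^ p = 1
  stepK : ∀ g : Q, ∀ k ∈ K, k⁻¹ * (g * k * g⁻¹) ∈ A
  stepA : ∀ g : Q, ∀ a ∈ A, a⁻¹ * (g * a * g⁻¹) ∈ c
  fix : ∀ g : Q, ∀ d ∈ c, g * d = d * g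
  cardA : Nat.card A ≤ p ^ 2
  cardc : Nat.card c ≤ p

theorem exists_series (hQ : IsPGroup p Q) (hr : Cfsg.SectionalPRankLE p 3 Q) {K : Subgroup Q}
    (hn : K.Normal) (hK : Elem p K) : ∃ A c : Subgroup Q, Series p K A c := by
  haveI := hn
  obtain ⟨A, hA⟩ : ∃ A, A = ⁅(⊤ : Subgroup Q), K⁆ := ⟨_, rfl⟩
  haveI hAn : A.Normal := hA ▸ inferInstance
  obtain ⟨c, hc⟩ : ∃ c, c = ⁅(⊤ : Subgroup Q), A⁆ := ⟨_, rfl⟩
  haveI hcn : c.Normal := hc ▸ inferInstance
  have hAc : Nat.card A ≤ p ^ 2 := hA ▸ commutator_top_card_le hQ hn (hK.card_le hr)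
  have hcc : Nat.card c ≤ p := by
    have := commutator_top_card_le (n := 1) hQ hAn hAc
    rwa [pow_one, ← hc] at this
  have hbot : ⁅(⊤ : Subgroup Q), c⁆ = ⊥ := by
    have := commutator_top_card_le (n := 0) hQ hcn (by rwa [zero_add, pow_one])
    rw [pow_zero] at this
    exact Subgroup.card_eq_one.1 (le_antisymm this Nat.card_pos)
  have hAK : A ≤ K := hA ▸ Subgroup.commutator_le_right ⊤ K
  have hstep : ∀ {M : Subgroup Q}, M.Normal → ∀ g : Q, ∀ m ∈ M,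
      m⁻¹ * (g * m * g⁻¹) ∈ ⁅(⊤ : Subgroup Q), M⁆ := by
    intro M hM g m hm
    haveI := hM
    have h1 := (inferInstance : (⁅(⊤ : Subgroup Q), M⁆).Normal).conj_mem _
      (Subgroup.commutator_mem_commutator (Subgroup.mem_top g) hm) m⁻¹
    rw [commutatorElement_def] at h1
    rwa [show m⁻¹ * (g * m * g⁻¹ * m⁻¹) * m⁻¹⁻¹ = m⁻¹ * (g * m * g⁻¹) by group] at h1
  refine ⟨A, c, hn, hAn, hcn, hAK, hc ▸ Subgroup.commutator_le_right ⊤ A, hK.1, hK.2,
    fun g k hk => hA ▸ hstep hn g k hk, fun g a ha => hc ▸ hstep hAn g a ha, fun g d hd => ?_,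
    hAc, hcc⟩
  exact commutatorElement_eq_one_iff_mul_comm.1 (Subgroup.mem_bot.1 (hbot.le
    (Subgroup.commutator_mem_commutator (Subgroup.mem_top g) hd)))

namespace Series

variable {K A c : Subgroup Q} (hs : Series p K A c)

include hs

theorem le : c ≤ K := hs.cle.trans hs.Ale

theorem conjA (g : Q) {k : Q} (hk : k ∈ K) : ∃ u ∈ A, g * k * g⁻¹ = k * u :=
  ⟨_, hs.stepK g k hk, by rw [mul_inv_cancel_left]⟩

theorem conjc (g : Q) {a : Q} (ha : a ∈ A) : ∃ d ∈ c, g * a * g⁻¹ = a * d :=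
  ⟨_, hs.stepA g a ha, by rw [mul_inv_cancel_left]⟩

theorem comm_fix (g h : Q) {a : Q} (ha : a ∈ A) : Commute ⁅g, h⁆ a :=
  comm_trivial hs.An (H := Set.univ) (fun x _ => hs.stepA x) (fun x _ => hs.fix x)
    (fun a ha b hb => hs.comm a (hs.le ha) b (hs.le hb)) (Set.mem_univ g) (Set.mem_univ h) ha

theorem comm_into (g h : Q) {k : Q} (hk : k ∈ K) : k⁻¹ * (⁅g, h⁆ * k * ⁅g, h⁆⁻¹) ∈ c := by
  haveI := hs.cn
  obtain ⟨q, hq⟩ : ∃ q, q = QuotientGroup.mk' c := ⟨_, rfl⟩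
  have hsur : Function.Surjective q := hq ▸ QuotientGroup.mk'_surjective c
  have h1 := comm_trivial (hs.Kn.map q hsur) (N := A.map q) (H := Set.univ)
    (by
      rintro x - _ ⟨m, hm, rfl⟩
      obtain ⟨y, rfl⟩ := hsur x
      exact ⟨_, hs.stepK y m hm, by simp⟩)
    (by
      rintro x - _ ⟨a, ha, rfl⟩
      obtain ⟨y, rfl⟩ := hsur x
      obtain ⟨d, hd, hda⟩ := hs.conjc y ha
      rw [← map_mul, ← map_mul, show y * a = a * d * y by rw [← hda]; group, map_mul, map_mul q a d,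
        show q d = 1 by rw [hq, QuotientGroup.mk'_apply, QuotientGroup.eq_one_iff]; exact hd,
        mul_one, map_mul])
    (by
      rintro _ ⟨a, ha, rfl⟩ _ ⟨b, hb, rfl⟩
      rw [← map_mul, ← map_mul, hs.comm a (hs.Ale ha) b (hs.Ale hb)])
    (Set.mem_univ (q g)) (Set.mem_univ (q h)) ⟨k, hk, rfl⟩
  rw [← QuotientGroup.eq_one_iff (N := c), ← QuotientGroup.mk'_apply, ← hq, map_mul, map_mul,
    map_mul, map_inv, map_inv, map_commutatorElement, h1.eq, mul_inv_cancel_right, inv_mul_cancel]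

/-- Triple commutators centralise. -/
theorem triple (g h l : Q) {k : Q} (hk : k ∈ K) : Commute ⁅l, ⁅g, h⁆⁆ k := by
  obtain ⟨w, hw⟩ : ∃ w, w = ⁅g, h⁆ := ⟨_, rfl⟩
  rw [← hw, show ⁅l, w⁆ = l * w * l⁻¹ * w⁻¹ from commutatorElement_def l w]
  refine commute_of_conj_eq hs.Kn (fun m hm => ?_) hk
  obtain ⟨a, ha, hla⟩ := hs.conjA l⁻¹ hm
  obtain ⟨d, hd, hwd⟩ : ∃ d ∈ c, w * m * w⁻¹ = m * d :=
    ⟨_, hw ▸ hs.comm_into g h hm, by rw [mul_inv_cancel_left]⟩
  rw [inv_inv] at hla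
  calc l * w * l⁻¹ * m * (l * w * l⁻¹)⁻¹ = l * (w * (l⁻¹ * m * l) * w⁻¹) * l⁻¹ := by group
    _ = l * (w * m * w⁻¹ * (w * a * w⁻¹)) * l⁻¹ := by rw [hla]; group
    _ = l * (m * (d * a)) * l⁻¹ := by
        rw [hwd, (hw ▸ hs.comm_fix g h ha : Commute w a).eq, mul_inv_cancel_right]; group
    _ = l * (m * a) * l⁻¹ * (l * d * l⁻¹) := by rw [hs.comm d (hs.le hd) a (hs.Ale ha)]; group
    _ = m * d := by rw [← hla, hs.fix l d hd, mul_inv_cancel_right]; group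
    _ = w * m * w⁻¹ := hwd.symm

/-- `p`-th powers centralise. -/
theorem pow_commute (hp2 : p ≠ 2) (g : Q) {k : Q} (hk : k ∈ K) : Commute (g ^ p) k := by
  obtain ⟨u, hu, h1⟩ := hs.conjA g hk
  obtain ⟨d, hd, h2⟩ := hs.conjc g hu
  exact conj_pow_fix hp2 h1 h2 (by rw [hs.fix g d hd, mul_inv_cancel_right])
    (hs.comm u (hs.Ale hu) d (hs.le hd)) (hs.pow u (hs.Ale hu)) (hs.pow d (hs.le hd))

/-- Below order `p ^ 3` the commutators centralise. -/
theorem comm_of_fixed (hc : c = ⊥) (g h : Q) {k : Q} (hk : k ∈ K) : Commute ⁅g, h⁆ k := by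
  refine comm_trivial hs.Kn (H := Set.univ) (fun x _ => hs.stepK x) (fun x _ a ha => ?_)
    (fun a ha b hb => hs.comm a (hs.Ale ha) b (hs.Ale hb)) (Set.mem_univ g) (Set.mem_univ h) hk
  have h1 := Subgroup.mem_bot.1 (hc.le (hs.stepA x a ha))
  rw [inv_mul_eq_one] at h1
  exact eq_mul_inv_iff_mul_eq.1 h1 |>.symm

end Series

end CfsgLib.RankThreeAmalgam
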