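import Cfsg.Agent.Lib.Fusion.RankThreeAmalgam.Triv

/-!
Invariant subgroups over the invariant subgroup.
-/

set_option autoImplicit false
set_option linter.style.haveILetI false
set_option linter.unusedSectionVars false

namespace CfsgLib.RankThreeAmalgam

open Cfsg CfsgLib.RankThree
open scoped commutatorElement

variable {Y : Type*} [Group Y] [Finite Y] {p : ℕ} [hp : Fact p.Prime] {Γ : Sys Y} {K : Subgroup Y}

/-- No invariant subgroup lies strictly between `K` and `E`. -/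
def Irr (Γ : Sys Y) (K E : Subgroup Y) : Prop :=
  ∀ C : Subgroup Y, K ≤ C → C ≤ E →
    (∀ α ∈ Γ.𝔸 E, ∀ e : E, (e : Y) ∈ C → (α e : Y) ∈ C) → C = K ∨ C = E

theorem irr_of_quot [K.Normal] {Q : Subgroup (Y ⧸ K)}
    (hirr : ∀ C : Subgroup (Y ⧸ K), C ≤ Q →
      (∀ β ∈ (Γ.quot K).𝔸 Q, ∀ b : Q, (b : Y ⧸ K) ∈ C → (β b : Y ⧸ K) ∈ C) → C = ⊥ ∨ C = Q) :
    Irr Γ K (Q.comap (QuotientGroup.mk' K)) := by
  intro C hKC hCE hCi
  have hcomap : (C.map (QuotientGroup.mk' K)).comap (QuotientGroup.mk' K) = C :=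
    Subgroup.comap_map_eq_self (by rw [QuotientGroup.ker_mk']; exact hKC)
  rcases hirr (C.map (QuotientGroup.mk' K)) (Subgroup.map_le_iff_le_comap.2 hCE) (by
      rintro β ⟨α, hα, hd⟩ b hb
      obtain ⟨e, rfl⟩ := qhom_surjective K Q b
      rw [hd]
      exact ⟨_, hCi α hα e (hcomap.le hb), rfl⟩) with h1 | h1
  · left
    rw [← hcomap, h1, MonoidHom.comap_bot, QuotientGroup.ker_mk']
  · right
    rw [← hcomap, h1]

/-- A nontrivial subgroup is not its own Frattini subgroup. -/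
theorem not_le_phi (hK0 : K ≠ ⊥) : ¬ K ≤ phi K := fun hle =>
  hK0 (gen_of_sup_phi (R := ⊥) bot_le (by rw [bot_sup_eq]; exact hle)).symm

/-- Commutators of invariant subgroups, modulo the Frattini subgroup of `K`. -/
theorem comm_invariant (hY : IsPGroup p Y) {E A B : Subgroup Y} (hA : A ≤ E) (hB : B ≤ E) (hKE : K ≤ E)
    (α : MulAut E) (hαK : ∀ e : E, (e : Y) ∈ K → (α e : Y) ∈ K)
    (hαA : ∀ e : E, (e : Y) ∈ A → (α e : Y) ∈ A) (hαB : ∀ e : E, (e : Y) ∈ B → (α e : Y) ∈ B)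
    {e : E} (he : (e : Y) ∈ ⁅A, B⁆ ⊔ phi K) : (α e : Y) ∈ ⁅A, B⁆ ⊔ phi K := by
  have h1 : ⁅A, B⁆ ⊔ phi K ≤
      (((⁅A, B⁆ ⊔ phi K).subgroupOf E).comap α.toMonoidHom).map E.subtype := by
    refine sup_le ?_ fun y hy => ?_
    · rw [Subgroup.commutator_le]
      intro a ha b hb
      refine ⟨⁅(⟨a, hA ha⟩ : E), ⟨b, hB hb⟩⁆, Subgroup.mem_sup_left ?_, by simp [commutatorElement_def]⟩
      rw [show α.toMonoidHom ⁅(⟨a, hA ha⟩ : E), ⟨b, hB hb⟩⁆ = ⁅α ⟨a, hA ha⟩, α ⟨b, hB hb⟩⁆ from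
        map_commutatorElement α _ _]
      have := Subgroup.commutator_mem_commutator (hαA ⟨a, hA ha⟩ ha) (hαB ⟨b, hB hb⟩ hb)
      simpa [commutatorElement_def] using this
    · exact ⟨⟨y, hKE (phi_le K hy)⟩, Subgroup.mem_sup_right
        (phi_invariant_of (p := p) hY hKE α hαK (e := ⟨y, hKE (phi_le K hy)⟩) hy), rfl⟩
  obtain ⟨e', he', hee⟩ := h1 he
  exact (Subtype.ext hee : e' = e) ▸ he'

/-- The invariant subgroup `E ⊓ C` for `C` centralising `K / Φ(K)`. -/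
theorem Sys.Inv.actKer_inter (hK : Γ.Inv K) (hY : IsPGroup p Y) [(phi K).Normal] {E : Subgroup Y}
    (hE : E ∈ Γ.ℰ) {α : MulAut E} (hα : α ∈ Γ.𝔸 E) {e : E} (he : (e : Y) ∈ E ⊓ actKer K) :
    (α e : Y) ∈ E ⊓ actKer K :=
  ⟨(α e).2, actKer_invariant (p := p) hY (hK.le E hE) α (hK.A E hE α hα)
    (hK.A E hE _ ((Γ.𝔸 E).inv_mem hα)) he.2⟩

/-- Conjugates of a member exhaust the group with one further element. -/
theorem le_of_member_le {E R : Subgroup Y} (hi : E.index = p) (hE : E ≤ R) {g : Y} (hgR : g ∈ R)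
    (hg : g ∉ E) : ∀ y : Y, y ∈ R :=
  fun y => (eq_of_prime_index hi hE hgR hg).ge (Subgroup.mem_top y)

end CfsgLib.RankThreeAmalgam
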