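import Cfsg.Agent.Lib.Fusion.RankThreeAmalgam.Moving
import Cfsg.Agent.Lib.Fusion.RankThreeAmalgam.Outcomes
import Cfsg.Agent.Lib.Fusion.RankThreeAmalgam.Sp4Shape
import Cfsg.Agent.Lib.Fusion.RankThreeAmalgam.FusionLink

/-!
A family without core of sectional rank exactly three lives on a Sylow subgroup of `Sp_4(p)`.
-/

set_option autoImplicit false
set_option linter.style.haveILetI false
set_option linter.unusedSectionVars false

namespace CfsgLib.RankThreeAmalgam

open Cfsg Cfsg.FusionSystem CfsgLib.Fusion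

variable {Y : Type*} [Group Y] [Finite Y] {p : ℕ} [hp : Fact p.Prime]

theorem Sys.Good.exists_shape {Γ : Sys Y} (h : Γ.Good p) (hne : Γ.ℰ.Nonempty) (hcore : Γ.NoCore) :
    ∃ E ∈ Γ.ℰ, ∃ E' ∈ Γ.ℰ, ∃ G v r s, Shape p E E' G v r s ∧ Nat.card G ≤ p := by
  obtain ⟨E, hE, E', hE', hn⟩ := h.exists_not_dagger hne hcore
  obtain ⟨v, hv, hvE'⟩ := SetLike.not_le_iff_exists.1 hn
  obtain ⟨G, r, s, hS⟩ := h.shape hE hE' hv.1 hvE' hv.2.1 hv.2.2
  exact ⟨E, hE, E', hE', G, v, r, s, hS, h.shape_small hcore hE' hS⟩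

/-- The outcome of a family without core. -/
theorem Sys.Good.sp4_or_rank_two {Γ : Sys Y} (h : Γ.Good p) (hne : Γ.ℰ.Nonempty) (hcore : Γ.NoCore) :
    Cfsg.SectionalPRankLE p 2 Y ∨
      ∃ P : Sylow p ↥(Matrix.symplecticGroup (Fin 2) (ZMod p)),
        Nonempty (Y ≃* ↥(P : Subgroup ↥(Matrix.symplecticGroup (Fin 2) (ZMod p)))) := by
  obtain ⟨E, hE, E', hE', G, v, r, s, hS, hG⟩ := h.exists_shape hne hcore
  obtain ⟨k, hk⟩ := (h.pY.to_subgroup G).exists_card_eq
  have hk1 : k ≤ 1 := (Nat.pow_le_pow_iff_right hp.out.one_lt).1 (by rw [← hk, pow_one]; exact hG)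
  interval_cases k
  · exact Or.inl (hS.rank_two h.pY (h.idx E hE) (h.idx E' hE')
      (Subgroup.eq_bot_of_card_eq _ (hk.trans (pow_zero p))))
  · rw [pow_one] at hk
    exact Or.inr (hS.sp4 h.pY h.podd h.rank (h.idx E hE) (h.idx E' hE') hk
      (h.shape_comm_ne hcore hE hE' hS hk)).1

universe u

variable {Ω : Type u} [Group Ω] {S : Subgroup Ω} [Finite S] {F : FusionSystem S}

/-- A system with trivial core has a family without core. -/
theorem noCore_sysOf (hS : IsPGroup p S) (hF : F.IsSaturated p) (hO : F.core = ⊥)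
    (hn : ∀ P, F.IsEssential p P → S ≤ Subgroup.normalizer (P : Set Ω)) :
    (sysOf F {P | F.IsEssential p P}).NoCore := by
  intro R hB hle hA
  have hQ : F.IsNormal (up R) := by
    refine isNormal_of_generators hS hF (up_le R) fun P hP => ?_
    rcases hP with hPS | hP
    · subst hPS
      refine ⟨up_le R, fun α hα x hx => ?_⟩
      obtain ⟨y, hy, rfl⟩ := hx
      exact ⟨α y, hB α hα y hy, (autFun_coe α y).symm⟩
    · have hPS := hP.1.1
      have hup : up (P.subgroupOf S) = P := Subgroup.map_subgroupOf_eq_of_le hPS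
      have hmem : P.subgroupOf S ∈ (sysOf F {P | F.IsEssential p P}).ℰ := by
        show F.IsEssential p (up (P.subgroupOf S))
        rwa [hup]
      refine ⟨fun x hx => ?_, fun α hα x hx => ?_⟩
      · obtain ⟨y, hy, rfl⟩ := hx
        exact hle _ hmem hy
      · obtain ⟨y, hy, rfl⟩ := hx
        have hyP : y ∈ P.subgroupOf S := hle _ hmem hy
        obtain ⟨ι, hι⟩ : ∃ ι : P.subgroupOf S ≃* P, ι = Subgroup.subgroupOfEquivOfLe hPS := ⟨_, rfl⟩
        obtain ⟨a, ha⟩ : ∃ a, a = (MulAut.congr ι).symm α := ⟨_, rfl⟩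
        have hav : ∀ e : P.subgroupOf S, autFun α ((e : S) : Ω) = ((a e : S) : Ω) := fun e => by
          rw [show ((e : S) : Ω) = ((ι e : P) : Ω) by rw [hι]; rfl, autFun_coe]
          have h1 : ι (a e) = α (ι e) := by
            rw [ha]
            show ι (ι.symm (α (ι e))) = _
            rw [ι.apply_symm_apply]
          rw [← h1, hι]
          rfl
        have hamem : a ∈ (sysOf F {P | F.IsEssential p P}).𝔸 (P.subgroupOf S) :=
          mem_𝔸.2 ⟨autFun α, by rw [hup]; exact (mem_autGroup_iff hPS α).1 hα, hav⟩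
        exact ⟨a ⟨y, hyP⟩, hA _ hmem a hamem ⟨y, hyP⟩ hy, (hav ⟨y, hyP⟩).symm⟩
  have h1 : up R ≤ F.core := le_sSup hQ
  rw [hO, le_bot_iff] at h1
  exact (Subgroup.map_eq_bot_iff_of_injective R S.subtype_injective).1 h1

/-- All essential subgroups normal, trivial core. -/
theorem sp4_of_normal_essentials (hp2 : p ≠ 2) (hS : IsPGroup p S)
    (hsr : Cfsg.SectionalPRankLE p 3 S ∧ ¬ Cfsg.SectionalPRankLE p 2 S)
    (hF : F.IsSaturated p) (hO : F.core = ⊥)
    (hn : ∀ P, F.IsEssential p P → S ≤ Subgroup.normalizer (P : Set Ω)) :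
    ∃ P : Sylow p ↥(Matrix.symplecticGroup (Fin 2) (ZMod p)),
      Nonempty (↥S ≃* ↥(P : Subgroup ↥(Matrix.symplecticGroup (Fin 2) (ZMod p)))) := by
  have hgood : (sysOf F {P | F.IsEssential p P}).Good p := by
    refine good_sysOf hS hF hp2 hsr.1 (fun P hP => hP) (fun P hP => hn P hP) ?_
    intro P hP Q f hf hiso
    refine isEssential_image hP hiso fun g hg => ?_
    refine mem_normalizer_of_conj_mem hiso.le_right fun y hy => ?_
    obtain ⟨x, hx, rfl⟩ := hiso.surj hy
    have hfS := hf.isIso_of_card_le (fun z hz => hf.mem hz) le_rfl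
    obtain ⟨g', hg', rfl⟩ := hfS.surj hg
    rw [← hf.map_conj hg' (hiso.le_left hx)]
    exact hiso.mem ((Subgroup.mem_normalizer_iff.1 (hn P hP hg') x).1 hx)
  have hcore := noCore_sysOf hS hF hO hn
  by_cases hne : (sysOf F {P | F.IsEssential p P}).ℰ.Nonempty
  · exact (hgood.sp4_or_rank_two hne hcore).resolve_left hsr.2
  · exfalso
    have htop := hcore ⊤ (fun φ _ y _ => Subgroup.mem_top _) (fun E hE => absurd ⟨E, hE⟩ hne)
      fun E hE => absurd ⟨E, hE⟩ hne
    refine hsr.2 fun H N _ A _ _ => ?_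
    haveI : Subsingleton S := ⟨fun a b => by
      rw [Subgroup.mem_bot.1 (htop.le (Subgroup.mem_top a)),
        Subgroup.mem_bot.1 (htop.le (Subgroup.mem_top b))]⟩
    haveI : Subsingleton (H ⧸ N) := (QuotientGroup.mk'_surjective N).subsingleton
    exact (Finite.card_le_one_iff_subsingleton.2 inferInstance).trans (Nat.one_le_pow _ _ hp.out.pos)

end CfsgLib.RankThreeAmalgam
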