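import Cfsg.Agent.Lib.Fusion.RankThreeAmalgam.Noncommuting

/-!
The conjugates of the central elements of a moving member, and the uniqueness of the moving member.
-/

set_option autoImplicit false
set_option linter.style.haveILetI false
set_option linter.unusedSectionVars false

namespace CfsgLib.RankThreeAmalgam

open Cfsg CfsgLib.Fusion CfsgLib.RankThree
open scoped commutatorElement

variable {Y : Type*} [Group Y] [Finite Y] {p : ℕ} [hp : Fact p.Prime]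

/-- The image of a subgroup of `E` under an automorphism of `E`. -/
def img {E : Subgroup Y} (α : MulAut E) (W : Subgroup Y) : Subgroup Y :=
  ((W.subgroupOf E).map α.toMonoidHom).map E.subtype

theorem img_le {E : Subgroup Y} (α : MulAut E) (W : Subgroup Y) : img α W ≤ E := by
  rintro _ ⟨e, -, rfl⟩
  exact e.2

theorem mem_img {E : Subgroup Y} {α : MulAut E} {W : Subgroup Y} {e : E} :
    (α e : Y) ∈ img α W ↔ (e : Y) ∈ W :=
  ⟨fun ⟨_, ⟨w, hw, hwe⟩, he⟩ => by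
    have h1 : α w = α e := hwe.trans (Subtype.ext he)
    exact (α.injective h1) ▸ hw, fun h => ⟨_, ⟨e, h, rfl⟩, rfl⟩⟩

theorem exists_of_mem_img {E : Subgroup Y} {α : MulAut E} {W : Subgroup Y} {v : Y}
    (hv : v ∈ img α W) : ∃ e : E, (e : Y) ∈ W ∧ (α e : Y) = v := by
  obtain ⟨_, ⟨e, he, rfl⟩, rfl⟩ := hv
  exact ⟨e, he, rfl⟩

theorem card_img {E : Subgroup Y} (α : MulAut E) {W : Subgroup Y} (hW : W ≤ E) :
    Nat.card (img α W) = Nat.card W := by
  unfold img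
  rw [Subgroup.card_map_of_injective E.subtype_injective,
    Subgroup.card_map_of_injective α.injective,
    Nat.card_congr (Subgroup.subgroupOfEquivOfLe hW).toEquiv]

theorem img_mono {E : Subgroup Y} (α : MulAut E) {W W' : Subgroup Y} (hle : W ≤ W') :
    img α W ≤ img α W' :=
  Subgroup.map_mono (Subgroup.map_mono fun _ hw => hle hw)

theorem le_img_of_invariant {E : Subgroup Y} (α : MulAut E) {W : Subgroup Y} (hW : W ≤ E)
    (hi : ∀ e : E, (e : Y) ∈ W → (α e : Y) ∈ W) : W ≤ img α W := by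
  refine (Subgroup.eq_of_le_of_card_ge (fun v hv => ?_) (card_img α hW).ge).ge
  obtain ⟨e, he, rfl⟩ := exists_of_mem_img hv
  exact hi e he

theorem Elem.img {E : Subgroup Y} (α : MulAut E) {W : Subgroup Y} (hel : Elem p W) :
    Elem p (img α W) := by
  refine ⟨fun u hu v hv => ?_, fun u hu => ?_⟩
  · obtain ⟨e, he, rfl⟩ := exists_of_mem_img hu
    obtain ⟨f, hf, rfl⟩ := exists_of_mem_img hv
    have h1 : e * f = f * e := Subtype.ext (hel.1 e he f hf)
    rw [← Subgroup.coe_mul, ← Subgroup.coe_mul, ← map_mul, ← map_mul, h1]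
  · obtain ⟨e, he, rfl⟩ := exists_of_mem_img hu
    rw [← SubgroupClass.coe_pow, ← map_pow, show e ^ p = 1 from Subtype.ext (by
      rw [SubgroupClass.coe_pow, hel.2 _ he]; rfl), map_one]
    rfl

/-- Conjugation is trivial modulo a normal subgroup iff the images commute. -/
theorem conj_step_iff {N : Subgroup Y} [N.Normal] {v w : Y} :
    v⁻¹ * (w * v * w⁻¹) ∈ N ↔ Commute (QuotientGroup.mk' N w) (QuotientGroup.mk' N v) := by
  rw [← QuotientGroup.eq_one_iff (N := N), ← QuotientGroup.mk'_apply, map_mul, map_inv, map_mul,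
    map_mul, map_inv, inv_mul_eq_one, eq_mul_inv_iff_mul_eq]
  exact ⟨fun h => h.symm, fun h => h.symm⟩

theorem comm_iff {N : Subgroup Y} [N.Normal] {v w : Y} :
    ⁅v, w⁆ ∈ N ↔ Commute (QuotientGroup.mk' N v) (QuotientGroup.mk' N w) := by
  rw [← QuotientGroup.eq_one_iff (N := N), ← QuotientGroup.mk'_apply, map_commutatorElement,
    commutatorElement_eq_one_iff_commute]

/-- No generated section `H / N` is elementary of order `p ^ 4`. -/
theorem five (hY : IsPGroup p Y) (hr : Cfsg.SectionalPRankLE p 3 Y) {N : Subgroup Y} [N.Normal]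
    (hN : Nat.card N = p) {s : Set Y} (hle : N ≤ Subgroup.closure s)
    (hc : ∀ u ∈ s, ∀ v ∈ s, ⁅u, v⁆ ∈ N) (hpw : ∀ u ∈ s, u ^ p ∈ N)
    (hcard : p ^ 5 ≤ Nat.card (Subgroup.closure s)) : False := by
  have hel : Elem p (Subgroup.closure (QuotientGroup.mk' N '' s)) := by
    refine elem_closure ?_ ?_
    · rintro _ ⟨u, hu, rfl⟩ _ ⟨v, hv, rfl⟩
      exact (comm_iff.1 (hc u hu v hv)).eq
    · rintro _ ⟨u, hu, rfl⟩
      rw [← map_pow, QuotientGroup.mk'_apply, QuotientGroup.eq_one_iff]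
      exact hpw u hu
  rw [← MonoidHom.map_closure] at hel
  have h1 := relIndex_le (N := N) (H := Subgroup.closure s) hr
    (fun g _ v hv => (inferInstance : N.Normal).conj_mem v hv g)
    (fun u hu v hv => comm_iff.2 (hel.1 _ ⟨u, hu, rfl⟩ _ ⟨v, hv, rfl⟩))
    (fun u hu => by
      rw [← QuotientGroup.eq_one_iff (N := N), ← QuotientGroup.mk'_apply, map_pow]
      exact hel.2 _ ⟨u, hu, rfl⟩)
  have h2 := (N.subgroupOf (Subgroup.closure s)).index_mul_card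
  rw [Nat.card_congr (Subgroup.subgroupOfEquivOfLe hle).toEquiv, hN] at h2
  have h3 : p ^ 5 ≤ p ^ 4 := by
    calc p ^ 5 ≤ Nat.card (Subgroup.closure s) := hcard
      _ = _ := h2.symm
      _ ≤ p ^ 3 * p := Nat.mul_le_mul_right _ h1
      _ = p ^ 4 := by ring
  exact absurd ((Nat.pow_le_pow_iff_right hp.out.one_lt).1 h3) (by norm_num)

/-- A normal subgroup of order `p` is central. -/
theorem central_of_card (hY : IsPGroup p Y) {L : Subgroup Y} [L.Normal] (hL : Nat.card L = p)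
    {z : Y} (hz : z ∈ L) (g : Y) : z * g = g * z := by
  have h1 := comm_mem_of_step hY (A := (⊥ : Subgroup Y)) (B := L) bot_le
    (by rw [Subgroup.relIndex_bot_left, hL]) z hz g
  exact commutatorElement_eq_one_iff_mul_comm.1 (Subgroup.mem_bot.1 h1)

/-- The standing hypothesis: every centre is in every member. -/
def Dagger (Γ : Sys Y) (p : ℕ) : Prop := ∀ E ∈ Γ.ℰ, ∀ E' ∈ Γ.ℰ, zeta p E ≤ E'

/-- The closure of the conjugates in `E'` of the central elements of order `p` of `E`. -/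
def conjs (Γ : Sys Y) (p : ℕ) (E E' : Subgroup Y) : Subgroup Y :=
  Subgroup.closure {w | ∃ α ∈ Γ.𝔸 E', ∃ e : E', (e : Y) ∈ zeta p E ∧ (α e : Y) = w}

namespace Sys.Good

variable {Γ : Sys Y} (h : Γ.Good p) (hdag : Dagger Γ p) {E E' : Subgroup Y}

include h hdag

theorem conj_zeta_mem (hE : E ∈ Γ.ℰ) (hE' : E' ∈ Γ.ℰ) (hm : Moving Γ p E) {α : MulAut E'}
    (hα : α ∈ Γ.𝔸 E') {e : E'} (he : (e : Y) ∈ zeta p E) : (α e : Y) ∈ E := by
  by_contra hn
  obtain ⟨G, a, y, x, c, hnc, hGi⟩ := h.exists_nc hE hE' hm (hdag E hE E' hE') hα he hn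
  exact h.no_nc hE hE' hm (hdag E hE E' hE') hnc hGi

theorem le_conjs (hE : E ∈ Γ.ℰ) (hE' : E' ∈ Γ.ℰ) : zeta p E ≤ conjs Γ p E E' := fun z hz =>
  Subgroup.subset_closure ⟨1, Subgroup.one_mem _, ⟨z, hdag E hE E' hE' hz⟩, hz, rfl⟩

theorem conjs_le (hE : E ∈ Γ.ℰ) (hE' : E' ∈ Γ.ℰ) (hm : Moving Γ p E) :
    conjs Γ p E E' ≤ E ∧ conjs Γ p E E' ≤ E' := by
  refine ⟨(Subgroup.closure_le _).2 ?_, (Subgroup.closure_le _).2 ?_⟩
  · rintro _ ⟨α, hα, e, he, rfl⟩
    exact h.conj_zeta_mem hdag hE hE' hm hα he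
  · rintro _ ⟨α, -, e, -, rfl⟩
    exact (α e).2

theorem conjs_elem (hE : E ∈ Γ.ℰ) (hE' : E' ∈ Γ.ℰ) (hm : Moving Γ p E) :
    Elem p (conjs Γ p E E') := by
  refine elem_closure ?_ ?_
  · rintro _ ⟨α, hα, e, he, rfl⟩ _ ⟨β, hβ, f, hf, rfl⟩
    have h1 := h.conj_zeta_mem hdag hE hE' hm
      ((Γ.𝔸 E').mul_mem ((Γ.𝔸 E').inv_mem hα) hβ) hf
    have h2 : e * (α⁻¹ * β) f = (α⁻¹ * β) f * e := Subtype.ext (he.2.2 _ h1)
    have h3 := congrArg α h2
    rw [map_mul, map_mul, MulAut.mul_apply, MulAut.apply_inv_self] at h3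
    exact congrArg Subtype.val h3
  · rintro _ ⟨α, hα, e, he, rfl⟩
    rw [← SubgroupClass.coe_pow, ← map_pow, show e ^ p = 1 from Subtype.ext (by
      rw [SubgroupClass.coe_pow, he.2.1]; rfl), map_one]
    rfl

theorem conjs_invariant (hE : E ∈ Γ.ℰ) (hE' : E' ∈ Γ.ℰ) (hm : Moving Γ p E) {α : MulAut E'}
    (hα : α ∈ Γ.𝔸 E') {e : E'} (he : (e : Y) ∈ conjs Γ p E E') : (α e : Y) ∈ conjs Γ p E E' := by
  obtain ⟨R, hR⟩ : ∃ R : Subgroup E', R = ((conjs Γ p E E').subgroupOf E').comap α.toMonoidHom :=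
    ⟨_, rfl⟩
  have hle : conjs Γ p E E' ≤ R.map E'.subtype := by
    refine (Subgroup.closure_le _).2 ?_
    rintro _ ⟨β, hβ, f, hf, rfl⟩
    refine ⟨β f, hR ▸ ?_, rfl⟩
    exact Subgroup.subset_closure ⟨α * β, (Γ.𝔸 E').mul_mem hα hβ, f, hf, rfl⟩
  obtain ⟨e', he', hee⟩ := hle he
  rw [← (Subtype.ext hee : e' = e)]
  rw [hR] at he'
  exact he'

theorem conjs_normal (hE : E ∈ Γ.ℰ) (hE' : E' ∈ Γ.ℰ) (hm : Moving Γ p E) :
    (conjs Γ p E E').Normal :=
  h.normal_of_invariant hE' (h.conjs_le hdag hE hE' hm).2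
    fun _ hα _ he => h.conjs_invariant hdag hE hE' hm hα he

variable (hcore : Γ.NoCore)

include hcore

/-- The orders of the centres of a moving member. -/
theorem zeta_cards (hE : E ∈ Γ.ℰ) (hm : Moving Γ p E) :
    Nat.card (zeta p E) = p ^ 2 ∧ Nat.card (zeta p (⊤ : Subgroup Y)) = p := by
  have hlt := h.zeta_top_card_lt hE hm
  obtain ⟨i, hi⟩ := (h.pY.to_subgroup (zeta p E)).exists_card_eq
  obtain ⟨j, hj⟩ := (h.pY.to_subgroup (zeta p (⊤ : Subgroup Y))).exists_card_eq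
  rw [hi, hj, Nat.pow_lt_pow_iff_right hp.out.one_lt] at hlt
  have hi3 : i ≤ 3 := (Nat.pow_le_pow_iff_right hp.out.one_lt).1 (hi ▸ h.zeta_card_le E)
  have hj0 : j ≠ 0 := by
    rintro rfl
    obtain ⟨g, hg⟩ := h.exists_notMem hE
    haveI : Nontrivial Y := ⟨⟨g, 1, fun e => hg (e ▸ E.one_mem)⟩⟩
    haveI := h.pY.center_nontrivial
    obtain ⟨w, hw, hw1, hwp, -⟩ := exists_central h.pY
      ((Subgroup.nontrivial_iff_ne_bot _).1 inferInstance : Subgroup.center Y ≠ ⊥)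
    have hwZ : w ∈ zeta p (⊤ : Subgroup Y) :=
      mem_zeta_top.2 ⟨hwp, fun y => ((Subgroup.mem_center_iff.1 hw) y).symm⟩
    rw [Subgroup.eq_bot_of_card_eq _ (hj.trans (pow_zero p))] at hwZ
    exact hw1 (Subgroup.mem_bot.1 hwZ)
  have hne3 : i ≠ 3 := by
    rintro rfl
    have hWA : ∀ E' ∈ Γ.ℰ, conjs Γ p E E' = zeta p E := fun E' hE' =>
      (Subgroup.eq_of_le_of_card_ge (h.le_conjs hdag hE hE')
        (hi ▸ (h.conjs_elem hdag hE hE' hm).card_le h.rank)).symm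
    have hbot : zeta p E = ⊥ := by
      refine hcore _ (fun φ hφ z hz => ?_) (fun E' hE' => hdag E hE E' hE')
        fun E' hE' α hα e he => ?_
      · obtain ⟨hE1, -⟩ := h.perm φ hφ E hE
        have h1 := zeta_map φ E hz
        have h2 : Elem p (zeta p E ⊔ zeta p (E.map φ.toMonoidHom)) :=
          (zeta_elem p E).sup (zeta_elem p _) fun u hu v hv => hu.2.2 v (hdag _ hE1 E hE hv)
        exact (Subgroup.eq_of_le_of_card_ge (le_sup_left : zeta p E ≤ _)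
          (hi ▸ h2.card_le h.rank)).ge (Subgroup.mem_sup_right h1)
      · rw [← hWA E' hE'] at he ⊢
        exact h.conjs_invariant hdag hE hE' hm hα he
    rw [hbot, Subgroup.card_bot] at hi
    exact absurd hi.symm (Nat.one_lt_pow (by norm_num) hp.out.one_lt).ne'
  obtain ⟨rfl, rfl⟩ : i = 2 ∧ j = 1 := by omega
  exact ⟨hi, hj.trans (pow_one p)⟩

theorem base (hE : E ∈ Γ.ℰ) (hm : Moving Γ p E) : Base p E (zeta p E) :=
  ⟨h.pY, h.podd, h.rank, zeta_elem p E, (h.zeta_cards hdag hcore hE hm).1,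
    fun w hw a ha => ha.2.2 w hw⟩

omit hdag hcore in
theorem triple_img (hE : E ∈ Γ.ℰ) {W : Subgroup Y} (hW : Triple p E (zeta p E) W) {α : MulAut E}
    (hα : α ∈ Γ.𝔸 E) : Triple p E (zeta p E) (img α W) := by
  refine ⟨hW.elem.img α, fun z hz => ?_, img_le α W, (card_img α hW.leH).trans hW.card,
    fun g hg v hv => ?_⟩
  · exact img_mono α hW.le
      (le_img_of_invariant α (zeta_le p E) (fun e he => zeta_invariant α he) hz)
  · obtain ⟨e, he, rfl⟩ := exists_of_mem_img hv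
    obtain ⟨f, hf⟩ := α.surjective ⟨g, hg⟩
    have hg' : g = (α f : Y) := by rw [hf]
    rw [hg', ← Subgroup.coe_inv, ← Subgroup.coe_mul, ← Subgroup.coe_mul, ← map_inv, ← map_mul,
      ← map_mul, mem_img]
    simpa using hW.normal f f.2 e he

/-- The elementary subgroup of order `p ^ 3` is unique. -/
theorem triple_unique (hE : E ∈ Γ.ℰ) (hm : Moving Γ p E) {W₁ W₂ : Subgroup Y}
    (h1 : Triple p E (zeta p E) W₁) (h2 : Triple p E (zeta p E) W₂) : W₁ = W₂ := by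
  by_contra hne
  have hb := h.base hdag hcore hE hm
  obtain ⟨n, hn, hnA⟩ := h1.exists_notMem hb
  obtain ⟨n', hn', hn'A⟩ := h2.exists_notMem hb
  obtain ⟨z, hz⟩ : ∃ z, z = ⁅n, n'⁆ := ⟨_, rfl⟩
  have hzA : z ∈ zeta p E := hz ▸ Triple.comm_mem hb h1 h2 hn hn'
  have hz1 : z ≠ 1 := hz ▸ Triple.comm_ne hb h1 h2 hne hn hnA hn' hn'A
  obtain ⟨L, hL⟩ : ∃ L, L = Subgroup.zpowers z := ⟨_, rfl⟩
  have hzL : z ∈ L := hL ▸ Subgroup.mem_zpowers z
  have hLA : L ≤ zeta p E := hL ▸ Subgroup.zpowers_le.2 hzA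
  have hM : ∀ u ∈ W₁ ⊔ W₂, ∀ v ∈ W₁ ⊔ W₂, ⁅u, v⁆ ∈ L := by
    haveI : (L.subgroupOf E).Normal := ⟨fun u hu g => by
      rw [Subgroup.mem_subgroupOf, Subgroup.coe_mul, Subgroup.coe_mul, Subgroup.coe_inv,
        ← (show (u : Y) * g = g * u from (hLA hu).2.2 g g.2), mul_inv_cancel_right]
      exact hu⟩
    obtain ⟨π, hπ⟩ : ∃ π : E →* E ⧸ L.subgroupOf E, π = QuotientGroup.mk' (L.subgroupOf E) :=
      ⟨_, rfl⟩
    obtain ⟨K, hK⟩ : ∃ K : Subgroup E, K = W₁.subgroupOf E ⊔ W₂.subgroupOf E := ⟨_, rfl⟩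
    have hπ1 : ∀ u v : E, ⁅(u : Y), (v : Y)⁆ ∈ L → π u * π v = π v * π u := fun u v huv => by
      rw [hπ]
      refine (comm_iff.1 ?_).eq
      simpa [Subgroup.mem_subgroupOf, commutatorElement_def] using huv
    have hgen : ∀ u, (∃ a ∈ zeta p E, u = a) ∨ u = n ∨ u = n' →
        ∀ v, (∃ a ∈ zeta p E, v = a) ∨ v = n ∨ v = n' → u ∈ E → v ∈ E → ⁅u, v⁆ ∈ L := by
      intro u hu v hv huE hvE
      rcases hu with ⟨a, ha, rfl⟩ | rfl | rfl <;> rcases hv with ⟨b, hb', rfl⟩ | rfl | rfl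
      all_goals first
        | (rw [commutatorElement_self]; exact L.one_mem)
        | exact hz ▸ hzL
        | (rw [← commutatorElement_inv, ← hz]; exact L.inv_mem hzL)
        | (rw [commutatorElement_eq_one_iff_mul_comm.2 (ha.2.2 _ hvE)]; exact L.one_mem)
        | (rw [commutatorElement_eq_one_iff_mul_comm.2 (hb'.2.2 _ huE).symm]; exact L.one_mem)
    obtain ⟨S, hS⟩ : ∃ S : Set E, S = {u : E | (∃ a ∈ zeta p E, (u : Y) = a) ∨ (u : Y) = n ∨ (u : Y) = n'} :=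
      ⟨_, rfl⟩
    have hcom : ∀ u ∈ Subgroup.closure (π '' S), ∀ v ∈ Subgroup.closure (π '' S), u * v = v * u :=
      fun u hu v hv => closure_comm (by
        rw [hS]
        rintro _ ⟨s, hs, rfl⟩ _ ⟨t, ht, rfl⟩
        exact hπ1 s t (hgen _ hs _ ht s.2 t.2)) hu hv
    have hsub : W₁ ⊔ W₂ ≤ (Subgroup.closure S).map E.subtype := by
      have hA : zeta p E ≤ (Subgroup.closure S).map E.subtype := fun a ha =>
        ⟨⟨a, ha.1⟩, Subgroup.subset_closure (hS ▸ Or.inl ⟨a, ha, rfl⟩), rfl⟩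
      rw [eq_sup_of_card h.pY h1.le hb.card h1.card hn hnA,
        eq_sup_of_card h.pY h2.le hb.card h2.card hn' hn'A]
      exact sup_le (sup_le hA (Subgroup.zpowers_le.2 ⟨⟨n, h1.leH hn⟩,
        Subgroup.subset_closure (hS ▸ Or.inr (Or.inl rfl)), rfl⟩))
        (sup_le hA (Subgroup.zpowers_le.2 ⟨⟨n', h2.leH hn'⟩,
        Subgroup.subset_closure (hS ▸ Or.inr (Or.inr rfl)), rfl⟩))
    intro u hu v hv
    obtain ⟨u', hu', rfl⟩ := hsub hu
    obtain ⟨v', hv', rfl⟩ := hsub hv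
    have h3 := hcom (π u') (by rw [← MonoidHom.map_closure]; exact ⟨u', hu', rfl⟩)
      (π v') (by rw [← MonoidHom.map_closure]; exact ⟨v', hv', rfl⟩)
    rw [hπ] at h3
    have h4 := comm_iff.2 (show Commute _ _ from h3)
    simpa [Subgroup.mem_subgroupOf, commutatorElement_def] using h4
  have hLi : ∀ α ∈ Γ.𝔸 E, ∀ e : E, (e : Y) ∈ L → (α e : Y) ∈ L := by
    intro α hα
    have hmem : ∀ {W}, Triple p E (zeta p E) W → ∀ e : E, (e : Y) ∈ W → (α e : Y) ∈ W₁ ⊔ W₂ :=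
      fun hW e he => Triple.third hb h1 h2 (h.triple_img hE hW hα) hne (mem_img.2 he)
    intro e he
    rw [hL] at he
    obtain ⟨m, hm'⟩ := Subgroup.mem_zpowers_iff.1 he
    have he' : e = ⁅(⟨n, h1.leH hn⟩ : E), ⟨n', h2.leH hn'⟩⁆ ^ m := Subtype.ext (by
      rw [← hm', hz]; simp [commutatorElement_def])
    rw [he', map_zpow, map_commutatorElement, SubgroupClass.coe_zpow]
    refine L.zpow_mem ?_ m
    simpa [commutatorElement_def] using hM _ (hmem h1 ⟨n, h1.leH hn⟩ hn) _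
      (hmem h2 ⟨n', h2.leH hn'⟩ hn')
  have hLn := h.normal_of_invariant hE (hLA.trans (zeta_le p E)) hLi
  have hLc : Nat.card L = p := by
    rw [hL, Nat.card_zpowers, orderOf_eq_prime hzA.2.1 hz1]
  have hzZ : z ∈ zeta p (⊤ : Subgroup Y) :=
    mem_zeta_top.2 ⟨hzA.2.1, central_of_card h.pY hLc hzL⟩
  have hLZ : L = zeta p (⊤ : Subgroup Y) :=
    Subgroup.eq_of_le_of_card_ge (hL ▸ Subgroup.zpowers_le.2 hzZ)
      (by rw [hLc, (h.zeta_cards hdag hcore hE hm).2])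
  obtain ⟨α, hα, e, he, hαe⟩ := hm
  exact hαe (hLZ ▸ hLi α hα e (hLZ ▸ he))

/-- There is only one moving member. -/
theorem moving_unique (hE : E ∈ Γ.ℰ) (hE' : E' ∈ Γ.ℰ) (hm : Moving Γ p E) (hm' : Moving Γ p E') :
    E = E' := by
  by_contra hne
  haveI := h.zeta_normal hE
  haveI := h.zeta_normal hE'
  have hcE := (h.zeta_cards hdag hcore hE hm).1
  have hcE' := (h.zeta_cards hdag hcore hE' hm').1
  have hcZ := (h.zeta_cards hdag hcore hE hm).2
  have hnA : ¬ zeta p E' ≤ zeta p E := by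
    intro hle
    have heq := Subgroup.eq_of_le_of_card_ge hle (by rw [hcE, hcE'])
    have hsub : E' ≤ E := fun g hg => h.mem_of_comm hE hm fun a ha =>
      ((heq.symm ▸ ha : a ∈ zeta p E').2.2 g hg).symm
    refine hne (Subgroup.eq_of_le_of_card_ge hsub ?_).symm
    have h1 := E.index_mul_card
    have h2 := E'.index_mul_card
    rw [h.idx E hE] at h1
    rw [h.idx E' hE', ← h1] at h2
    exact (Nat.eq_of_mul_eq_mul_left hp.out.pos h2).ge
  obtain ⟨U, hU⟩ : ∃ U, U = zeta p E ⊔ zeta p E' := ⟨_, rfl⟩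
  have hUE : U ≤ E := hU ▸ sup_le (zeta_le p E) (hdag E' hE' E hE)
  have hUel : Elem p U := hU ▸ (zeta_elem p E).sup (zeta_elem p E') fun u hu v hv =>
    hu.2.2 v (hdag E' hE' E hE hv)
  have hUn : U.Normal := hU ▸ inferInstance
  obtain ⟨b0, hb0, hb0'⟩ := SetLike.not_le_iff_exists.1 hnA
  have hUc : Nat.card U = p ^ 3 := by
    refine le_antisymm (hUel.card_le h.rank) ?_
    have h1 := card_mul_le (p := p) h.pY (hU ▸ le_sup_left : zeta p E ≤ U)
      (hU ▸ Subgroup.mem_sup_right hb0 : b0 ∈ U) hb0'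
    rw [hcE, ← pow_succ'] at h1
    exact h1
  have hUT : Triple p E (zeta p E) U :=
    ⟨hUel, hU ▸ le_sup_left, hUE, hUc, fun g _ w hw => hUn.conj_mem w hw g⟩
  have hUi : ∀ α ∈ Γ.𝔸 E, ∀ e : E, (e : Y) ∈ U → (α e : Y) ∈ U := fun α hα e he =>
    (h.triple_unique hdag hcore hE hm (h.triple_img hE hUT hα) hUT).le (mem_img.2 he)
  obtain ⟨a', ha', x, hx, hne1⟩ : ∃ a' ∈ zeta p E', ∃ x ∈ E, a' * x ≠ x * a' := by
    by_contra hc
    push Not at hc
    refine hne (Subgroup.eq_of_le_of_card_ge (fun g hg => h.mem_of_comm hE' hm'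
      fun a ha => (hc a ha g hg).symm) ?_)
    have h1 := E.index_mul_card
    have h2 := E'.index_mul_card
    rw [h.idx E hE] at h1
    rw [h.idx E' hE', ← h1] at h2
    exact (Nat.eq_of_mul_eq_mul_left hp.out.pos h2).le
  obtain ⟨Z, hZ⟩ : ∃ Z, Z = zeta p (⊤ : Subgroup Y) := ⟨_, rfl⟩
  haveI hZn : Z.Normal := ⟨fun z hz g => by
    rw [← (mem_zeta_top.1 (hZ ▸ hz)).2 g, mul_inv_cancel_right]; exact hz⟩
  have hstep : ∀ b ∈ zeta p E', ∀ g : Y, ⁅b, g⁆ ∈ Z := by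
    refine comm_mem_of_step h.pY (hZ ▸ h.top_le_zeta hE') ?_
    have h1 := (Z.subgroupOf (zeta p E')).index_mul_card
    rw [Nat.card_congr (Subgroup.subgroupOfEquivOfLe (hZ ▸ h.top_le_zeta hE')).toEquiv, hcE',
      show Nat.card Z = p by rw [hZ, hcZ], pow_two] at h1
    exact Nat.eq_of_mul_eq_mul_right hp.out.pos h1
  obtain ⟨z0, hz0⟩ : ∃ z0, z0 = ⁅a', x⁆ := ⟨_, rfl⟩
  have hz0Z : z0 ∈ Z := hz0 ▸ hstep a' ha' x
  have hz01 : z0 ≠ 1 := hz0 ▸ fun e => hne1 (commutatorElement_eq_one_iff_mul_comm.1 e)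
  have hgenZ : Z = Subgroup.zpowers z0 := by
    refine (Subgroup.eq_of_le_of_card_ge (Subgroup.zpowers_le.2 hz0Z) ?_).symm
    rw [Nat.card_zpowers, orderOf_eq_prime (mem_zeta_top.1 (hZ ▸ hz0Z)).1 hz01, hZ, hcZ]
  have hUE' : ∀ u ∈ U, ∀ e ∈ E, ⁅u, e⁆ ∈ Z := by
    intro u hu e he
    have hle : U ≤ (Subgroup.centralizer {QuotientGroup.mk' Z e}).comap (QuotientGroup.mk' Z) := by
      rw [hU]
      refine sup_le (fun v hv => ?_) fun v hv => ?_
      · exact Subgroup.mem_centralizer_singleton_iff.2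
          (by rw [← map_mul, ← map_mul, hv.2.2 e he])
      · exact Subgroup.mem_centralizer_singleton_iff.2 (comm_iff.1 (hstep v hv e)).eq
    exact comm_iff.2 (Subgroup.mem_centralizer_singleton_iff.1 (hle hu))
  obtain ⟨α, hα, e, he, hαe⟩ := hm
  have heZ : (e : Y) ∈ Subgroup.zpowers z0 := hgenZ ▸ hZ ▸ he
  obtain ⟨m, hm2⟩ := Subgroup.mem_zpowers_iff.1 heZ
  have he' : e = ⁅(⟨a', hdag E' hE' E hE ha'⟩ : E), ⟨x, hx⟩⁆ ^ m := Subtype.ext (by
    rw [← hm2, hz0]; simp [commutatorElement_def])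
  refine hαe (hZ ▸ ?_)
  rw [he', map_zpow, map_commutatorElement, SubgroupClass.coe_zpow]
  refine Z.zpow_mem ?_ m
  simpa [commutatorElement_def] using hUE' _ (hUi α hα ⟨a', hdag E' hE' E hE ha'⟩
    (hU ▸ Subgroup.mem_sup_right ha')) _ (α ⟨x, hx⟩).2

end Sys.Good

end CfsgLib.RankThreeAmalgam
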