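import Cfsg.Agent.Lib.Fusion.RankThreeAmalgam.Core

/-!
The family induced on the quotient by an invariant subgroup.
-/

set_option autoImplicit false
set_option linter.style.haveILetI false
set_option linter.unusedSectionVars false

namespace CfsgLib.RankThreeAmalgam

open Cfsg CfsgLib.RankThree
open scoped commutatorElement

variable {Y : Type*} [Group Y]

/-- The projection of the preimage of a subgroup of the quotient. -/
def qhom (K : Subgroup Y) [K.Normal] (Q : Subgroup (Y ⧸ K)) : Q.comap (QuotientGroup.mk' K) →* Q :=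
  (QuotientGroup.mk' K).subgroupComap Q

@[simp] theorem qhom_apply (K : Subgroup Y) [K.Normal] (Q : Subgroup (Y ⧸ K))
    (e : Q.comap (QuotientGroup.mk' K)) : (qhom K Q e : Y ⧸ K) = QuotientGroup.mk' K (e : Y) := rfl

theorem qhom_surjective (K : Subgroup Y) [K.Normal] (Q : Subgroup (Y ⧸ K)) :
    Function.Surjective (qhom K Q) := fun b => by
  obtain ⟨y, hy⟩ := QuotientGroup.mk'_surjective K b
  exact ⟨⟨y, show QuotientGroup.mk' K y ∈ Q from hy ▸ b.2⟩, Subtype.ext hy⟩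

/-- `β` is induced by `α`. -/
def Desc (K : Subgroup Y) [K.Normal] {Q : Subgroup (Y ⧸ K)}
    (α : MulAut (Q.comap (QuotientGroup.mk' K))) (β : MulAut Q) : Prop :=
  ∀ e, β (qhom K Q e) = qhom K Q (α e)

namespace Desc

variable {K : Subgroup Y} [K.Normal] {Q : Subgroup (Y ⧸ K)}
  {α α' : MulAut (Q.comap (QuotientGroup.mk' K))} {β β' : MulAut Q}

theorem one : Desc K (Q := Q) 1 1 := fun _ => rfl

theorem mul (h : Desc K α β) (h' : Desc K α' β') : Desc K (α * α') (β * β') := fun e => by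
  rw [MulAut.mul_apply, MulAut.mul_apply, h', h]

theorem inv (h : Desc K α β) : Desc K α⁻¹ β⁻¹ := fun e => by
  have h1 := h (α⁻¹ e)
  rw [MulAut.apply_inv_self] at h1
  rw [← h1, MulAut.inv_apply_self]

theorem pow (h : Desc K α β) (n : ℕ) : Desc K (α ^ n) (β ^ n) := by
  induction n with
  | zero => exact one
  | succ n ih => rw [pow_succ, pow_succ]; exact ih.mul h

theorem unique (h : Desc K α β) (h' : Desc K α β') : β = β' := MulEquiv.ext fun b => by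
  obtain ⟨e, rfl⟩ := qhom_surjective K Q b
  rw [h, h']

end Desc

/-- The family on the quotient. -/
def Sys.quot (Γ : Sys Y) (K : Subgroup Y) [K.Normal] : Sys (Y ⧸ K) where
  ℰ := {Q | Q.comap (QuotientGroup.mk' K) ∈ Γ.ℰ}
  𝔸 Q :=
    { carrier := {β | ∃ α ∈ Γ.𝔸 (Q.comap (QuotientGroup.mk' K)), Desc K α β}
      one_mem' := ⟨1, Subgroup.one_mem _, Desc.one⟩
      mul_mem' := fun ⟨_, ha, h⟩ ⟨_, ha', h'⟩ => ⟨_, Subgroup.mul_mem _ ha ha', h.mul h'⟩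
      inv_mem' := fun ⟨_, ha, h⟩ => ⟨_, Subgroup.inv_mem _ ha, h.inv⟩ }
  𝔹 :=
    { carrier := {ψ | ∃ φ ∈ Γ.𝔹, ∀ y, ψ (QuotientGroup.mk' K y) = QuotientGroup.mk' K (φ y)}
      one_mem' := ⟨1, Subgroup.one_mem _, fun _ => rfl⟩
      mul_mem' := fun ⟨_, ha, h⟩ ⟨_, ha', h'⟩ => ⟨_, Subgroup.mul_mem _ ha ha', fun y => by
        rw [MulAut.mul_apply, MulAut.mul_apply, h', h]⟩
      inv_mem' := fun {ψ} ⟨φ, ha, h⟩ => ⟨φ⁻¹, Subgroup.inv_mem _ ha, fun y => ψ.injective (by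
        rw [MulAut.apply_inv_self, h, MulAut.apply_inv_self])⟩ }

variable {Γ : Sys Y} {K : Subgroup Y} [K.Normal]

theorem Sys.mem_quot {Q : Subgroup (Y ⧸ K)} :
    Q ∈ (Γ.quot K).ℰ ↔ Q.comap (QuotientGroup.mk' K) ∈ Γ.ℰ := Iff.rfl

theorem Sys.mem_quot_𝔸 {Q : Subgroup (Y ⧸ K)} {β : MulAut Q} : β ∈ (Γ.quot K).𝔸 Q ↔
    ∃ α ∈ Γ.𝔸 (Q.comap (QuotientGroup.mk' K)), Desc K α β := Iff.rfl

theorem Sys.mem_quot_𝔹 {ψ : MulAut (Y ⧸ K)} : ψ ∈ (Γ.quot K).𝔹 ↔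
    ∃ φ ∈ Γ.𝔹, ∀ y, ψ (QuotientGroup.mk' K y) = QuotientGroup.mk' K (φ y) := Iff.rfl

theorem quot_rank {p k : ℕ} (hr : Cfsg.SectionalPRankLE p k Y) :
    Cfsg.SectionalPRankLE p k (Y ⧸ K) := by
  intro H N _ A hA hAp
  exact rank_of_section hr (H := H.comap (QuotientGroup.mk' K))
    (φ := (QuotientGroup.mk' N).comp (qhom K H))
    ((QuotientGroup.mk'_surjective N).comp (qhom_surjective K H)) A
    (fun a ha b hb => congrArg Subtype.val (hA.is_comm.comm ⟨a, ha⟩ ⟨b, hb⟩)) fun a ha => hAp a ha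

variable [Finite Y] {p : ℕ} [hp : Fact p.Prime]

theorem exists_desc_of_inv (hK : Γ.Inv K) {Q : Subgroup (Y ⧸ K)} (hQ : Q ∈ (Γ.quot K).ℰ)
    {α : MulAut (Q.comap (QuotientGroup.mk' K))} (hα : α ∈ Γ.𝔸 _) :
    ∃ β ∈ (Γ.quot K).𝔸 Q, Desc K α β := by
  obtain ⟨β, hβ⟩ := exists_desc (qhom_surjective K Q) (α := α) fun e he => by
    have h1 : (e : Y) ∈ K := (QuotientGroup.eq_one_iff _).1 (congrArg Subtype.val he)
    exact Subtype.ext ((QuotientGroup.eq_one_iff _).2 (hK.A _ hQ α hα e h1))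
  exact ⟨β, ⟨α, hα, hβ⟩, hβ⟩

/-- The set where `g` acts trivially modulo `Φ` absorbs `Φ`. -/
theorem triv_sup {Φ : Subgroup Y} [Φ.Normal] {g : Y}
    (h : ∀ y ∈ K, y⁻¹ * (g * y * g⁻¹) ∈ Φ) {y : Y} (hy : y ∈ K ⊔ Φ) :
    y⁻¹ * (g * y * g⁻¹) ∈ Φ := by
  have hiff : ∀ w : Y, w⁻¹ * (g * w * g⁻¹) ∈ Φ ↔
      w ∈ (Subgroup.centralizer {QuotientGroup.mk' Φ g}).comap (QuotientGroup.mk' Φ) := fun w => by
    rw [Subgroup.mem_comap, Subgroup.mem_centralizer_singleton_iff, ← QuotientGroup.eq_one_iff,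
      ← QuotientGroup.mk'_apply]
    simp only [map_mul, map_inv]
    rw [inv_mul_eq_one, eq_mul_inv_iff_mul_eq]
  have hle : K ⊔ Φ ≤ (Subgroup.centralizer {QuotientGroup.mk' Φ g}).comap (QuotientGroup.mk' Φ) := by
    refine sup_le (fun w hw => (hiff w).1 (h w hw)) fun w hw => (hiff w).1 ?_
    exact Φ.mul_mem (Φ.inv_mem hw) ((inferInstance : Φ.Normal).conj_mem w hw g)
  exact (hiff y).2 (hle hy)

theorem Sys.Inv.sup_phi (hK : Γ.Inv K) {E : Subgroup Y} (hE : E ∈ Γ.ℰ) {α : MulAut E}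
    (hα : α ∈ Γ.𝔸 E) {e : E} (he : (e : Y) ∈ K ⊔ phi E) : (α e : Y) ∈ K ⊔ phi E := by
  have h1 : K ⊔ phi E ≤ (((K ⊔ phi E).subgroupOf E).comap α.toMonoidHom).map E.subtype := by
    refine sup_le (fun y hy => ?_) fun y hy => ?_
    · exact ⟨⟨y, hK.le E hE hy⟩, Subgroup.mem_sup_left (hK.A E hE α hα ⟨y, hK.le E hE hy⟩ hy), rfl⟩
    · exact ⟨⟨y, phi_le E hy⟩,
        Subgroup.mem_sup_right (phi_invariant α (e := ⟨y, phi_le E hy⟩) hy), rfl⟩
  obtain ⟨e', he', hee⟩ := h1 he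
  exact (Subtype.ext hee : e' = e) ▸ he'

/-- The preimage of a group of automorphisms of a member of the quotient. -/
theorem exists_preimage (hK : Γ.Inv K) {Q : Subgroup (Y ⧸ K)} (hQ : Q ∈ (Γ.quot K).ℰ)
    (U : Subgroup (MulAut Q)) :
    ∃ M : Subgroup (MulAut (Q.comap (QuotientGroup.mk' K))), M ≤ Γ.𝔸 _ ∧
      (∀ α, α ∈ M ↔ α ∈ Γ.𝔸 _ ∧ ∃ β ∈ U, Desc K α β) := by
  refine ⟨{ carrier := {α | α ∈ Γ.𝔸 _ ∧ ∃ β ∈ U, Desc K α β}
            one_mem' := ⟨Subgroup.one_mem _, 1, U.one_mem, Desc.one⟩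
            mul_mem' := fun ⟨ha, _, hb, h⟩ ⟨ha', _, hb', h'⟩ =>
              ⟨Subgroup.mul_mem _ ha ha', _, U.mul_mem hb hb', h.mul h'⟩
            inv_mem' := fun ⟨ha, _, hb, h⟩ => ⟨Subgroup.inv_mem _ ha, _, U.inv_mem hb, h.inv⟩ },
    fun α hα => hα.1, fun α => Iff.rfl⟩

namespace Sys.Good

variable (h : Γ.Good p) (hK : Γ.Inv K)

include h hK

theorem desc_autY {Q : Subgroup (Y ⧸ K)} (hQ : Q ∈ (Γ.quot K).ℰ)
    {α : MulAut (Q.comap (QuotientGroup.mk' K))} (hα : α ∈ autY _) :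
    ∃ β ∈ autY Q, Desc K α β := by
  obtain ⟨g, hg⟩ := mem_autY.1 hα
  obtain ⟨β, -, hβ⟩ := exists_desc_of_inv hK hQ (h.conj _ hQ hα)
  refine ⟨β, mem_autY.2 ⟨QuotientGroup.mk' K g, fun b => ?_⟩, hβ⟩
  obtain ⟨e, rfl⟩ := qhom_surjective K Q b
  rw [hβ, qhom_apply, qhom_apply, hg, map_mul, map_mul, map_inv]

theorem quot_conj {Q : Subgroup (Y ⧸ K)} (hQ : Q ∈ (Γ.quot K).ℰ) :
    autY Q ≤ (Γ.quot K).𝔸 Q := by
  intro β hβ
  obtain ⟨b, hb⟩ := mem_autY.1 hβ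
  obtain ⟨g, rfl⟩ := QuotientGroup.mk'_surjective K b
  obtain ⟨α, hα, hαT, hαv⟩ := h.exists_conj hQ g
  refine ⟨α, hα, fun e => Subtype.ext ?_⟩
  rw [hb, qhom_apply, qhom_apply, hαv, map_mul, map_mul, map_inv]

theorem quot_max {Q : Subgroup (Y ⧸ K)} (hQ : Q ∈ (Γ.quot K).ℰ) {U : Subgroup (MulAut Q)}
    (hU : U ≤ (Γ.quot K).𝔸 Q) (hUp : IsPGroup p U) (hT : autY Q ≤ U) : U ≤ autY Q := by
  classical
  haveI := CfsgLib.Fusion.finite_mulAut (Q.comap (QuotientGroup.mk' K))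
  obtain ⟨M, hM, hMiff⟩ := exists_preimage hK hQ U
  have hTM : autY (Q.comap (QuotientGroup.mk' K)) ≤ M := fun α hα => by
    obtain ⟨β, hβ, hd⟩ := h.desc_autY hK hQ hα
    exact (hMiff α).2 ⟨h.conj _ hQ hα, β, hT hβ, hd⟩
  obtain ⟨P, hP⟩ := h.exists_sylow hQ hM hTM
  choose f hf hfd using fun α : M => ((hMiff α).1 α.2).2
  obtain ⟨ρ, hρ⟩ : ∃ ρ : M →* U, ∀ α, (ρ α : MulAut Q) = f α :=
    ⟨MonoidHom.mk' (fun α => ⟨f α, hf α⟩) fun a b =>
      Subtype.ext ((hfd (a * b)).unique ((hfd a).mul (hfd b))), fun α => rfl⟩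
  have hsur : Function.Surjective ρ := by
    rintro ⟨β, hβ⟩
    obtain ⟨α, hα, hd⟩ := hU hβ
    exact ⟨⟨α, (hMiff α).2 ⟨hα, β, hβ, hd⟩⟩, Subtype.ext ((hρ _).trans ((hfd _).unique hd))⟩
  have htop : (P : Subgroup M).map ρ = ⊤ := by
    obtain ⟨i, hi⟩ := hUp.index ((P : Subgroup M).map ρ)
    refine Subgroup.index_eq_one.1 ?_
    rw [hi]
    rcases Nat.eq_zero_or_pos i with rfl | hi0
    · rfl
    exfalso
    refine P.not_dvd_index ((dvd_pow_self p hi0.ne').trans ?_)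
    rw [← hi]
    exact (P : Subgroup M).index_map_dvd hsur
  intro β hβ
  obtain ⟨α, hαP, hαe⟩ := htop.ge (Subgroup.mem_top (⟨β, hβ⟩ : U))
  rw [SetLike.mem_coe, hP, Subgroup.mem_subgroupOf] at hαP
  obtain ⟨γ, hγ, hd⟩ := h.desc_autY hK hQ hαP
  have h1 : f α = β := by rw [← hρ, hαe]
  rwa [← h1, (hfd α).unique hd]

theorem quot_ext {Q : Subgroup (Y ⧸ K)} (hQ : Q ∈ (Γ.quot K).ℰ) {β : MulAut Q}
    (hβ : β ∈ (Γ.quot K).𝔸 Q) (hn : ∀ u ∈ autY Q, β * u * β⁻¹ ∈ autY Q) :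
    ∃ ψ ∈ (Γ.quot K).𝔹, ∀ e : Q, ψ (e : Y ⧸ K) = (β e : Y ⧸ K) := by
  obtain ⟨α, hα, hd⟩ := hβ
  obtain ⟨M, hM, hMiff⟩ := exists_preimage hK hQ (autY Q)
  have hTM : autY (Q.comap (QuotientGroup.mk' K)) ≤ M := fun x hx => by
    obtain ⟨γ, hγ, hdx⟩ := h.desc_autY hK hQ hx
    exact (hMiff x).2 ⟨h.conj _ hQ hx, γ, hγ, hdx⟩
  obtain ⟨m, hm, hmn⟩ := h.exists_adjust hQ hM hTM (α := α) fun x hx => by
    obtain ⟨hx𝔸, γ, hγ, hdx⟩ := (hMiff x).1 hx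
    exact (hMiff _).2 ⟨Subgroup.mul_mem _ (Subgroup.mul_mem _ hα hx𝔸) (Subgroup.inv_mem _ hα),
      _, hn γ hγ, (hd.mul hdx).mul hd.inv⟩
  obtain ⟨hm𝔸, γ, hγ, hdm⟩ := (hMiff m).1 hm
  obtain ⟨φ, hφ, hφv⟩ := h.ext _ hQ (m * α) (Subgroup.mul_mem _ hm𝔸 hα) hmn
  obtain ⟨ψ, hψ⟩ := exists_desc (QuotientGroup.mk'_surjective K) (α := φ) fun y hy =>
    (QuotientGroup.eq_one_iff _).2 (hK.B φ hφ y ((QuotientGroup.eq_one_iff _).1 hy))
  obtain ⟨b, hb⟩ := mem_autY.1 hγ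
  obtain ⟨g, rfl⟩ := QuotientGroup.mk'_surjective K b
  refine ⟨MulAut.conj (QuotientGroup.mk' K g)⁻¹ * ψ, Subgroup.mul_mem _
    ⟨MulAut.conj g⁻¹, h.inn g⁻¹, fun y => by simp⟩ ⟨φ, hφ, hψ⟩, fun e => ?_⟩
  obtain ⟨x, rfl⟩ := qhom_surjective K Q e
  have h1 : ψ (QuotientGroup.mk' K (x : Y)) = QuotientGroup.mk' K g *
      (β (qhom K Q x) : Y ⧸ K) * (QuotientGroup.mk' K g)⁻¹ := by
    rw [hψ, hφv, ← hb, ← MulAut.mul_apply, hdm.mul hd x, qhom_apply]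
  rw [MulAut.mul_apply, qhom_apply, h1, MulAut.conj_apply]
  group

/-- The quotient is a family. -/
theorem quot (htriv : ∀ E ∈ Γ.ℰ, ∀ g : Y, ∀ y ∈ K, y⁻¹ * (g * y * g⁻¹) ∈ phi E) :
    (Γ.quot K).Good p where
  pY := h.pY.to_quotient K
  podd := h.podd
  rank := quot_rank h.rank
  idx Q hQ := by
    rw [← Q.index_comap_of_surjective (QuotientGroup.mk'_surjective K)]
    exact h.idx _ hQ
  cen Q hQ b hb := by
    obtain ⟨g, rfl⟩ := QuotientGroup.mk'_surjective K b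
    by_contra hgQ
    haveI := h.phi_normal hQ
    have hcent : ∀ y ∈ Q.comap (QuotientGroup.mk' K), y⁻¹ * (g * y * g⁻¹) ∈ K := fun y hy => by
      rw [← QuotientGroup.eq_one_iff (N := K), ← QuotientGroup.mk'_apply]
      simp only [map_mul, map_inv]
      rw [hb _ hy, mul_inv_cancel_right, inv_mul_cancel]
    refine h.flag hQ (C₁ := K ⊔ phi _) le_sup_right le_rfl (sup_le (hK.le _ hQ) (phi_le _))
      (fun α hα e he => hK.sup_phi hQ hα he) (fun α hα e he => hK.sup_phi hQ hα he) (g := g) hgQ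
      (fun y hy => triv_sup (htriv _ hQ g) hy)
      (fun y hy => Subgroup.mem_sup_right (triv_sup (htriv _ hQ g) hy))
      fun y hy => Subgroup.mem_sup_left (hcent y hy)
  conj Q hQ := h.quot_conj hK hQ
  max Q hQ U hU hUp hT := h.quot_max hK hQ hU hUp hT
  notNormal Q hQ U hU hUp hn hT := by
    haveI := h.phi_normal hQ
    obtain ⟨M, hM, hMiff⟩ := exists_preimage hK hQ U
    refine h.no_normal_image hQ (C := K ⊔ phi _) (fun α hα e he => hK.sup_phi hQ hα he)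
      (fun g y hy => triv_sup (htriv _ hQ g) hy) hM (fun a ha x hx => ?_) (fun x hx => ?_)
      fun x hx => ?_
    · obtain ⟨hx𝔸, γ, hγ, hdx⟩ := (hMiff x).1 hx
      obtain ⟨β, hβ, hd⟩ := exists_desc_of_inv hK hQ ha
      exact (hMiff _).2 ⟨Subgroup.mul_mem _ (Subgroup.mul_mem _ ha hx𝔸) (Subgroup.inv_mem _ ha),
        _, hn β hβ γ hγ, (hd.mul hdx).mul hd.inv⟩
    · obtain ⟨γ, hγ, hdx⟩ := h.desc_autY hK hQ hx
      exact (hMiff x).2 ⟨h.conj _ hQ hx, γ, hT hγ, hdx⟩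
    · obtain ⟨-, γ, hγ, hdx⟩ := (hMiff x).1 hx
      obtain ⟨k, hk⟩ := hUp ⟨γ, hγ⟩
      refine ⟨k, fun e => Subgroup.mem_sup_left ?_⟩
      have h1 := hdx.pow (p ^ k) e
      rw [show γ ^ p ^ k = 1 from congrArg Subtype.val hk, MulAut.one_apply] at h1
      rw [← QuotientGroup.eq]
      exact congrArg Subtype.val h1
  perm := by
    rintro ψ ⟨φ, hφ, hψ⟩ Q hQ
    have hmap : (Q.map ψ.toMonoidHom).comap (QuotientGroup.mk' K) =
        (Q.comap (QuotientGroup.mk' K)).map φ.toMonoidHom := by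
      ext y
      obtain ⟨x, rfl⟩ := φ.surjective y
      constructor
      · rintro ⟨b, hb, hbe⟩
        have h1 : b = QuotientGroup.mk' K x := ψ.injective (hbe.trans (hψ x).symm)
        exact ⟨x, (show QuotientGroup.mk' K x ∈ Q by rw [← h1]; exact hb), rfl⟩
      · rintro ⟨x', hx', hxe⟩
        exact ⟨_, hx', (hψ x').trans (congrArg (QuotientGroup.mk' K) hxe)⟩
    refine ⟨show _ ∈ Γ.ℰ from hmap ▸ (h.perm φ hφ _ hQ).1, ?_⟩
    rintro β ⟨α, hα, hd⟩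
    have hQ' : (Q.map ψ.toMonoidHom).comap (QuotientGroup.mk' K) ∈ Γ.ℰ :=
      hmap ▸ (h.perm φ hφ _ hQ).1
    obtain ⟨α', hα', hα'v⟩ : ∃ α' ∈ Γ.𝔸 ((Q.map ψ.toMonoidHom).comap (QuotientGroup.mk' K)),
        ∀ (x : Q.comap (QuotientGroup.mk' K))
          (x' : (Q.map ψ.toMonoidHom).comap (QuotientGroup.mk' K)),
          (x' : Y) = φ x → (α' x' : Y) = φ (α x : Y) := by
      have key : ∀ E', E' = (Q.comap (QuotientGroup.mk' K)).map φ.toMonoidHom →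
          ∃ α' ∈ Γ.𝔸 E', ∀ (x : Q.comap (QuotientGroup.mk' K)) (x' : E'),
            (x' : Y) = φ x → (α' x' : Y) = φ (α x : Y) := by
        rintro E' rfl
        exact (h.perm φ hφ _ hQ).2 α hα
      exact key _ hmap
    obtain ⟨β', hβ', hd'⟩ := exists_desc_of_inv hK hQ' hα'
    refine ⟨β', hβ', fun b b' hbb => ?_⟩
    obtain ⟨x, rfl⟩ := qhom_surjective K Q b
    obtain ⟨x', hx'⟩ : ∃ x' : (Q.map ψ.toMonoidHom).comap (QuotientGroup.mk' K), (x' : Y) = φ x :=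
      ⟨⟨φ x, _, x.2, hψ x⟩, rfl⟩
    have h1 : b' = qhom K _ x' := Subtype.ext (by rw [hbb, qhom_apply, qhom_apply, hx', hψ])
    rw [h1, hd', hd, qhom_apply, qhom_apply, hα'v x x' hx', hψ]
  inn b := by
    obtain ⟨g, rfl⟩ := QuotientGroup.mk'_surjective K b
    exact ⟨MulAut.conj g, h.inn g, fun y => by simp⟩
  ext Q hQ β hβ hn := h.quot_ext hK hQ hβ hn
  res := by
    rintro Q hQ ψ ⟨φ, hφ, hψ⟩ hQi
    obtain ⟨α, hα, hαv⟩ := h.res _ hQ φ hφ fun e he =>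
      show QuotientGroup.mk' K (φ e) ∈ Q from hψ e ▸ hQi _ he
    obtain ⟨β, hβ, hd⟩ := exists_desc_of_inv hK hQ hα
    refine ⟨β, hβ, fun b => ?_⟩
    obtain ⟨x, rfl⟩ := qhom_surjective K Q b
    rw [hd, qhom_apply, qhom_apply, hαv, hψ]
  pB := by
    rintro ψ ⟨φ, hφ, hψ⟩ ⟨k, hk⟩
    haveI := CfsgLib.Fusion.finite_mulAut (⊤ : Subgroup Y)
    have hfo : IsOfFinOrder φ := by
      haveI : Finite (MulAut Y) :=
        Finite.of_injective (fun e : MulAut Y => (e : Y → Y)) fun a b e => MulEquiv.ext (congrFun e)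
      exact isOfFinOrder_of_finite φ
    obtain ⟨a, m, hm, ham⟩ := Nat.exists_eq_pow_mul_and_not_dvd hfo.orderOf_pos.ne' p hp.out.ne_one
    obtain ⟨c, hc1, hc2⟩ := Nat.chineseRemainder
      ((hp.out.coprime_iff_not_dvd.2 hm).pow_left k) 1 0
    have hφc : (φ ^ c) ^ p ^ a = 1 := by
      rw [← pow_mul]
      refine orderOf_dvd_iff_pow_eq_one.1 ?_
      rw [ham, mul_comm c]
      exact Nat.mul_dvd_mul_left _ (Nat.modEq_zero_iff_dvd.1 hc2)
    obtain ⟨g, hg⟩ := h.pB _ (Subgroup.pow_mem _ hφ c) ⟨a, hφc⟩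
    refine ⟨QuotientGroup.mk' K g, MulEquiv.ext fun b => ?_⟩
    obtain ⟨y, rfl⟩ := QuotientGroup.mk'_surjective K b
    have h1 : ∀ n : ℕ, (ψ ^ n) (QuotientGroup.mk' K y) = QuotientGroup.mk' K ((φ ^ n) y) := by
      intro n
      induction n with
      | zero => rfl
      | succ n ih => rw [pow_succ', pow_succ', MulAut.mul_apply, MulAut.mul_apply, ih, hψ]
    have h2 : ψ ^ c = ψ := by
      refine Eq.trans ?_ (pow_one ψ)
      exact pow_eq_pow_iff_modEq.2 (hc1.of_dvd (orderOf_dvd_of_pow_eq_one hk))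
    rw [← h2, h1, hg]
    simp

omit h in
/-- Maximality of `K` leaves no core in the quotient. -/
theorem quot_noCore (hmax : ∀ R, Γ.Inv R → R ≤ K) : (Γ.quot K).NoCore := by
  intro R hB hle hA
  have hKR : K ≤ R.comap (QuotientGroup.mk' K) := fun y hy => by
    show QuotientGroup.mk' K y ∈ R
    rw [(QuotientGroup.eq_one_iff y).2 hy |> fun e => (show QuotientGroup.mk' K y = 1 from e)]
    exact R.one_mem
  have hmapE : ∀ E ∈ Γ.ℰ, (E.map (QuotientGroup.mk' K)).comap (QuotientGroup.mk' K) = E :=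
    fun E hE => Subgroup.comap_map_eq_self (by rw [QuotientGroup.ker_mk']; exact hK.le E hE)
  have hinv : Γ.Inv (R.comap (QuotientGroup.mk' K)) := by
    refine ⟨fun φ hφ y hy => ?_, fun E hE => ?_, fun E hE α hα e he => ?_⟩
    · obtain ⟨ψ, hψ⟩ := exists_desc (QuotientGroup.mk'_surjective K) (α := φ) fun y hy =>
        (QuotientGroup.eq_one_iff _).2 (hK.B φ hφ y ((QuotientGroup.eq_one_iff _).1 hy))
      have h1 := hB ψ ⟨φ, hφ, hψ⟩ _ hy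
      rwa [hψ] at h1
    · refine (Subgroup.comap_mono (hle (E.map (QuotientGroup.mk' K)) ?_)).trans (hmapE E hE).le
      show _ ∈ Γ.ℰ
      rw [hmapE E hE]; exact hE
    · obtain ⟨Q, rfl⟩ : ∃ Q : Subgroup (Y ⧸ K), E = Q.comap (QuotientGroup.mk' K) :=
        ⟨_, (hmapE E hE).symm⟩
      obtain ⟨β, hβ, hd⟩ := exists_desc_of_inv hK hE hα
      have h1 := hA Q hE β hβ (qhom K Q e) he
      rwa [hd] at h1
  rw [← Subgroup.map_comap_eq_self_of_surjective (QuotientGroup.mk'_surjective K) R,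
    (le_antisymm (hmax _ hinv) hKR : R.comap (QuotientGroup.mk' K) = K), QuotientGroup.map_mk'_self]

end Sys.Good

end CfsgLib.RankThreeAmalgam
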