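import Cfsg.Agent.Lib.Fusion.RankThreeAmalgam.Split
import Cfsg.Agent.Lib.PGroup.RankTwoNormal

/-!
The consequences of a split pair in rank three.
-/

set_option autoImplicit false
set_option linter.style.haveILetI false
set_option linter.unusedSectionVars false

namespace CfsgLib.RankThreeAmalgam

open Cfsg CfsgLib.Fusion CfsgLib.RankThree
open scoped commutatorElement

variable {Y : Type*} [Group Y] [Finite Y] {p : ℕ} [hp : Fact p.Prime]

/-- Products of powers of two elements of order `p` generating a group of class two. -/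
theorem mul_pow_two {a X d : Y} (hXa : X * a = a * d * X) (hXd : X * d = d * X) (hda : d * a = a * d)
    (hd : d ^ p = 1) (hp2 : p ≠ 2) : (a * X) ^ p = a ^ p * X ^ p := by
  have h1 := mul_pow_formula hXa hXd (c := 1) (by rw [mul_one, hda]) (by simp) (by simp) (by simp) p
  have h2 : d ^ p.choose 2 = 1 := by
    obtain ⟨k, hk⟩ := hp.out.dvd_choose_self (show 2 ≠ 0 by norm_num)
      (by have := hp.out.two_le; omega)
    rw [hk, pow_mul, hd, one_pow]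
  rw [h1, h2, one_pow, mul_one, mul_one]

theorem exists_central {G : Subgroup Y} (hY : IsPGroup p Y) (hG : G ≠ ⊥) :
    ∃ w ∈ G, w ≠ 1 ∧ w ^ p = 1 ∧ ∀ g ∈ G, w * g = g * w := by
  haveI : Nontrivial G := (Subgroup.nontrivial_iff_ne_bot G).2 hG
  haveI := (hY.to_subgroup G).center_nontrivial
  obtain ⟨c, hc⟩ := exists_ne (1 : Subgroup.center G)
  obtain ⟨k, hk, hk'⟩ := ((hY.to_subgroup G).to_subgroup (Subgroup.center G)).nontrivial_iff_card.1
    inferInstance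
  obtain ⟨w, hw⟩ := exists_prime_orderOf_dvd_card' (G := Subgroup.center G) p
    (hk' ▸ dvd_pow_self p hk.ne')
  refine ⟨((w : G) : Y), (w : G).2, fun e => ?_, ?_, fun g hg => ?_⟩
  · have h1 : w = 1 := Subtype.ext (Subtype.ext e)
    rw [h1, orderOf_one] at hw
    exact hp.out.one_lt.ne hw
  · have h1 : w ^ p = 1 := hw ▸ pow_orderOf_eq_one w
    have h2 := congrArg (fun z : Subgroup.center G => ((z : G) : Y)) h1
    simpa using h2
  · have h1 := congrArg Subtype.val ((Subgroup.mem_center_iff.1 w.2) ⟨g, hg⟩)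
    simpa using h1.symm

namespace Shape

variable {E E' G : Subgroup Y} {v r s : Y}

theorem comm_facts (hS : Shape p E E' G v r s) :
    (∀ g ∈ G, g * r = r * g) ∧ (∀ g ∈ G, g * v = v * g) ∧ r * v = v * r ∧
      v * r * v⁻¹ = r :=
  ⟨fun g hg => (hS.rcen g (hS.GE hg)).symm, fun g hg => (hS.vcen g (hS.GE hg)).symm,
    (hS.vcen r hS.rE).symm, by rw [hS.vcen r hS.rE, mul_inv_cancel_right]⟩

theorem z_comm (hS : Shape p E E' G v r s) :
    Commute ⁅r, s⁆ r ∧ Commute ⁅r, s⁆ s ∧ Commute ⁅r, s⁆ v ∧ ⁅r, s⁆ ^ p = 1 := by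
  obtain ⟨hr, hv, -, -⟩ := hS.comm_facts
  have c1 : Commute ⁅r, s⁆ r := hr _ hS.zG
  have c2 : Commute ⁅r, s⁆ s := hS.Gs _ hS.zG
  refine ⟨c1, c2, hv _ hS.zG, ?_⟩
  have h1 : (r * (s * r⁻¹ * s⁻¹)) = ⁅r, s⁆ := by rw [commutatorElement_def]; group
  have h2 : (s * r * s⁻¹) = ⁅r, s⁆⁻¹ * r := by rw [commutatorElement_def]; group
  have h3 : (s * r * s⁻¹) ^ p = 1 := by rw [conj_pow, hS.rp, mul_one, mul_inv_cancel]
  rwa [h2, (c1.inv_left).mul_pow, hS.rp, mul_one, inv_pow, inv_eq_one] at h3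

theorem cyclic (hS : Shape p E E' G v r s) (hY : IsPGroup p Y) (hp2 : p ≠ 2)
    (hrk : Cfsg.SectionalPRankLE p 3 Y) : IsCyclic G := by
  classical
  rcases eq_or_ne G ⊥ with hbot | hbot
  · haveI : Subsingleton G := ⟨fun a b => Subtype.ext (by
      rw [Subgroup.mem_bot.1 (hbot.le a.2), Subgroup.mem_bot.1 (hbot.le b.2)])⟩
    exact isCyclic_of_subsingleton
  obtain ⟨hr, hv, hrv, -⟩ := hS.comm_facts
  obtain ⟨czr, czs, czv, hzp⟩ := hS.z_comm
  obtain ⟨w0, hw0G, hw01, hw0p, hw0c, hw0z⟩ :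
      ∃ w0 ∈ G, w0 ≠ 1 ∧ w0 ^ p = 1 ∧ (∀ g ∈ G, w0 * g = g * w0) ∧ True := by
    obtain ⟨w0, a, b, c, d⟩ := exists_central hY hbot
    exact ⟨w0, a, b, c, d, trivial⟩
  refine CfsgLib.RankTwoNormal.isCyclic_of_line hY hp2 (Z := Subgroup.zpowers w0)
    (by rw [Nat.card_zpowers, orderOf_eq_prime hw0p hw01]) fun w hw hwp => ?_
  by_contra hwn
  obtain ⟨A2, hA2⟩ : ∃ A2, A2 = Subgroup.zpowers w0 ⊔ Subgroup.zpowers w := ⟨_, rfl⟩
  have hA2G : A2 ≤ G :=
    hA2 ▸ sup_le (Subgroup.zpowers_le.2 hw0G) (Subgroup.zpowers_le.2 hw)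
  have e2 : Elem p A2 := hA2 ▸ (Elem.zpowers hw0p).sup (Elem.zpowers hwp) (by
    rintro a ha b hb
    obtain ⟨i, rfl⟩ := Subgroup.mem_zpowers_iff.1 ha
    obtain ⟨j, rfl⟩ := Subgroup.mem_zpowers_iff.1 hb
    exact ((show Commute w0 w from hw0c w hw).zpow_zpow i j).eq)
  obtain ⟨A3, hA3⟩ : ∃ A3, A3 = A2 ⊔ Subgroup.zpowers r := ⟨_, rfl⟩
  have hA3E : A3 ≤ E ⊓ E' := hA3 ▸ sup_le (hA2G.trans (le_inf hS.GE hS.GE'))
    (Subgroup.zpowers_le.2 (Subgroup.mem_inf.2 ⟨hS.rE, hS.rE'⟩))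
  have e3 : Elem p A3 := hA3 ▸ e2.sup (Elem.zpowers hS.rp) (by
    rintro a ha b hb
    obtain ⟨j, rfl⟩ := Subgroup.mem_zpowers_iff.1 hb
    exact ((show Commute a r from hr a (hA2G ha)).zpow_right j).eq)
  obtain ⟨A4, hA4⟩ : ∃ A4, A4 = A3 ⊔ Subgroup.zpowers v := ⟨_, rfl⟩
  have e4 : Elem p A4 := hA4 ▸ e3.sup (Elem.zpowers hS.vp) (by
    rintro a ha b hb
    obtain ⟨j, rfl⟩ := Subgroup.mem_zpowers_iff.1 hb
    exact ((show Commute a v from (hS.vcen a (hA3E ha).1).symm).zpow_right j).eq)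
  have h4 := e4.card_le hrk
  have c4 := card_mul_le (p := p) hY (show A3 ≤ A4 from hA4 ▸ le_sup_left)
    (show v ∈ A4 from hA4 ▸ Subgroup.mem_sup_right (Subgroup.mem_zpowers v))
    (fun hh => hS.vE' (hA3E hh).2)
  have c3 := card_mul_le (p := p) hY (show A2 ≤ A3 from hA3 ▸ le_sup_left)
    (show r ∈ A3 from hA3 ▸ Subgroup.mem_sup_right (Subgroup.mem_zpowers r))
    (fun hh => hS.rG (hA2G hh))
  have c2 := card_mul_le (p := p) hY (show Subgroup.zpowers w0 ≤ A2 from hA2 ▸ le_sup_left)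
    (show w ∈ A2 from hA2 ▸ Subgroup.mem_sup_right (Subgroup.mem_zpowers w)) hwn
  rw [Nat.card_zpowers, orderOf_eq_prime hw0p hw01] at c2
  have := hp.out.two_le
  have h5 : p ^ 4 ≤ p ^ 3 := by
    calc p ^ 4 = p * (p * (p * p)) := by ring
      _ ≤ p * (p * Nat.card A2) := Nat.mul_le_mul_left _ (Nat.mul_le_mul_left _ c2)
      _ ≤ p * Nat.card A3 := Nat.mul_le_mul_left _ c3
      _ ≤ Nat.card A4 := c4
      _ ≤ _ := h4
  exact absurd ((Nat.pow_le_pow_iff_right hp.out.one_lt).1 h5) (by norm_num)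

theorem decomp_top (hS : Shape p E E' G v r s) (hY : IsPGroup p Y) (hi : E'.index = p) (y : Y) :
    ∃ g ∈ G, ∃ i j k : ℕ, y = g * r ^ i * s ^ j * v ^ k := by
  haveI := normal_of_index hY hi
  obtain ⟨d, hd, k, rfl⟩ := decomp (le_top : E' ≤ ⊤) (by rw [Subgroup.relIndex_top_right]; exact hi)
    (fun g _ w hw => ‹E'.Normal›.conj_mem w hw g) (Subgroup.mem_top v) hS.vE' hS.vp
    (Subgroup.mem_top y)
  obtain ⟨g, hg, i, j, rfl⟩ := hS.gen' d hd
  exact ⟨g, hg, i, j, k, rfl⟩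

theorem central (hS : Shape p E E' G v r s) (hY : IsPGroup p Y) (hp2 : p ≠ 2)
    (hrk : Cfsg.SectionalPRankLE p 3 Y) (hi : E'.index = p) :
    ∀ g ∈ G, ∀ y : Y, g * y = y * g := by
  haveI := hS.cyclic hY hp2 hrk
  obtain ⟨hr, hv, -, -⟩ := hS.comm_facts
  intro g hg y
  obtain ⟨g', hg', i, j, k, rfl⟩ := hS.decomp_top hY hi y
  have c0 : Commute g g' := congrArg Subtype.val
    ((IsCyclic.commGroup (α := G)).mul_comm ⟨g, hg⟩ ⟨g', hg'⟩)
  have cr : Commute g r := hr g hg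
  have cs : Commute g s := hS.Gs g hg
  have cv : Commute g v := hv g hg
  exact (((c0.mul_right (cr.pow_right i)).mul_right (cs.pow_right j)).mul_right (cv.pow_right k)).eq

/-- The `p`th powers. -/
theorem pow_mem (hS : Shape p E E' G v r s) (hY : IsPGroup p Y) (hp2 : p ≠ 2)
    (hrk : Cfsg.SectionalPRankLE p 3 Y) (hi : E'.index = p) (y : Y) :
    ∃ n : ℤ, ∃ g ∈ G, y ^ p = ⁅r, s⁆ ^ n * g ^ p := by
  obtain ⟨g, hg, i, j, k, rfl⟩ := hS.decomp_top hY hi y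
  have hc := hS.central hY hp2 hrk hi
  obtain ⟨hr, hv, hrv, -⟩ := hS.comm_facts
  obtain ⟨czr, czs, czv, hzp⟩ := hS.z_comm
  obtain ⟨z, hz⟩ : ∃ z, z = ⁅r, s⁆ := ⟨_, rfl⟩
  rw [← hz] at czr czs czv hzp ⊢
  obtain ⟨Z, hZ⟩ : ∃ Z, Z = Subgroup.zpowers z := ⟨_, rfl⟩
  have hZG : Z ≤ G := hZ ▸ Subgroup.zpowers_le.2 (hz ▸ hS.zG)
  haveI hZn : Z.Normal := ⟨fun w hw g => by rw [← hc w (hZG hw), mul_inv_cancel_right]; exact hw⟩
  obtain ⟨π, hπ⟩ : ∃ π : Y →* Y ⧸ Z, π = QuotientGroup.mk' Z := ⟨_, rfl⟩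
  have hπ1 : ∀ w, π w = 1 ↔ w ∈ Z := fun w => hπ ▸ QuotientGroup.eq_one_iff w
  have hZp : ∀ w ∈ Z, w ^ p = 1 := fun w hw => by
    obtain ⟨n, rfl⟩ := Subgroup.mem_zpowers_iff.1 (hZ ▸ hw)
    rw [← zpow_natCast, ← zpow_mul, mul_comm, zpow_mul, zpow_natCast, hzp, one_zpow]
  have crs : Commute (π r) (π s) := by
    rw [← commutatorElement_eq_one_iff_commute, ← map_commutatorElement, hπ1, ← hz, hZ]
    exact Subgroup.mem_zpowers z
  obtain ⟨H, hH⟩ : ∃ H, H = Subgroup.closure {r, z} := ⟨_, rfl⟩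
  have hHe : Elem p H := hH ▸ elem_closure
    (by rintro a (rfl | rfl) b (rfl | rfl) <;> first | rfl | exact czr.eq | exact czr.eq.symm)
    (by rintro a (rfl | rfl); exacts [hS.rp, hzp])
  have hzH : z ∈ H := hH ▸ Subgroup.subset_closure (by simp)
  have hrH : r ∈ H := hH ▸ Subgroup.subset_closure (by simp)
  have hHX : ∀ w ∈ H, Commute (v ^ k) w := by
    intro w hw
    rw [hH] at hw
    induction hw using Subgroup.closure_induction with
    | mem w hw =>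
      rcases hw with rfl | rfl
      · exact (show Commute v w from hrv.symm).pow_left k
      · exact (czv.symm).pow_left k
    | one => exact Commute.one_right _
    | mul a b _ _ ha hb => exact ha.mul_right hb
    | inv a _ ha => exact ha.inv_right
  obtain ⟨a, ha⟩ : ∃ a, a = r ^ i * s ^ j := ⟨_, rfl⟩
  have hapow : a ^ p = 1 := by
    obtain ⟨d, hd⟩ : ∃ d, d = (r ^ i)⁻¹ * s ^ j * r ^ i * (s ^ j)⁻¹ := ⟨_, rfl⟩
    have hdZ : d ∈ Z := by
      rw [← hπ1, hd]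
      simp only [map_mul, map_inv, map_pow]
      rw [mul_assoc (π r ^ i)⁻¹, ← (crs.pow_pow i j).eq, inv_mul_cancel_left, mul_inv_cancel]
    rw [ha, mul_pow_two (d := d) (by rw [hd]; group) (hc d (hZG hdZ) _).symm
      (hc d (hZG hdZ) _) (hZp d hdZ) hp2, ← pow_mul, mul_comm i p, pow_mul, hS.rp, one_pow, ← pow_mul,
      mul_comm j p, pow_mul, hS.sp, one_pow, mul_one]
  obtain ⟨X, hX⟩ : ∃ X, X = v ^ k := ⟨_, rfl⟩
  have hvks : ∀ k : ℕ, v ^ k * s * (v ^ k)⁻¹ = s * r ^ k := by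
    intro k
    induction k with
    | zero => simp
    | succ k ih =>
      rw [show v ^ (k + 1) * s * (v ^ (k + 1))⁻¹ = v * (v ^ k * s * (v ^ k)⁻¹) * v⁻¹ by
        rw [pow_succ']; group, ih, ← conj_mul, hS.rdef, ← conj_pow,
        show v * r * v⁻¹ = r by rw [← hrv, mul_inv_cancel_right], pow_succ', mul_assoc]
  obtain ⟨d, hd⟩ : ∃ d, d = a⁻¹ * X * a * X⁻¹ := ⟨_, rfl⟩
  have hdH : d ∈ H := by
    have h1 : π d = π (r ^ (k * j)) := by
      have h2 : X * a * X⁻¹ = r ^ i * (s * r ^ k) ^ j := by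
        rw [hX, ha, ← conj_mul, ← conj_pow (b := s), hvks,
          ((hHX (r ^ i) (H.pow_mem hrH i))).eq, mul_inv_cancel_right]
      rw [hd, mul_assoc a⁻¹, mul_assoc a⁻¹, h2, ha]
      simp only [map_mul, map_inv, map_pow]
      rw [((crs.pow_left k).symm).mul_pow, ← pow_mul, ← mul_assoc (π r ^ i) (π s ^ j),
        inv_mul_cancel_left]
    have h3 : d * (r ^ (k * j))⁻¹ ∈ Z := by rw [← hπ1, map_mul, map_inv, h1, mul_inv_cancel]
    have := H.mul_mem (show d * (r ^ (k * j))⁻¹ ∈ H from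
      (hZ ▸ Subgroup.zpowers_le.2 hzH : Z ≤ H) h3) (H.pow_mem hrH (k * j))
    rwa [inv_mul_cancel_right] at this
  obtain ⟨c, hcd⟩ : ∃ c, c = d⁻¹ * a⁻¹ * d * a := ⟨_, rfl⟩
  have hcZ : c ∈ Z := by
    obtain ⟨C, hC⟩ : ∃ C, C = Subgroup.closure {π r, π s} := ⟨_, rfl⟩
    have hCc : ∀ x ∈ C, ∀ w ∈ C, x * w = w * x := fun x hx w hw => closure_comm
      (by rintro x (rfl | rfl) w (rfl | rfl) <;> first | rfl | exact crs.eq | exact crs.eq.symm)
      (hC ▸ hx) (hC ▸ hw)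
    have hr' : π r ∈ C := hC ▸ Subgroup.subset_closure (by simp)
    have hs' : π s ∈ C := hC ▸ Subgroup.subset_closure (by simp)
    have hdC : π d ∈ C := by
      have hHC : H ≤ C.comap π := by
        rw [hH, Subgroup.closure_le]
        rintro x (rfl | rfl)
        · exact hr'
        · show π x ∈ C
          rw [(hπ1 x).2 (hZ ▸ Subgroup.mem_zpowers x)]
          exact C.one_mem
      exact hHC hdH
    have haC : π a ∈ C := by
      rw [ha, map_mul, map_pow, map_pow]; exact C.mul_mem (C.pow_mem hr' i) (C.pow_mem hs' j)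
    rw [← hπ1, hcd, map_mul, map_mul, map_mul, map_inv, map_inv,
      show (π d)⁻¹ * (π a)⁻¹ * π d = (π d)⁻¹ * π d * (π a)⁻¹ by
        rw [mul_assoc, hCc _ (C.inv_mem haC) _ hdC, ← mul_assoc],
      inv_mul_cancel, one_mul, inv_mul_cancel]
  have hXp : X ^ p = 1 := by rw [hX, ← pow_mul, mul_comm, pow_mul, hS.vp, one_pow]
  have h1 := mul_pow_formula (a := a) (X := X) (d := d) (c := c) (by rw [hd]; group)
    (by rw [hX]; exact (hHX d hdH).eq) (by rw [hcd]; group) (hc c (hZG hcZ) X).symm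
    (hc c (hZG hcZ) a) (hc c (hZG hcZ) d) p
  have h2 : d ^ p.choose 2 = 1 := by
    obtain ⟨m, hm⟩ := hp.out.dvd_choose_self (show 2 ≠ 0 by norm_num)
      (by have := hp.out.two_le; omega)
    rw [hm, pow_mul, hHe.2 d hdH, one_pow]
  rw [hapow, h2, hXp, one_mul, one_mul, mul_one] at h1
  obtain ⟨n, hn⟩ := Subgroup.mem_zpowers_iff.1 (hZ ▸ Z.pow_mem hcZ (p.choose 3))
  refine ⟨n, g, hg, ?_⟩
  rw [show g * r ^ i * s ^ j * v ^ k = g * (a * X) by rw [ha, hX]; group,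
    (show Commute g (a * X) from hc g hg _).mul_pow, h1, hn]
  exact hc _ (G.pow_mem hg p) _

/-- The orders. -/
theorem cards (hS : Shape p E E' G v r s) (hY : IsPGroup p Y) (hi : E.index = p)
    (hi' : E'.index = p) :
    Nat.card E' = p ^ 2 * Nat.card G ∧ Nat.card E = p ^ 2 * Nat.card G ∧
      Nat.card Y = p ^ 3 * Nat.card G := by
  obtain ⟨hr, hv, hrv, -⟩ := hS.comm_facts
  obtain ⟨D, hD⟩ : ∃ D, D = G ⊔ Subgroup.zpowers r := ⟨_, rfl⟩
  have hDE : D ≤ E := hD ▸ sup_le hS.GE (Subgroup.zpowers_le.2 hS.rE)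
  have hDE' : D ≤ E' := hD ▸ sup_le hS.GE' (Subgroup.zpowers_le.2 hS.rE')
  have hnor : Subgroup.zpowers r ≤ Subgroup.normalizer (G : Set Y) := by
    rw [Subgroup.zpowers_le]
    refine Subgroup.mem_normalizer_fintype fun g hg => ?_
    rw [← hr g hg, mul_inv_cancel_right]
    exact hg
  have hmem : ∀ y, y ∈ D ↔ ∃ g ∈ G, ∃ i : ℤ, y = g * r ^ i := by
    intro y
    rw [hD, ← SetLike.mem_coe, Subgroup.coe_mul_of_right_le_normalizer_left _ _ hnor]
    constructor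
    · rintro ⟨g, hg, _, ⟨i, rfl⟩, rfl⟩; exact ⟨g, hg, i, rfl⟩
    · rintro ⟨g, hg, i, rfl⟩; exact ⟨g, hg, _, ⟨i, rfl⟩, rfl⟩
  have hcardD : Nat.card D = p * Nat.card G := by
    refine le_antisymm ?_ (card_mul_le hY (hD ▸ le_sup_left)
      (hD ▸ Subgroup.mem_sup_right (Subgroup.mem_zpowers r)) hS.rG)
    have hinj := Nat.card_le_card_of_surjective
      (fun x : G × Subgroup.zpowers r => (⟨(x.1 : Y) * x.2,
        (hmem _).2 ⟨x.1, x.1.2, _, congrArg ((x.1 : Y) * ·)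
          (Subgroup.mem_zpowers_iff.1 x.2.2).choose_spec.symm⟩⟩ : D))
      (by
        rintro ⟨y, hy⟩
        obtain ⟨g, hg, i, rfl⟩ := (hmem y).1 hy
        exact ⟨(⟨g, hg⟩, ⟨r ^ i, i, rfl⟩), rfl⟩)
    rw [Nat.card_prod, Nat.card_zpowers, mul_comm] at hinj
    refine hinj.trans (Nat.mul_le_mul_right _ (Nat.le_of_dvd hp.out.pos ?_))
    exact orderOf_dvd_of_pow_eq_one hS.rp
  have key : ∀ {F : Subgroup Y} {w : Y}, D ≤ F → w ∈ F → w ∉ D → w ^ p = 1 →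
      (∀ e ∈ F, ∃ d ∈ D, ∃ j : ℕ, e = d * w ^ j) → Nat.card F = p * Nat.card D := by
    intro F w hDF hw hwD hwp hgen
    refine le_antisymm ?_ (card_mul_le hY hDF hw hwD)
    have hinj := Nat.card_le_card_of_surjective
      (fun x : D × Fin p => (⟨(x.1 : Y) * w ^ (x.2 : ℕ),
        F.mul_mem (hDF x.1.2) (F.pow_mem hw _)⟩ : F))
      (by
        rintro ⟨e, he⟩
        obtain ⟨d, hd, j, rfl⟩ := hgen e he
        refine ⟨(⟨d, hd⟩, ⟨j % p, Nat.mod_lt _ hp.out.pos⟩), Subtype.ext ?_⟩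
        show d * w ^ (j % p) = d * w ^ j
        rw [← pow_eq_pow_mod j hwp])
    rw [Nat.card_prod, Nat.card_fin, mul_comm] at hinj
    exact hinj
  have hE' : Nat.card E' = p ^ 2 * Nat.card G := by
    rw [key hDE' hS.sE' (fun hh => hS.sE (hDE hh)) hS.sp (fun e he => by
      obtain ⟨g, hg, i, j, rfl⟩ := hS.gen' e he
      exact ⟨g * r ^ i, (hmem _).2 ⟨g, hg, i, by rw [zpow_natCast]⟩, j, rfl⟩), hcardD]
    ring
  have hEc : Nat.card E = p ^ 2 * Nat.card G := by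
    rw [key hDE hS.vE (fun hh => hS.vE' (hDE' hh)) hS.vp (fun e he => by
      obtain ⟨g, hg, i, j, rfl⟩ := hS.gen e he
      exact ⟨g * r ^ i, (hmem _).2 ⟨g, hg, i, by rw [zpow_natCast]⟩, j, rfl⟩), hcardD]
    ring
  refine ⟨hE', hEc, ?_⟩
  rw [← E'.index_mul_card, hi', hE']
  ring

end Shape

end CfsgLib.RankThreeAmalgam
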