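import Cfsg.Agent.Lib.Fusion.RankThreeAmalgam.Elem

/-!
A central element of order `p` of one member outside another member splits both.
-/

set_option autoImplicit false
set_option linter.style.haveILetI false
set_option linter.unusedSectionVars false

namespace CfsgLib.RankThreeAmalgam

open Cfsg Cfsg.FusionSystem CfsgLib.Fusion CfsgLib.RankThree
open scoped commutatorElement

variable {Y : Type*} [Group Y] [Finite Y] {p : ℕ} [hp : Fact p.Prime] {Γ : Sys Y}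

/-- Two members `E = ⟨G, r, v⟩` and `E' = ⟨G, r, s⟩` with `G` of index `p ^ 2` in both. -/
structure Shape (p : ℕ) (E E' G : Subgroup Y) (v r s : Y) : Prop where
  vE : v ∈ E
  vE' : v ∉ E'
  vp : v ^ p = 1
  vcen : ∀ e ∈ E, v * e = e * v
  rE : r ∈ E
  rE' : r ∈ E'
  rp : r ^ p = 1
  rcen : ∀ e ∈ E, r * e = e * r
  sE' : s ∈ E'
  sE : s ∉ E
  sp : s ^ p = 1
  rdef : v * s * v⁻¹ = s * r
  GE : G ≤ E
  GE' : G ≤ E'
  Gs : ∀ g ∈ G, g * s = s * g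
  rG : r ∉ G
  gen' : ∀ e ∈ E', ∃ g ∈ G, ∃ i j : ℕ, e = g * r ^ i * s ^ j
  gen : ∀ e ∈ E, ∃ g ∈ G, ∃ i k : ℕ, e = g * r ^ i * v ^ k
  zG : ⁅r, s⁆ ∈ G

theorem Sys.Good.shape (h : Γ.Good p) {E E' : Subgroup Y} (hE : E ∈ Γ.ℰ) (hE' : E' ∈ Γ.ℰ)
    {v : Y} (hv : v ∈ E) (hvE' : v ∉ E') (hvp : v ^ p = 1) (hvc : ∀ e ∈ E, v * e = e * v) :
    ∃ G : Subgroup Y, ∃ r s : Y, Shape p E E' G v r s := by
  classical
  haveI hnE := h.normal hE
  haveI hnE' := h.normal hE'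
  haveI := finite_mulAut E'
  have hpp := hp.out
  have hnle' : ¬ E' ≤ E := fun hle => hvE' ((Subgroup.eq_of_le_of_card_ge hle (by
    have h1 := E.index_mul_card
    have h2 := E'.index_mul_card
    rw [h.idx E hE] at h1
    rw [h.idx E' hE', ← h1] at h2
    exact (Nat.eq_of_mul_eq_mul_left hpp.pos h2).ge)).ge hv)
  have hnle : ¬ E ≤ E' := fun hle => hvE' (hle hv)
  obtain ⟨D, hD⟩ : ∃ D, D = E ⊓ E' := ⟨_, rfl⟩
  have hmemD : ∀ y, y ∈ D ↔ y ∈ E ∧ y ∈ E' := fun y => by rw [hD, Subgroup.mem_inf]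
  have hDE' : D ≤ E' := fun y hy => ((hmemD y).1 hy).2
  have hDE : D ≤ E := fun y hy => ((hmemD y).1 hy).1
  have hDn : D.Normal := by rw [hD]; infer_instance
  have hDi : D.relIndex E' = p := hD ▸ inf_relIndex hnE (h.idx E hE) hnle'
  have hDiE : D.relIndex E = p := by
    rw [hD, inf_comm]; exact inf_relIndex hnE' (h.idx E' hE') hnle
  have hphiD : phi E' ≤ D :=
    phi_le_of_index h.pY hDE' (fun e _ y hy => hDn.conj_mem y hy e) hDi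
  have hDv : ∀ y ∈ D, v * y * v⁻¹ = y := fun y hy => by
    rw [hvc y (hDE hy), mul_inv_cancel_right]
  have hvd : ∀ y ∈ E', y⁻¹ * (v * y * v⁻¹) ∈ D := fun y hy => (hmemD _).2
    ⟨by rw [← mul_assoc, ← mul_assoc]
        refine E.mul_mem ?_ (E.inv_mem hv)
        simpa using hnE.conj_mem v hv y⁻¹,
      E'.mul_mem (E'.inv_mem hy) (hnE'.conj_mem y hy v)⟩
  obtain ⟨τ, hτ𝔸, hτY, hτ⟩ := h.exists_conj hE' v
  have hgen0 : ∀ e0 ∈ E', e0 ∉ D → ∀ y ∈ E', ∃ d ∈ D, ∃ i : ℤ, y = d * e0 ^ i := by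
    intro e0 he0 he0D y hy
    obtain ⟨d, hd, z, hz, rfl⟩ := exists_decomp_of_prime hDE' hDi
      (le_normalizer_of_conj fun g _ e he => hDn.conj_mem e he g) he0 he0D
      (W := Subgroup.zpowers e0) (Subgroup.zpowers_le.2 he0) (Subgroup.mem_zpowers e0) y hy
    obtain ⟨i, hi⟩ := Subgroup.mem_zpowers_iff.1 hz
    exact ⟨d, hd, i, by rw [hi]⟩
  obtain ⟨K, hK⟩ : ∃ K : Subgroup Y,
      ∀ y, y ∈ K ↔ y ∈ E' ∧ y⁻¹ * (v * y * v⁻¹) ∈ phi E' := by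
    haveI := h.phi_normal hE'
    refine ⟨{ carrier := {y | y ∈ E' ∧ y⁻¹ * (v * y * v⁻¹) ∈ phi E'}
              one_mem' := ⟨E'.one_mem, by simp⟩
              mul_mem' := fun {a b} ha hb => ⟨E'.mul_mem ha.1 hb.1, ?_⟩
              inv_mem' := fun {a} ha => ⟨E'.inv_mem ha.1, ?_⟩ }, fun y => Iff.rfl⟩
    · rw [show (a * b)⁻¹ * (v * (a * b) * v⁻¹) =
        b⁻¹ * (a⁻¹ * (v * a * v⁻¹)) * b⁻¹⁻¹ * (b⁻¹ * (v * b * v⁻¹)) by group]
      exact Subgroup.mul_mem _ ((h.phi_normal hE').conj_mem _ ha.2 _) hb.2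
    · rw [show a⁻¹⁻¹ * (v * a⁻¹ * v⁻¹) = a * (a⁻¹ * (v * a * v⁻¹))⁻¹ * a⁻¹ by group]
      exact (h.phi_normal hE').conj_mem _ (Subgroup.inv_mem _ ha.2) _
  -- the element acts nontrivially outside `D`
  have hτne : ∀ e ∈ E', e ∉ D → e⁻¹ * (v * e * v⁻¹) ∉ phi E' := by
    intro e he heD hmem
    obtain ⟨y, hy, hne⟩ := h.act_ne hE' hvE'
    obtain ⟨d, hd, i, rfl⟩ := hgen0 e he heD y hy
    refine hne ((hK _).1 (K.mul_mem ((hK d).2 ⟨hDE' hd, by rw [hDv d hd]; simp⟩)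
      (K.zpow_mem ((hK e).2 ⟨he, hmem⟩) i))).2
  have hstabD : ∀ C : Subgroup Y, phi E' ≤ C → C ≤ D → autY E' ≤ stab E' C D →
      ∀ α : MulAut E', α ∈ Γ.𝔸 E' → α ∈ stab E' C D →
        ∀ e : E', (e : Y) ∈ D → (e : Y)⁻¹ * α e ∈ phi E' := by
    intro C _ _ hle α hα hαs e he
    obtain ⟨y, hy⟩ := mem_autY.1 (h.max E' hE' (Γ.𝔸 E' ⊓ stab E' C D) inf_le_left
      ((isPGroup_stab h.pY _ _ _).to_le inf_le_right) (le_inf (h.conj E' hE') hle)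
      (Subgroup.mem_inf.2 ⟨hα, hαs⟩))
    obtain ⟨d, hd, k, rfl⟩ : ∃ d ∈ E', ∃ k : ℕ, y = d * v ^ k :=
      decomp le_top (by rw [Subgroup.relIndex_top_right]; exact h.idx E' hE')
        (fun g _ w hw => hnE'.conj_mem w hw g) (Subgroup.mem_top v) hvE' hvp (Subgroup.mem_top y)
    have hk : ∀ k : ℕ, v ^ k * (e : Y) * (v ^ k)⁻¹ = e := fun k => by
      rw [(Commute.pow_left (hvc e (hDE he) : Commute v (e : Y)) k).eq, mul_inv_cancel_right]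
    rw [hy, show d * v ^ k * (e : Y) * (d * v ^ k)⁻¹ = d * (v ^ k * (e : Y) * (v ^ k)⁻¹) * d⁻¹ by group,
      hk, show (e : Y)⁻¹ * (d * e * d⁻¹) = ⁅(e : Y)⁻¹, d⁆ by
        rw [commutatorElement_def]; group]
    exact comm_phi h.pY (E'.inv_mem e.2) hd
  have hdiffK : ∀ α : MulAut E', ∃ K' : Subgroup Y, ∀ z, z ∈ K' ↔
      ∃ hz : z ∈ E', z⁻¹ * α ⟨z, hz⟩ ∈ phi E' := by
    intro α
    refine ⟨{ carrier := {z | ∃ hz : z ∈ E', z⁻¹ * α ⟨z, hz⟩ ∈ phi E'}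
              one_mem' := ⟨E'.one_mem, by simp [show (⟨1, E'.one_mem⟩ : E') = 1 from rfl]⟩
              mul_mem' := fun {a b} ⟨ha, ha'⟩ ⟨hb, hb'⟩ => ⟨E'.mul_mem ha hb, ?_⟩
              inv_mem' := fun {a} ⟨ha, ha'⟩ => ⟨E'.inv_mem ha, ?_⟩ }, fun z => Iff.rfl⟩
    · rw [show (⟨a * b, _⟩ : E') = ⟨a, ha⟩ * ⟨b, hb⟩ from rfl, map_mul, Subgroup.coe_mul,
        show (a * b)⁻¹ * ((α ⟨a, ha⟩ : Y) * (α ⟨b, hb⟩ : Y)) =
          b⁻¹ * (a⁻¹ * (α ⟨a, ha⟩ : Y)) * b⁻¹⁻¹ * (b⁻¹ * (α ⟨b, hb⟩ : Y)) by group]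
      exact Subgroup.mul_mem _ ((h.phi_normal hE').conj_mem _ ha' _) hb'
    · rw [show (⟨a⁻¹, _⟩ : E') = ⟨a, ha⟩⁻¹ from rfl, map_inv, Subgroup.coe_inv,
        show a⁻¹⁻¹ * (α ⟨a, ha⟩ : Y)⁻¹ = a * (a⁻¹ * (α ⟨a, ha⟩ : Y))⁻¹ * a⁻¹ by group]
      exact (h.phi_normal hE').conj_mem _ (Subgroup.inv_mem _ ha') _
  have hτfix : ∀ e : E', (e : Y) ∈ D → τ e = e := fun e he =>
    Subtype.ext (by rw [hτ, hDv e he])
  -- centres
  have hcentre : ∀ β ∈ Γ.𝔸 E', (∃ e : E', (e : Y) ∈ D ∧ (β e : Y) ∉ D) → ∀ e0 : E', (e0 : Y) ∉ D →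
      (β ((e0⁻¹ * τ e0 : E')) : Y) ∉ D := by
    intro β hβ hβD
    obtain ⟨τ', hτ'⟩ : ∃ τ', τ' = β * τ * β⁻¹ := ⟨_, rfl⟩
    have hτ'𝔸 : τ' ∈ Γ.𝔸 E' :=
      hτ' ▸ (Γ.𝔸 E').mul_mem ((Γ.𝔸 E').mul_mem hβ hτ𝔸) ((Γ.𝔸 E').inv_mem hβ)
    have hτ'v : ∀ y : E', (τ' (β y) : Y) = (β (τ y) : E') := fun y => by
      rw [hτ', MulAut.mul_apply, MulAut.mul_apply, MulAut.inv_apply_self]
    intro e0 he0 hcD
    obtain ⟨c, hc⟩ : ∃ c : E', c = β (e0⁻¹ * τ e0) := ⟨_, rfl⟩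
    rw [← hc] at hcD
    obtain ⟨C, hC⟩ : ∃ C, C = phi E' ⊔ Subgroup.zpowers (c : Y) := ⟨_, rfl⟩
    have hphiC : phi E' ≤ C := hC ▸ le_sup_left
    have hCD : C ≤ D := hC ▸ sup_le hphiD (Subgroup.zpowers_le.2 hcD)
    have hcC : (c : Y) ∈ C := hC ▸ Subgroup.mem_sup_right (Subgroup.mem_zpowers _)
    have hτC : autY E' ≤ stab E' C D :=
      h.autY_le_stab hE' hphiC hCD hvE' (fun y hy => by rw [hDv y (hCD hy)]; simp)
        (fun y hy => by rw [hDv y hy]; simp) hvd hDE'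
    have he0τ : e0⁻¹ * τ e0 = β⁻¹ c := by rw [hc, MulAut.inv_apply_self]
    have hdiff : ∀ y : E', (y : Y)⁻¹ * τ' y ∈ C := by
      intro y
      obtain ⟨y, rfl⟩ := β.surjective y
      obtain ⟨d, hd, i, hyi⟩ := hgen0 e0 e0.2 he0 y y.2
      have hy' : y = (⟨d, hDE' hd⟩ : E') * e0 ^ i := Subtype.ext (by simpa using hyi)
      have hcomm : ∀ a : E', (a : Y) ∈ D → τ a = a := hτfix
      obtain ⟨K', hK'⟩ : ∃ K' : Subgroup E', ∀ a, a ∈ K' ↔ (β a : Y)⁻¹ * τ' (β a) ∈ C := by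
        have hCn : ∀ a ∈ E', ∀ z ∈ C, a * z * a⁻¹ ∈ C := fun a ha z hz => by
          have h1 := C.mul_mem hz (hphiC (comm_phi h.pY (E'.inv_mem (hDE' (hCD hz))) ha))
          rwa [commutatorElement_def, inv_inv, show z * (z⁻¹ * a * z * a⁻¹) = a * z * a⁻¹ by group] at h1
        refine ⟨{ carrier := {a | (β a : Y)⁻¹ * τ' (β a) ∈ C}
                  one_mem' := by simp
                  mul_mem' := fun {a b} ha hb => ?_
                  inv_mem' := fun {a} ha => ?_ }, fun a => Iff.rfl⟩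
        · simp only [Set.mem_ofPred_eq, map_mul, Subgroup.coe_mul] at ha hb ⊢
          rw [show ((β a : Y) * (β b : Y))⁻¹ * ((τ' (β a) : Y) * (τ' (β b) : Y)) =
            (β b : Y)⁻¹ * ((β a : Y)⁻¹ * (τ' (β a) : Y)) * (β b : Y)⁻¹⁻¹ *
              ((β b : Y)⁻¹ * (τ' (β b) : Y)) by group]
          exact C.mul_mem (hCn _ (E'.inv_mem (β b).2) _ ha) hb
        · simp only [Set.mem_ofPred_eq, map_inv, Subgroup.coe_inv] at ha ⊢
          rw [show (β a : Y)⁻¹⁻¹ * (τ' (β a) : Y)⁻¹ =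
            (β a : Y) * ((β a : Y)⁻¹ * (τ' (β a) : Y))⁻¹ * (β a : Y)⁻¹ by group]
          exact hCn _ (β a).2 _ (C.inv_mem ha)
      refine (hK' y).1 (hy' ▸ K'.mul_mem ((hK' _).2 ?_) (K'.zpow_mem ((hK' _).2 ?_) i))
      · rw [hτ'v, hcomm _ hd, inv_mul_cancel]; exact C.one_mem
      · rw [hτ'v, ← Subgroup.coe_inv, ← map_inv, ← Subgroup.coe_mul, ← map_mul, ← hc]
        exact hcC
    have hcfix : τ' c = c := by
      have h1 : ((e0⁻¹ * τ e0 : E') : Y) ∈ D := by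
        rw [Subgroup.coe_mul, Subgroup.coe_inv, hτ]; exact hvd e0 e0.2
      have h2 := hτ'v (e0⁻¹ * τ e0)
      rw [hτfix _ h1, ← hc] at h2
      exact Subtype.ext h2
    have hτ'C1 : ∀ e : E', (e : Y) ∈ C → (e : Y)⁻¹ * τ' e ∈ phi E' := by
      obtain ⟨K', hK'⟩ := hdiffK τ'
      have hle : C ≤ K' := by
        rw [hC]
        refine sup_le (fun z hz => (hK' z).2 ⟨phi_le E' hz, ?_⟩) (Subgroup.zpowers_le.2 ?_)
        · exact Subgroup.mul_mem _ (Subgroup.inv_mem _ hz) (phi_invariant τ' (e := ⟨z, phi_le E' hz⟩) hz)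
        · exact (hK' _).2 ⟨c.2, by rw [show (⟨(c : Y), c.2⟩ : E') = c from rfl, hcfix]; simp⟩
      intro e he
      obtain ⟨_, h1⟩ := (hK' _).1 (hle he)
      exact h1
    have hτ's : τ' ∈ stab E' C D := by
      refine mem_stab.2 ⟨fun e he => ?_, fun e he => ?_, hτ'C1, fun e _ => hdiff e,
        fun e => hCD (hdiff e)⟩
      · have := C.mul_mem he (hdiff e); rwa [mul_inv_cancel_left] at this
      · have := D.mul_mem he (hCD (hdiff e)); rwa [mul_inv_cancel_left] at this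
    -- contradiction
    obtain ⟨e, heD, heD'⟩ := hβD
    have hK2 : ∀ y : E', (y : Y) ∈ D → (y : Y)⁻¹ * τ' y ∈ phi E' :=
      hstabD C hphiC hCD hτC τ' hτ'𝔸 hτ's
    have hall : (β e : Y)⁻¹ * τ' (β e) ∈ phi E' := by
      rw [hτ'v, hτfix e heD, inv_mul_cancel]; exact Subgroup.one_mem _
    obtain ⟨K', hK'⟩ := hdiffK τ'
    obtain ⟨d, hd, i, hyi⟩ := hgen0 (β e : E') (β e).2 heD' (β e0 : E') (β e0).2
    have htriv : (β e0 : Y) ∈ K' := hyi ▸ K'.mul_mem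
      ((hK' d).2 ⟨hDE' hd, hK2 ⟨d, hDE' hd⟩ hd⟩)
      (K'.zpow_mem ((hK' _).2 ⟨(β e).2, hall⟩) i)
    obtain ⟨_, h1⟩ := (hK' _).1 htriv
    rw [show (⟨(β e0 : Y), _⟩ : E') = β e0 from rfl, hτ'v, ← Subgroup.coe_inv, ← map_inv,
      ← Subgroup.coe_mul, ← map_mul] at h1
    have h2 := phi_invariant β⁻¹ h1
    rw [MulAut.inv_apply_self, Subgroup.coe_mul, Subgroup.coe_inv, hτ] at h2
    exact hτne e0 e0.2 he0 h2
  -- a conjugate moving `D`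
  obtain ⟨β, hβ, hβD⟩ : ∃ β ∈ Γ.𝔸 E', ∃ e : E', (e : Y) ∈ D ∧ (β e : Y) ∉ D := by
    by_contra hc
    push Not at hc
    exact h.flag hE' hphiD le_rfl hDE' hc hc hvE' (fun y hy => by rw [hDv y hy]; simp)
      (fun y hy => by rw [hDv y hy]; simp) hvd
  obtain ⟨w, hw, hwD⟩ : ∃ w ∈ E', w ∉ D := by
    by_contra hc
    push Not at hc
    exact hnle' (le_trans hc hDE)
  obtain ⟨r0, hr0⟩ : ∃ r0 : E', r0 = (⟨w, hw⟩ : E')⁻¹ * τ ⟨w, hw⟩ := ⟨_, rfl⟩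
  have hord : ∀ e : E', ((e⁻¹ * τ e : E') : Y) ^ p = 1 ∧
      ∀ f ∈ E, ((e⁻¹ * τ e : E') : Y) * f = f * ((e⁻¹ * τ e : E') : Y) := by
    intro e
    have h1 : ((e⁻¹ * τ e : E') : Y) = (e : Y)⁻¹ * v * e * v⁻¹ := by
      rw [Subgroup.coe_mul, Subgroup.coe_inv, hτ]; group
    have h2 : ∀ f ∈ E, Commute ((e : Y)⁻¹ * v * e) f := fun f hf => by
      have h3 : Commute v ((e : Y) * f * (e : Y)⁻¹) := hvc _ (hnE.conj_mem f hf e)
      have h4 := h3.map (MulAut.conj (e : Y)⁻¹).toMonoidHom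
      simpa [mul_assoc] using h4
    refine ⟨?_, fun f hf => ?_⟩
    · rw [h1, (h2 _ (E.inv_mem hv)).mul_pow, inv_pow, hvp, inv_one, mul_one]
      have := conj_pow (i := p) (a := (e : Y)⁻¹) (b := v)
      rw [inv_inv] at this
      rw [this, hvp]; simp
    · rw [h1]
      exact ((h2 f hf).mul_left (Commute.inv_left (hvc f hf))).eq
  obtain ⟨s, hs⟩ : ∃ s : E', s = β r0 := ⟨_, rfl⟩
  have hsD : (s : Y) ∉ D := hs ▸ hr0 ▸ hcentre β hβ hβD ⟨w, hw⟩ hwD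
  obtain ⟨r, hr⟩ : ∃ r : E', r = s⁻¹ * τ s := ⟨_, rfl⟩
  have hrD : (r : Y) ∈ D := by
    rw [hr, Subgroup.coe_mul, Subgroup.coe_inv, hτ]
    exact hvd _ s.2
  obtain ⟨D', hD'⟩ : ∃ D', D' = ((D.subgroupOf E').map β.toMonoidHom).map E'.subtype := ⟨_, rfl⟩
  have hmemD' : ∀ e : E', (β e : Y) ∈ D' ↔ (e : Y) ∈ D := fun e => by
    rw [hD']
    constructor
    · rintro ⟨_, ⟨y, hy, rfl⟩, he⟩
      exact (β.injective (Subtype.ext he) : y = e) ▸ hy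
    · exact fun he => ⟨_, ⟨e, he, rfl⟩, rfl⟩
  have hβiD : ∃ e : E', (e : Y) ∈ D ∧ (β⁻¹ e : Y) ∉ D := by
    by_contra hc
    push Not at hc
    obtain ⟨e, he, he'⟩ := hβD
    refine he' ?_
    have hsub : (D.subgroupOf E').map (β⁻¹ : MulAut E').toMonoidHom = D.subgroupOf E' :=
      Subgroup.eq_of_le_of_card_ge (by rintro _ ⟨y, hy, rfl⟩; exact hc y hy)
        (Subgroup.card_map_of_injective (MulEquiv.injective _)).ge
    obtain ⟨y, hy, hye⟩ := hsub.ge (show e ∈ D.subgroupOf E' from he)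
    have hye' : β⁻¹ y = e := hye
    rw [← hye', MulAut.apply_inv_self]
    exact hy
  have hrD'' : (r : Y) ∉ D' := fun hm => by
    refine absurd hm ?_
    obtain ⟨y, hy⟩ := β.surjective r
    rw [← hy, hmemD']
    have h1 := hcentre β⁻¹ ((Γ.𝔸 E').inv_mem hβ) hβiD s hsD
    rw [← hr, ← hy, MulAut.inv_apply_self] at h1
    exact h1
  have hs_r0 : (r0 : Y) ∈ D := by
    rw [hr0, Subgroup.coe_mul, Subgroup.coe_inv, hτ]
    exact hvd _ hw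
  obtain ⟨G, hG⟩ : ∃ G, G = D ⊓ D' := ⟨_, rfl⟩
  have hD'E' : D' ≤ E' := by rw [hD']; rintro _ ⟨e, -, rfl⟩; exact e.2
  have hD'i : D'.relIndex E' = p := by
    show (D'.subgroupOf E').index = p
    rw [show D'.subgroupOf E' = (D.subgroupOf E').map β.toMonoidHom by
        ext e
        obtain ⟨y, rfl⟩ := β.surjective e
        rw [Subgroup.mem_subgroupOf, hmemD']
        exact ⟨fun hy => ⟨y, hy, rfl⟩, fun ⟨z, hz, he⟩ => (β.injective he : z = y) ▸ hz⟩]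
    exact (Subgroup.index_map_equiv (H := D.subgroupOf E') β).trans hDi
  have hD'n : ∀ e ∈ E', ∀ y ∈ D', e * y * e⁻¹ ∈ D' := by
    intro e he y hy
    exact ((normal_of_index (hY := h.pY.to_subgroup E') (E := D'.subgroupOf E') hD'i).conj_mem
      ⟨y, hD'E' hy⟩ hy ⟨e, he⟩)
  have hGD : G ≤ D := hG ▸ inf_le_left
  have hGD' : G ≤ D' := hG ▸ inf_le_right
  have hrG : (r : Y) ∉ G := fun hh => hrD'' (hGD' hh)
  have hGi : G.relIndex D = p := by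
    have hn2 : (D'.subgroupOf E').Normal :=
      normal_of_index (h.pY.to_subgroup E') hD'i
    have h1 := inf_relIndex (Y := E') hn2 hD'i (H := D.subgroupOf E')
      (fun hle => hrD'' (hle (show r ∈ D.subgroupOf E' from hrD)))
    rw [hG, inf_comm, ← Subgroup.relIndex_subgroupOf hDE', Subgroup.subgroupOf,
      Subgroup.comap_inf]
    exact h1
  have hsc : ∀ f ∈ D', (s : Y) * f = f * s := by
    intro f hf
    obtain ⟨y, hy⟩ := β.surjective ⟨f, hD'E' hf⟩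
    have hf' : f = (β y : Y) := by rw [hy]
    rw [hf'] at hf ⊢
    have h1 : r0 * y = y * r0 := Subtype.ext (by
      have := (hord ⟨w, hw⟩).2 y (hDE ((hmemD' y).1 hf))
      rw [← hr0] at this
      exact this)
    rw [hs, ← Subgroup.coe_mul, ← Subgroup.coe_mul, ← map_mul, ← map_mul, h1]
  have hsp : (s : Y) ^ p = 1 := by
    have h1 : r0 ^ p = 1 := Subtype.ext (by
      rw [SubgroupClass.coe_pow, hr0]; exact (hord ⟨w, hw⟩).1)
    rw [← SubgroupClass.coe_pow, hs, ← map_pow, h1, map_one]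
    rfl
  have hrord := hord s
  rw [← hr] at hrord
  have hGn : ∀ e ∈ E', ∀ y ∈ G, e * y * e⁻¹ ∈ G := fun e he y hy => hG ▸
    ⟨hDn.conj_mem y (hGD hy) e, hD'n e he y (hGD' hy)⟩
  refine ⟨G, r, s, hv, hvE', hvp, hvc, hDE hrD, r.2, hrord.1, hrord.2, s.2,
    fun hh => hsD ((hmemD _).2 ⟨hh, s.2⟩), hsp, ?_, hGD.trans hDE, hGD.trans hDE',
    fun g hg => (hsc g (hGD' hg)).symm, hrG, fun e he => ?_, fun e he => ?_, ?_⟩
  · rw [hr, Subgroup.coe_mul, Subgroup.coe_inv, hτ]; group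
  · obtain ⟨d, hd, j, rfl⟩ :=
      decomp hDE' hDi (fun g _ y hy => hDn.conj_mem y hy g) s.2 hsD hsp he
    obtain ⟨g, hg, i, rfl⟩ :=
      decomp hGD hGi (fun a ha y hy => hGn a (hDE' ha) y hy) hrD hrG hrord.1 hd
    exact ⟨g, hg, i, j, rfl⟩
  · obtain ⟨d, hd, j, rfl⟩ :=
      decomp hDE hDiE (fun g _ y hy => hDn.conj_mem y hy g) hv
        (fun hh => hvE' (hDE' hh)) hvp he
    obtain ⟨g, hg, i, rfl⟩ :=
      decomp hGD hGi (fun a ha y hy => hGn a (hDE' ha) y hy) hrD hrG hrord.1 hd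
    exact ⟨g, hg, i, j, rfl⟩
  · have c1 : ∀ {A : Subgroup Y}, A ≤ E' → A.relIndex E' = p → ⁅(r : Y), (s : Y)⁆ ∈ A := by
      intro A hA hi
      haveI := normal_of_index (h.pY.to_subgroup E') (E := A.subgroupOf E') hi
      have h1 := comm_mem_of_step (h.pY.to_subgroup E') (A := A.subgroupOf E') (B := ⊤) le_top
        (by rw [Subgroup.relIndex_top_right]; exact hi) r (Subgroup.mem_top _) s
      simpa [Subgroup.mem_subgroupOf, commutatorElement_def] using h1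
    rw [hG]
    exact ⟨c1 hDE' hDi, c1 hD'E' hD'i⟩

end CfsgLib.RankThreeAmalgam
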