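import Cfsg.Agent.Lib.Fusion.RankThree.Frame
import Cfsg.Agent.Lib.Fusion.RankTwoInversion
import Cfsg.Agent.Lib.Fusion.Normal
import Cfsg.Agent.Lib.OddOmega.Basic
import Cfsg.Agent.Lib.HSub.Fusion

/-!
A family of maximal subgroups of a `p`-group of sectional rank three with their automizers.
-/

set_option autoImplicit false
set_option linter.style.haveILetI false
set_option linter.unusedSectionVars false

namespace CfsgLib.RankThreeAmalgam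

open Cfsg Cfsg.FusionSystem CfsgLib.Fusion CfsgLib.RankThree
open scoped commutatorElement

variable {Y : Type*} [Group Y]

/-- The automorphisms of `E` induced by the whole group. -/
def autY (E : Subgroup Y) : Subgroup (MulAut E) := autInducedBy (⊤ : Subgroup Y) E

/-- The Frattini subgroup of `E` as a subgroup of the whole group. -/
def phi (E : Subgroup Y) : Subgroup Y := (frattini E).map E.subtype

theorem phi_le (E : Subgroup Y) : phi E ≤ E := by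
  rintro _ ⟨e, -, rfl⟩
  exact e.2

theorem mem_phi {E : Subgroup Y} {e : E} : (e : Y) ∈ phi E ↔ e ∈ frattini E :=
  ⟨fun ⟨_, hz, he⟩ => (Subtype.ext he : _ = e) ▸ hz, fun h => ⟨e, h, rfl⟩⟩

theorem phi_invariant {E : Subgroup Y} (α : MulAut E) {e : E} (he : (e : Y) ∈ phi E) :
    (α e : Y) ∈ phi E :=
  mem_phi.2 ((Subgroup.characteristic_iff_map_eq.1 (inferInstance : (frattini E).Characteristic)
    α).le ⟨e, mem_phi.1 he, rfl⟩)

theorem mem_autY {E : Subgroup Y} {α : MulAut E} :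
    α ∈ autY E ↔ ∃ g : Y, ∀ e : E, (α e : Y) = g * e * g⁻¹ :=
  ⟨fun h => let ⟨g, _, hg⟩ := (mem_autInducedBy_iff _ E α).1 h; ⟨g, hg⟩,
    fun ⟨g, hg⟩ => (mem_autInducedBy_iff _ E α).2 ⟨g, Subgroup.mem_top g, hg⟩⟩

/-- The automorphisms stabilising `Φ(E) ≤ C₁ ≤ C₂ ≤ E`. -/
def stab [Finite Y] (E C₁ C₂ : Subgroup Y) : Subgroup (MulAut E) :=
  haveI := finite_mulAut E
  let M : Submonoid (MulAut E) :=
    { carrier := {α | (∀ e : E, (e : Y) ∈ C₁ → (α e : Y) ∈ C₁) ∧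
        (∀ e : E, (e : Y) ∈ C₂ → (α e : Y) ∈ C₂) ∧
        (∀ e : E, (e : Y) ∈ C₁ → (e : Y)⁻¹ * α e ∈ phi E) ∧
        (∀ e : E, (e : Y) ∈ C₂ → (e : Y)⁻¹ * α e ∈ C₁) ∧ ∀ e : E, (e : Y)⁻¹ * α e ∈ C₂}
      one_mem' := ⟨fun e h => h, fun e h => h, fun e _ => by simp,
        fun e _ => by simp, fun e => by simp⟩
      mul_mem' := by
        rintro a b ⟨a1, a2, a3, a4, a5⟩ ⟨b1, b2, b3, b4, b5⟩
        have key : ∀ e : E, (e : Y)⁻¹ * ((a * b) e : E) =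
            ((e : Y)⁻¹ * b e) * ((b e : Y)⁻¹ * a (b e)) := fun e => by
          rw [MulAut.mul_apply, mul_assoc, mul_inv_cancel_left]
        refine ⟨fun e he => a1 _ (b1 e he), fun e he => a2 _ (b2 e he), fun e he => ?_,
          fun e he => ?_, fun e => ?_⟩
        · rw [key]; exact Subgroup.mul_mem _ (b3 e he) (a3 _ (b1 e he))
        · rw [key]; exact Subgroup.mul_mem _ (b4 e he) (a4 _ (b2 e he))
        · rw [key]; exact Subgroup.mul_mem _ (b5 e) (a5 _) }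
  { M with
    inv_mem' := fun {a} ha => by
      have h : a⁻¹ = a ^ (orderOf a - 1) := by
        refine inv_eq_of_mul_eq_one_right ?_
        rw [← pow_succ', Nat.sub_add_cancel (orderOf_pos a), pow_orderOf_eq_one]
      rw [h]
      exact M.pow_mem ha _ }

theorem mem_stab [Finite Y] {E C₁ C₂ : Subgroup Y} {α : MulAut E} :
    α ∈ stab E C₁ C₂ ↔ (∀ e : E, (e : Y) ∈ C₁ → (α e : Y) ∈ C₁) ∧
      (∀ e : E, (e : Y) ∈ C₂ → (α e : Y) ∈ C₂) ∧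
      (∀ e : E, (e : Y) ∈ C₁ → (e : Y)⁻¹ * α e ∈ phi E) ∧
      (∀ e : E, (e : Y) ∈ C₂ → (e : Y)⁻¹ * α e ∈ C₁) ∧
      ∀ e : E, (e : Y)⁻¹ * α e ∈ C₂ := Iff.rfl

theorem isPGroup_stab [Finite Y] {p : ℕ} [Fact p.Prime] (hY : IsPGroup p Y)
    (E C₁ C₂ : Subgroup Y) : IsPGroup p (stab E C₁ C₂) := by
  haveI := finite_mulAut E
  have hE : IsPGroup p E := hY.to_subgroup E
  obtain ⟨q, hq⟩ : ∃ q, q = QuotientGroup.mk' (frattini E) := ⟨_, rfl⟩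
  obtain ⟨L, hL⟩ : ∃ L : ℕ → Subgroup (E ⧸ frattini E), L = fun i =>
      if i = 0 then ⊥ else if i = 1 then (C₁.subgroupOf E).map q
        else if i = 2 then (C₂.subgroupOf E).map q else ⊤ := ⟨_, rfl⟩
  have h1 : IsPGroup p ((stab E C₁ C₂).map (frattiniHom E)) := by
    refine isPGroup_of_stabilizes_series (hE.to_quotient _) L 3 (by rw [hL]; rfl) (by rw [hL]; rfl)
      _ ?_
    rintro _ ⟨α, hα, rfl⟩ i hi w hw
    obtain ⟨-, -, a3, a4, a5⟩ := mem_stab.1 hα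
    match i, hi with
    | 0, _ =>
      rw [hL] at hw ⊢
      obtain ⟨e, he, rfl⟩ := hw
      refine Subgroup.mem_bot.2 ?_
      rw [hq, QuotientGroup.mk'_apply, frattiniHom_mk, ← QuotientGroup.mk_inv,
        ← QuotientGroup.mk_mul, QuotientGroup.eq_one_iff, ← mem_phi]
      simpa using a3 e he
    | 1, _ =>
      rw [hL] at hw ⊢
      obtain ⟨e, he, rfl⟩ := hw
      refine ⟨e⁻¹ * α e, ?_, by rw [hq]; rfl⟩
      simpa [Subgroup.mem_subgroupOf] using a4 e he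
    | 2, _ =>
      obtain ⟨e, rfl⟩ := QuotientGroup.mk'_surjective (frattini E) w
      rw [hL]
      refine ⟨e⁻¹ * α e, ?_, by rw [hq]; rfl⟩
      simpa [Subgroup.mem_subgroupOf] using a5 e
  rintro ⟨α, hα⟩
  obtain ⟨k, hk⟩ := h1 ⟨_, ⟨α, hα, rfl⟩⟩
  have hker : α ^ p ^ k ∈ (frattiniHom E).ker := by
    rw [MonoidHom.mem_ker, map_pow]
    exact congrArg Subtype.val hk
  obtain ⟨j, hj⟩ := isPGroup_ker_frattiniHom hE ⟨_, hker⟩
  refine ⟨k + j, Subtype.ext ?_⟩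
  rw [pow_add, pow_mul]
  simpa using congrArg Subtype.val hj

/-- The data of a family of maximal subgroups with automizers. -/
structure Sys (Y : Type*) [Group Y] where
  /-- the members -/
  ℰ : Set (Subgroup Y)
  /-- the automizers -/
  𝔸 : ∀ E : Subgroup Y, Subgroup (MulAut E)
  /-- the automizer of the whole group -/
  𝔹 : Subgroup (MulAut Y)

/-- The axioms on a family. -/
structure Sys.Good (Γ : Sys Y) (p : ℕ) : Prop where
  pY : IsPGroup p Y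
  podd : p ≠ 2
  rank : Cfsg.SectionalPRankLE p 3 Y
  idx : ∀ E ∈ Γ.ℰ, E.index = p
  cen : ∀ E ∈ Γ.ℰ, ∀ g : Y, (∀ e ∈ E, g * e = e * g) → g ∈ E
  conj : ∀ E ∈ Γ.ℰ, autY E ≤ Γ.𝔸 E
  max : ∀ E ∈ Γ.ℰ, ∀ U : Subgroup (MulAut E), U ≤ Γ.𝔸 E → IsPGroup p U → autY E ≤ U →
    U ≤ autY E
  notNormal : ∀ E ∈ Γ.ℰ, ∀ U : Subgroup (MulAut E), U ≤ Γ.𝔸 E → IsPGroup p U →
    (∀ a ∈ Γ.𝔸 E, ∀ u ∈ U, a * u * a⁻¹ ∈ U) → ¬ autY E ≤ U
  perm : ∀ φ ∈ Γ.𝔹, ∀ E ∈ Γ.ℰ, E.map φ.toMonoidHom ∈ Γ.ℰ ∧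
    ∀ α ∈ Γ.𝔸 E, ∃ β ∈ Γ.𝔸 (E.map φ.toMonoidHom), ∀ (e : E) (e' : E.map φ.toMonoidHom),
      (e' : Y) = φ e → (β e' : Y) = φ (α e : Y)
  inn : ∀ g : Y, MulAut.conj g ∈ Γ.𝔹
  ext : ∀ E ∈ Γ.ℰ, ∀ α ∈ Γ.𝔸 E, (∀ u ∈ autY E, α * u * α⁻¹ ∈ autY E) →
    ∃ φ ∈ Γ.𝔹, ∀ e : E, φ (e : Y) = (α e : Y)
  res : ∀ E ∈ Γ.ℰ, ∀ φ ∈ Γ.𝔹, (∀ e ∈ E, φ e ∈ E) → ∃ α ∈ Γ.𝔸 E, ∀ e : E, (α e : Y) = φ (e : Y)
  pB : ∀ φ ∈ Γ.𝔹, (∃ k, φ ^ p ^ k = 1) → ∃ g : Y, φ = MulAut.conj g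

/-- No subgroup is invariant under all the automizers. -/
def Sys.NoCore (Γ : Sys Y) : Prop :=
  ∀ R : Subgroup Y, (∀ φ ∈ Γ.𝔹, ∀ y ∈ R, φ y ∈ R) → (∀ E ∈ Γ.ℰ, R ≤ E) →
    (∀ E ∈ Γ.ℰ, ∀ α ∈ Γ.𝔸 E, ∀ e : E, (e : Y) ∈ R → (α e : Y) ∈ R) → R = ⊥

variable [Finite Y] {p : ℕ} [hp : Fact p.Prime] {Γ : Sys Y}

theorem normal_of_index (hY : IsPGroup p Y) {E : Subgroup Y} (h : E.index = p) : E.Normal := by
  haveI := hY.isNilpotent
  refine Subgroup.NormalizerCondition.normal_of_coatom E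
    (Group.normalizerCondition_of_isNilpotent (G := Y)) ⟨fun e => ?_, fun H hH => ?_⟩
  · rw [e, Subgroup.index_top] at h
    exact hp.out.one_lt.ne h
  · obtain ⟨g, hg, hgE⟩ := SetLike.exists_of_lt hH
    exact eq_of_prime_index h hH.le hg hgE

theorem top_of_gen {E K : Subgroup Y} (h : E.index = p) (hle : E ≤ K) {g : Y} (hg : g ∈ K)
    (hgE : g ∉ E) (y : Y) : y ∈ K :=
  (eq_of_prime_index h hle hg hgE).ge (Subgroup.mem_top y)

theorem pow_phi (hY : IsPGroup p Y) {E : Subgroup Y} {e : Y} (he : e ∈ E) : e ^ p ∈ phi E :=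
  (mem_phi (e := (⟨e, he⟩ : E) ^ p)).2 (CfsgLib.OddOmega.pow_mem_frattini (hY.to_subgroup E) _)

theorem comm_phi (hY : IsPGroup p Y) {E : Subgroup Y} {e f : Y} (he : e ∈ E) (hf : f ∈ E) :
    ⁅e, f⁆ ∈ phi E := by
  have := (mem_phi (e := ⁅(⟨e, he⟩ : E), ⟨f, hf⟩⁆)).2 (CfsgLib.HSub.commutator_le_frattini
    (hY.to_subgroup E) (Subgroup.commutator_mem_commutator (Subgroup.mem_top _) (Subgroup.mem_top _)))
  simpa [commutatorElement_def] using this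

theorem phi_le_of {E R : Subgroup Y} (hR : ∀ e ∈ E, ∀ y ∈ R, e * y * e⁻¹ ∈ R)
    (hc : ∀ e ∈ E, ∀ f ∈ E, ⁅e, f⁆ ∈ R) (hpw : ∀ e ∈ E, e ^ p ∈ R) : phi E ≤ R := by
  have hn : (R.subgroupOf E).Normal := ⟨fun z hz g => hR g g.2 z hz⟩
  rintro _ ⟨e, he, rfl⟩
  refine CfsgLib.Critical.frattini_le_of_elementary (p := p) (R.subgroupOf E) ?_
    (fun y => by simpa [Subgroup.mem_subgroupOf] using hpw y y.2) he
  rw [commutator_def, Subgroup.commutator_le]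
  intro a _ b _
  simpa [Subgroup.mem_subgroupOf, commutatorElement_def] using hc a a.2 b b.2

theorem comm_of_step (hY : IsPGroup p Y) {A B : Subgroup Y} (hA : A.Normal) (hB : B.Normal)
    (hAB : A ≤ B) (h : A.relIndex B = p) {b : Y} (hb : b ∈ B) (g : Y) : ⁅b, g⁆ ∈ A :=
  comm_mem_of_step hY hAB h b hb g

theorem phi_le_of_index (hY : IsPGroup p Y) {E D : Subgroup Y} (hD : D ≤ E)
    (hn : ∀ e ∈ E, ∀ y ∈ D, e * y * e⁻¹ ∈ D) (h : D.relIndex E = p) : phi E ≤ D := by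
  have hDn : (D.subgroupOf E).Normal := ⟨fun z hz g => hn g g.2 z hz⟩
  refine phi_le_of (p := p) hn (fun e he f hf => ?_) fun e he => ?_
  · have h1 := comm_mem_of_step (hY.to_subgroup E) (A := D.subgroupOf E) (B := ⊤) le_top
      (by rw [Subgroup.relIndex_top_right]; exact h) ⟨e, he⟩ (Subgroup.mem_top _) ⟨f, hf⟩
    simpa [Subgroup.mem_subgroupOf, commutatorElement_def] using h1
  · have h1 := Subgroup.pow_index_mem (D.subgroupOf E) ⟨e, he⟩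
    rw [show (D.subgroupOf E).index = p from h] at h1
    simpa [Subgroup.mem_subgroupOf] using h1

namespace Sys.Good

variable (h : Γ.Good p) {E : Subgroup Y}

include h

theorem normal (hE : E ∈ Γ.ℰ) : E.Normal := normal_of_index h.pY (h.idx E hE)

theorem conj_mem (hE : E ∈ Γ.ℰ) (g : Y) {e : Y} (he : e ∈ E) : g * e * g⁻¹ ∈ E :=
  (h.normal hE).conj_mem e he g

theorem exists_notMem (hE : E ∈ Γ.ℰ) : ∃ g : Y, g ∉ E := by
  by_contra hc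
  push Not at hc
  have := h.idx E hE
  rw [(eq_top_iff.2 fun y _ => hc y : E = ⊤), Subgroup.index_top] at this
  exact hp.out.one_lt.ne this

theorem exists_conj (hE : E ∈ Γ.ℰ) (g : Y) :
    ∃ α ∈ Γ.𝔸 E, α ∈ autY E ∧ ∀ e : E, (α e : Y) = g * e * g⁻¹ := by
  have hg : g ∈ Subgroup.normalizer (E : Set Y) := by
    rw [(Subgroup.normalizer_eq_top_iff).2 (h.normal hE)]
    exact Subgroup.mem_top g
  have h1 : conjAut E hg ∈ autY E := conjAut_mem_autInducedBy hg (Subgroup.mem_top g)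
  exact ⟨_, h.conj E hE h1, h1, conjAut_apply E hg⟩

theorem phi_normal (hE : E ∈ Γ.ℰ) : (phi E).Normal := by
  refine ⟨fun z hz g => ?_⟩
  obtain ⟨α, -, -, hα⟩ := h.exists_conj hE g
  have h1 := phi_invariant α (e := ⟨z, phi_le E hz⟩) hz
  rwa [hα] at h1

/-- Invariant subgroups between `Φ(E)` and `E` are normal. -/
theorem normal_of_invariant (hE : E ∈ Γ.ℰ) {C : Subgroup Y} (hC : C ≤ E)
    (hi : ∀ α ∈ Γ.𝔸 E, ∀ e : E, (e : Y) ∈ C → (α e : Y) ∈ C) : C.Normal := by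
  refine ⟨fun z hz g => ?_⟩
  obtain ⟨α, hα𝔸, -, hα⟩ := h.exists_conj hE g
  have h1 := hi α hα𝔸 ⟨z, hC hz⟩ hz
  rwa [hα] at h1

/-- Being generated over `E`, one element decides a stabiliser. -/
theorem autY_le_stab (hE : E ∈ Γ.ℰ) {C₁ C₂ : Subgroup Y} (hC₁ : phi E ≤ C₁) (hC : C₁ ≤ C₂) {g : Y}
    (hgE : g ∉ E)
    (g1 : ∀ y ∈ C₁, y⁻¹ * (g * y * g⁻¹) ∈ phi E) (g2 : ∀ y ∈ C₂, y⁻¹ * (g * y * g⁻¹) ∈ C₁)
    (g3 : ∀ y ∈ E, y⁻¹ * (g * y * g⁻¹) ∈ C₂) (hC₂ : C₂ ≤ E) : autY E ≤ stab E C₁ C₂ := by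
  haveI := finite_mulAut E
  intro α hα
  obtain ⟨y, hy⟩ := mem_autY.1 hα
  obtain ⟨K, hK⟩ : ∃ K : Subgroup Y, ∀ w, w ∈ K ↔ ∃ β ∈ stab E C₁ C₂,
      ∀ e : E, (β e : Y) = w * e * w⁻¹ := by
    refine ⟨{ carrier := {w | ∃ β ∈ stab E C₁ C₂, ∀ e : E, (β e : Y) = w * e * w⁻¹}
              one_mem' := ⟨1, Subgroup.one_mem _, fun e => by simp⟩
              mul_mem' := fun {a b} ⟨β, hβ, hβv⟩ ⟨γ, hγ, hγv⟩ => ⟨β * γ, Subgroup.mul_mem _ hβ hγ,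
                fun e => by rw [MulAut.mul_apply, hβv, hγv]; group⟩
              inv_mem' := fun {a} ⟨β, hβ, hβv⟩ => ⟨β⁻¹, Subgroup.inv_mem _ hβ, fun e => by
                have h1 := hβv (β⁻¹ e)
                rw [MulAut.apply_inv_self] at h1
                rw [h1]; group⟩ }, fun w => Iff.rfl⟩
  have hmk : ∀ w, (∀ z ∈ C₁, z⁻¹ * (w * z * w⁻¹) ∈ phi E) → (∀ z ∈ C₂, z⁻¹ * (w * z * w⁻¹) ∈ C₁) →
      (∀ z ∈ E, z⁻¹ * (w * z * w⁻¹) ∈ C₂) → w ∈ K := by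
    intro w w1 w2 w3
    obtain ⟨β, -, -, hβ⟩ := h.exists_conj hE w
    refine (hK w).2 ⟨β, mem_stab.2 ⟨fun e he => ?_, fun e he => ?_, fun e he => ?_, fun e he => ?_,
      fun e => ?_⟩, hβ⟩
    all_goals rw [hβ]
    · have := C₁.mul_mem he (hC₁ (w1 e he))
      rwa [mul_inv_cancel_left] at this
    · have := C₂.mul_mem he (hC (w2 e he))
      rwa [mul_inv_cancel_left] at this
    · exact w1 e he
    · exact w2 e he
    · exact w3 e e.2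
  have hin : ∀ {w}, w ∈ E → ∀ z ∈ E, z⁻¹ * (w * z * w⁻¹) ∈ phi E := fun {w} hw z hz => by
    have h1 := comm_phi h.pY (E.inv_mem hz) hw
    rwa [commutatorElement_def, inv_inv, mul_assoc, mul_assoc, ← mul_assoc w] at h1
  have hKtop := top_of_gen (h.idx E hE)
    (fun w hw => hmk w (fun z hz => hin hw z (hC₂ (hC hz)))
      (fun z hz => hC₁ (hin hw z (hC₂ hz))) fun z hz => hC (hC₁ (hin hw z hz)))
    (hmk g g1 g2 g3) hgE y
  obtain ⟨β, hβ, hβv⟩ := (hK y).1 hKtop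
  rwa [show α = β from MulEquiv.ext fun e => Subtype.ext (by rw [hy, hβv])]

/-- No invariant flag is stabilised by an outer element. -/
theorem flag (hE : E ∈ Γ.ℰ) {C₁ C₂ : Subgroup Y} (hC₁ : phi E ≤ C₁) (hC : C₁ ≤ C₂) (hC₂ : C₂ ≤ E)
    (i₁ : ∀ α ∈ Γ.𝔸 E, ∀ e : E, (e : Y) ∈ C₁ → (α e : Y) ∈ C₁)
    (i₂ : ∀ α ∈ Γ.𝔸 E, ∀ e : E, (e : Y) ∈ C₂ → (α e : Y) ∈ C₂) {g : Y} (hgE : g ∉ E)
    (g1 : ∀ y ∈ C₁, y⁻¹ * (g * y * g⁻¹) ∈ phi E) (g2 : ∀ y ∈ C₂, y⁻¹ * (g * y * g⁻¹) ∈ C₁)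
    (g3 : ∀ y ∈ E, y⁻¹ * (g * y * g⁻¹) ∈ C₂) : False := by
  have hs := h.autY_le_stab hE hC₁ hC hgE g1 g2 g3 hC₂
  refine h.notNormal E hE (Γ.𝔸 E ⊓ stab E C₁ C₂) inf_le_left
    ((isPGroup_stab h.pY E C₁ C₂).to_le inf_le_right) ?_ (le_inf (h.conj E hE) hs)
  intro a ha u hu
  obtain ⟨hu𝔸, hus⟩ := Subgroup.mem_inf.1 hu
  obtain ⟨-, -, u3, u4, u5⟩ := mem_stab.1 hus
  have hai := (Γ.𝔸 E).inv_mem ha
  refine Subgroup.mem_inf.2 ⟨(Γ.𝔸 E).mul_mem ((Γ.𝔸 E).mul_mem ha hu𝔸) hai, mem_stab.2 ⟨?_, ?_, ?_, ?_, ?_⟩⟩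
  all_goals intro e
  · intro he
    have he' := i₁ _ hai e he
    have h2 := C₁.mul_mem he' (hC₁ (u3 _ he'))
    rw [mul_inv_cancel_left] at h2
    exact i₁ a ha _ h2
  · intro he
    have he' := i₂ _ hai e he
    have h2 := C₂.mul_mem he' (hC (u4 _ he'))
    rw [mul_inv_cancel_left] at h2
    exact i₂ a ha _ h2
  all_goals
    obtain ⟨e, rfl⟩ := a.surjective e
    rw [MulAut.mul_apply, MulAut.mul_apply, MulAut.inv_apply_self, ← Subgroup.coe_inv,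
      ← map_inv, ← Subgroup.coe_mul, ← map_mul]
  · intro he
    refine phi_invariant a ?_
    simpa using u3 e (by simpa using i₁ _ hai _ he)
  · intro he
    refine i₁ a ha _ ?_
    simpa using u4 e (by simpa using i₂ _ hai _ he)
  · refine i₂ a ha _ ?_
    simpa using u5 e

/-- An element outside acts nontrivially on the Frattini quotient. -/
theorem act_ne (hE : E ∈ Γ.ℰ) {g : Y} (hgE : g ∉ E) :
    ∃ y ∈ E, y⁻¹ * (g * y * g⁻¹) ∉ phi E := by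
  by_contra hc
  push Not at hc
  exact h.flag hE le_rfl le_rfl (phi_le E) (fun α _ e he => phi_invariant α he)
    (fun α _ e he => phi_invariant α he) hgE (fun y hy => hc y (phi_le E hy))
    (fun y hy => hc y (phi_le E hy)) hc

end Sys.Good

end CfsgLib.RankThreeAmalgam
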