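import Cfsg.Agent.Lib.Fusion.RankThreeAmalgam.Shape

/-!
Elementary abelian subgroups of order `p ^ 3` through a common subgroup of order `p ^ 2`.
-/

set_option autoImplicit false
set_option linter.style.haveILetI false
set_option linter.unusedSectionVars false

namespace CfsgLib.RankThreeAmalgam

open Cfsg CfsgLib.RankThree
open scoped commutatorElement

variable {Y : Type*} [Group Y] [Finite Y] {p : ℕ} [hp : Fact p.Prime]

theorem comm_mul_left {a b c : Y} (h : a * ⁅b, c⁆ = ⁅b, c⁆ * a) (h' : Commute ⁅a, c⁆ ⁅b, c⁆) :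
    ⁅a * b, c⁆ = ⁅a, c⁆ * ⁅b, c⁆ := by
  have h1 : ⁅a * b, c⁆ = a * ⁅b, c⁆ * a⁻¹ * ⁅a, c⁆ := by simp only [commutatorElement_def]; group
  rw [h1, h, mul_inv_cancel_right, h'.eq]

theorem comm_mul_right {a b c : Y} (h : b * ⁅a, c⁆ = ⁅a, c⁆ * b) :
    ⁅a, b * c⁆ = ⁅a, b⁆ * ⁅a, c⁆ := by
  have h1 : ⁅a, b * c⁆ = ⁅a, b⁆ * (b * ⁅a, c⁆ * b⁻¹) := by simp only [commutatorElement_def]; group
  rw [h1, h, mul_inv_cancel_right]

/-- No elementary abelian subgroup of order `p ^ 4`. -/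
theorem four (hY : IsPGroup p Y) (hr : Cfsg.SectionalPRankLE p 3 Y) {A : Subgroup Y} (hA : Elem p A)
    (hc : p ^ 2 ≤ Nat.card A) {X X' : Y} (hXp : X ^ p = 1) (hX'p : X' ^ p = 1)
    (hXA : ∀ a ∈ A, a * X = X * a) (hX'A : ∀ a ∈ A, a * X' = X' * a) (hXX' : X * X' = X' * X)
    (hX : X ∉ A) (hX' : X' ∉ A ⊔ Subgroup.zpowers X) : False := by
  have e1 : Elem p (A ⊔ Subgroup.zpowers X) := hA.sup (Elem.zpowers hXp) fun a ha b hb => by
    obtain ⟨i, rfl⟩ := Subgroup.mem_zpowers_iff.1 hb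
    exact ((show Commute a X from hXA a ha).zpow_right i).eq
  have hc' : A ⊔ Subgroup.zpowers X ≤ Subgroup.centralizer {X'} := sup_le
    (fun a ha => Subgroup.mem_centralizer_singleton_iff.2 (hX'A a ha))
    (Subgroup.zpowers_le.2 (Subgroup.mem_centralizer_singleton_iff.2 hXX'))
  have e2 := e1.sup (Elem.zpowers hX'p) fun a ha b hb => by
    obtain ⟨i, rfl⟩ := Subgroup.mem_zpowers_iff.1 hb
    exact ((show Commute a X' from
      Subgroup.mem_centralizer_singleton_iff.1 (hc' ha)).zpow_right i).eq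
  have c1 := card_mul_le (p := p) hY (le_sup_left : A ≤ A ⊔ Subgroup.zpowers X)
    (Subgroup.mem_sup_right (Subgroup.mem_zpowers X)) hX
  have c2 := card_mul_le (p := p) hY
    (le_sup_left : A ⊔ Subgroup.zpowers X ≤ A ⊔ Subgroup.zpowers X ⊔ Subgroup.zpowers X')
    (Subgroup.mem_sup_right (Subgroup.mem_zpowers X')) hX'
  have h4 := e2.card_le hr
  have h5 : p ^ 4 ≤ p ^ 3 := by
    calc p ^ 4 = p * (p * p ^ 2) := by ring
      _ ≤ p * (p * Nat.card A) := Nat.mul_le_mul_left _ (Nat.mul_le_mul_left _ hc)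
      _ ≤ p * Nat.card (A ⊔ Subgroup.zpowers X : Subgroup Y) := Nat.mul_le_mul_left _ c1
      _ ≤ _ := c2.trans h4
  exact absurd ((Nat.pow_le_pow_iff_right hp.out.one_lt).1 h5) (by norm_num)

theorem eq_sup_of_card (hY : IsPGroup p Y) {A W : Subgroup Y} (hAW : A ≤ W)
    (hA : Nat.card A = p ^ 2) (hW : Nat.card W = p ^ 3) {n : Y} (hn : n ∈ W) (hnA : n ∉ A) :
    W = A ⊔ Subgroup.zpowers n := by
  refine (Subgroup.eq_of_le_of_card_ge (sup_le hAW (Subgroup.zpowers_le.2 hn)) ?_).symm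
  have h1 := card_mul_le (p := p) hY (le_sup_left : A ≤ A ⊔ Subgroup.zpowers n)
    (Subgroup.mem_sup_right (Subgroup.mem_zpowers n)) hnA
  rw [hA, ← pow_succ'] at h1
  rw [hW]
  exact h1

/-- A subgroup of order `p ^ 3` through `A`, elementary, inside an ambient `H` centralising `A`. -/
structure Triple (p : ℕ) (H A W : Subgroup Y) : Prop where
  elem : Elem p W
  le : A ≤ W
  leH : W ≤ H
  card : Nat.card W = p ^ 3
  normal : ∀ g ∈ H, ∀ w ∈ W, g * w * g⁻¹ ∈ W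

/-- The setting: `A` elementary of order `p ^ 2` and central in `H`. -/
structure Base (p : ℕ) (H A : Subgroup Y) : Prop where
  pY : IsPGroup p Y
  podd : p ≠ 2
  rank : Cfsg.SectionalPRankLE p 3 Y
  elem : Elem p A
  card : Nat.card A = p ^ 2
  cen : ∀ h ∈ H, ∀ a ∈ A, a * h = h * a

variable {H A W₁ W₂ W₃ : Subgroup Y}

theorem Triple.inf (hb : Base p H A) (h1 : Triple p H A W₁) (h2 : Triple p H A W₂) (hne : W₁ ≠ W₂)
    {w : Y} (hw1 : w ∈ W₁) (hw2 : w ∈ W₂) : w ∈ A := by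
  by_contra hwA
  exact hne ((eq_sup_of_card hb.pY h1.le hb.card h1.card hw1 hwA).trans
    (eq_sup_of_card hb.pY h2.le hb.card h2.card hw2 hwA).symm)

theorem Triple.comm_mem (hb : Base p H A) (h1 : Triple p H A W₁) (h2 : Triple p H A W₂) {a b : Y}
    (ha : a ∈ W₁) (hb' : b ∈ W₂) : ⁅a, b⁆ ∈ A := by
  rcases eq_or_ne W₁ W₂ with rfl | hne
  · rw [commutatorElement_eq_one_iff_mul_comm.2 (h1.elem.1 a ha b hb')]
    exact A.one_mem
  refine Triple.inf hb h1 h2 hne ?_ ?_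
  · rw [commutatorElement_def, mul_assoc, mul_assoc, ← mul_assoc b]
    exact W₁.mul_mem ha (h1.normal b (h2.leH hb') _ (W₁.inv_mem ha))
  · rw [commutatorElement_def]
    exact W₂.mul_mem (h2.normal a (h1.leH ha) _ hb') (W₂.inv_mem hb')

theorem Triple.exists_notMem (hb : Base p H A) (h1 : Triple p H A W₁) : ∃ n ∈ W₁, n ∉ A := by
  by_contra hc
  push Not at hc
  have := Subgroup.card_le_of_le hc
  rw [h1.card, hb.card] at this
  exact absurd ((Nat.pow_le_pow_iff_right hp.out.one_lt).1 this) (by norm_num)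

/-- Generators of two distinct members. -/
theorem Triple.comm_ne (hb : Base p H A) (h1 : Triple p H A W₁) (h2 : Triple p H A W₂) (hne : W₁ ≠ W₂)
    {n n' : Y} (hn : n ∈ W₁) (hnA : n ∉ A) (hn' : n' ∈ W₂) (hn'A : n' ∉ A) : ⁅n, n'⁆ ≠ 1 := by
  intro h
  refine four hb.pY hb.rank hb.elem hb.card.ge (h1.elem.2 n hn) (h2.elem.2 n' hn')
    (fun a ha => hb.cen n (h1.leH hn) a ha) (fun a ha => hb.cen n' (h2.leH hn') a ha)
    (commutatorElement_eq_one_iff_mul_comm.1 h) hnA fun hh => hn'A ?_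
  rw [← eq_sup_of_card hb.pY h1.le hb.card h1.card hn hnA] at hh
  exact Triple.inf hb h1 h2 hne hh hn'

/-- There is no third member. -/
theorem Triple.third (hb : Base p H A) (h1 : Triple p H A W₁) (h2 : Triple p H A W₂)
    (h3 : Triple p H A W₃) (hne : W₁ ≠ W₂) : W₃ ≤ W₁ ⊔ W₂ := by
  classical
  by_contra hle
  obtain ⟨n, hn, hnA⟩ := h1.exists_notMem hb
  obtain ⟨n', hn', hn'A⟩ := h2.exists_notMem hb
  obtain ⟨n3, hn3, hn3M⟩ := SetLike.not_le_iff_exists.1 hle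
  obtain ⟨M, hM⟩ : ∃ M, M = W₁ ⊔ W₂ := ⟨_, rfl⟩
  rw [← hM] at hn3M
  have hn3A : n3 ∉ A := fun hh => hn3M (hM ▸ Subgroup.mem_sup_left (h1.le hh))
  have hnM : n ∈ M := hM ▸ Subgroup.mem_sup_left hn
  have hn'M : n' ∈ M := hM ▸ Subgroup.mem_sup_right hn'
  have hAM : A ≤ M := hM ▸ h1.le.trans le_sup_left
  have hW13 : W₁ ≠ W₃ := fun e => hn3M (hM ▸ Subgroup.mem_sup_left (e ▸ hn3))
  have hW23 : W₂ ≠ W₃ := fun e => hn3M (hM ▸ Subgroup.mem_sup_right (e ▸ hn3))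
  obtain ⟨c, hc⟩ : ∃ c, c = ⁅n, n'⁆ := ⟨_, rfl⟩
  obtain ⟨f, hf⟩ : ∃ f, f = ⁅n, n3⁆ := ⟨_, rfl⟩
  obtain ⟨f', hf'⟩ : ∃ f', f' = ⁅n', n3⁆ := ⟨_, rfl⟩
  have hcA : c ∈ A := hc ▸ Triple.comm_mem hb h1 h2 hn hn'
  have hfA : f ∈ A := hf ▸ Triple.comm_mem hb h1 h3 hn hn3
  have hf'A : f' ∈ A := hf' ▸ Triple.comm_mem hb h2 h3 hn' hn3
  have hnH := h1.leH hn
  have hn'H := h2.leH hn'
  have hn3H := h3.leH hn3
  have hf1 : f ≠ 1 := hf ▸ Triple.comm_ne hb h1 h3 hW13 hn hnA hn3 hn3A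
  have hcomA : ∀ w ∈ H, ∀ a ∈ A, Commute a w := fun w hw a ha => hb.cen w hw a ha
  have hexp : ∀ {a b : Y}, a ∈ H → b ∈ H → a ^ p = 1 → b ^ p = 1 → ⁅a⁻¹, b⁆ ∈ A →
      (a * b) ^ p = 1 := by
    intro a b ha hb' hap hbp hd
    rw [mul_pow_two (d := ⁅a⁻¹, b⁆) (by simp only [commutatorElement_def]; group)
      (hcomA b hb' _ hd).symm.eq (hcomA a ha _ hd).eq (hb.elem.2 _ hd) hb.podd, hap, hbp, one_mul]
  have hzc : ∀ {a b : Y}, a ∈ H → b ∈ H → ⁅a, b⁆ ∈ A → ∀ i j : ℤ, ⁅a ^ i, b ^ j⁆ = ⁅a, b⁆ ^ (i * j) := by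
    intro a b ha hb' hab i j
    exact commutator_zpow rfl (hcomA a ha _ hab) (hcomA b hb' _ hab) i j
  have hnot : ∀ i : ℤ, ∀ w ∈ M, w * n3 ^ i ∈ M → ¬ ((i : ZMod p) ≠ 0) := by
    intro i w hw hmem hi
    have h' : n3 ^ i ∈ M := (M.mul_mem_cancel_left hw).1 hmem
    obtain ⟨k, hk⟩ := ZMod.intCast_surjective ((i : ZMod p)⁻¹)
    obtain ⟨d, hd⟩ := (ZMod.intCast_eq_intCast_iff_dvd_sub (i * k) 1 p).1
      (by rw [Int.cast_mul, hk, mul_inv_cancel₀ hi, Int.cast_one])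
    have := M.zpow_mem h' k
    rw [← zpow_mul, show i * k = 1 + (p : ℤ) * (-d) by rw [mul_neg]; omega, zpow_add, zpow_mul, zpow_natCast,
      h3.elem.2 n3 hn3, one_zpow, mul_one, zpow_one] at this
    exact hn3M this
  by_cases hdep : f' ∈ Subgroup.zpowers f
  · obtain ⟨b, hb'⟩ := Subgroup.mem_zpowers_iff.1 hdep
    obtain ⟨X, hX⟩ : ∃ X, X = n' * n ^ (-b) := ⟨_, rfl⟩
    have hnb : ⁅n ^ (-b), n3⁆ = f ^ (-b) := by
      have := hzc hnH hn3H (hf ▸ hfA) (-b) 1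
      rwa [zpow_one, mul_one, ← hf] at this
    refine four hb.pY hb.rank hb.elem hb.card.ge (X := X) (X' := n3) ?_ (h3.elem.2 n3 hn3)
      (fun a ha => hb.cen X (hX ▸ H.mul_mem hn'H (H.zpow_mem hnH _)) a ha)
      (fun a ha => hb.cen n3 hn3H a ha) ?_ ?_ fun hh => hn3M ?_
    · rw [hX]
      refine hexp hn'H (H.zpow_mem hnH _) (h2.elem.2 n' hn') ?_ ?_
      · exact h1.elem.2 _ (W₁.zpow_mem hn _)
      · exact Triple.comm_mem hb h2 h1 (W₂.inv_mem hn') (W₁.zpow_mem hn _)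
    · refine commutatorElement_eq_one_iff_mul_comm.1 ?_
      rw [hX, comm_mul_left (by rw [hnb]; exact (hcomA n' hn'H _ (A.zpow_mem hfA _)).symm.eq)
        (by rw [hnb, ← hf']; exact hb.elem.1 _ hf'A _ (A.zpow_mem hfA _)), hnb, ← hf', ← hb',
        ← zpow_add, add_neg_cancel, zpow_zero]
    · intro hh
      have h4 : n' ∈ W₁ := by
        have := W₁.mul_mem (h1.le hh) (W₁.zpow_mem hn b)
        rwa [hX, mul_assoc, ← zpow_add, neg_add_cancel, zpow_zero, mul_one] at this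
      exact hn'A (Triple.inf hb h1 h2 hne h4 hn')
    · refine (sup_le hAM (Subgroup.zpowers_le.2 ?_) : A ⊔ Subgroup.zpowers X ≤ M) hh
      rw [hX]; exact M.mul_mem hn'M (M.zpow_mem hnM _)
  · have hAeq : A = Subgroup.zpowers f ⊔ Subgroup.zpowers f' := by
      refine (Subgroup.eq_of_le_of_card_ge (sup_le (Subgroup.zpowers_le.2 hfA)
        (Subgroup.zpowers_le.2 hf'A)) ?_).symm
      have h4 := card_mul_le (p := p) hb.pY (le_sup_left : Subgroup.zpowers f ≤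
        Subgroup.zpowers f ⊔ Subgroup.zpowers f') (Subgroup.mem_sup_right (Subgroup.mem_zpowers f'))
        hdep
      rw [Nat.card_zpowers, orderOf_eq_prime (hb.elem.2 f hfA) hf1, ← pow_two] at h4
      rw [hb.card]
      exact h4
    obtain ⟨i, j, hcij⟩ : ∃ i j : ℤ, c = f ^ i * f' ^ j := by
      obtain ⟨a1, ha1, a2, ha2, hea⟩ : ∃ a1 ∈ Subgroup.zpowers f, ∃ a2 ∈ Subgroup.zpowers f',
          c = a1 * a2 := by
        have h5 : c ∈ Subgroup.zpowers f ⊔ Subgroup.zpowers f' := hAeq ▸ hcA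
        have hnor : Subgroup.zpowers f' ≤ Subgroup.normalizer (Subgroup.zpowers f : Set Y) := by
          refine Subgroup.zpowers_le.2 (Subgroup.mem_normalizer_fintype fun w hw => ?_)
          rw [hb.elem.1 f' hf'A w ((Subgroup.zpowers_le.2 hfA) hw), mul_inv_cancel_right]
          exact hw
        rw [← SetLike.mem_coe, Subgroup.coe_mul_of_right_le_normalizer_left _ _ hnor] at h5
        obtain ⟨a1, ha1, a2, ha2, he⟩ := h5
        exact ⟨a1, ha1, a2, ha2, he.symm⟩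
      obtain ⟨i, rfl⟩ := Subgroup.mem_zpowers_iff.1 ha1
      obtain ⟨j, rfl⟩ := Subgroup.mem_zpowers_iff.1 ha2
      exact ⟨i, j, hea⟩
    obtain ⟨X, hX⟩ : ∃ X, X = n * n3 ^ j := ⟨_, rfl⟩
    obtain ⟨X', hX'⟩ : ∃ X', X' = n' * n3 ^ (-i) := ⟨_, rfl⟩
    have hXH : X ∈ H := hX ▸ H.mul_mem hnH (H.zpow_mem hn3H _)
    have hX'H : X' ∈ H := hX' ▸ H.mul_mem hn'H (H.zpow_mem hn3H _)
    have e1 : ⁅n, n3 ^ (-i)⁆ = f ^ (-i) := by
      have := hzc hnH hn3H (hf ▸ hfA) 1 (-i)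
      rwa [zpow_one, one_mul, ← hf] at this
    have e2 : ⁅n3 ^ j, n'⁆ = f' ^ (-j) := by
      have := hzc hn3H hn'H (Triple.comm_mem hb h3 h2 hn3 hn') j 1
      rwa [zpow_one, mul_one, ← commutatorElement_inv n' n3, ← hf', inv_zpow, ← zpow_neg] at this
    have e3 : ⁅n3 ^ j, n3 ^ (-i)⁆ = 1 :=
      commutatorElement_eq_one_iff_mul_comm.2 (Commute.zpow_zpow_self n3 _ _).eq
    have e4 : ⁅n3 ^ j, X'⁆ = f' ^ (-j) := by
      rw [hX', comm_mul_right (by rw [e3, mul_one, one_mul]), e3, mul_one, e2]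
    have e5 : ⁅n, X'⁆ = c * f ^ (-i) := by
      rw [hX', comm_mul_right (by rw [e1]; exact (hcomA n' hn'H _ (A.zpow_mem hfA _)).symm.eq), e1, hc]
    have hXX' : ⁅X, X'⁆ = 1 := by
      rw [hX, comm_mul_left (by rw [e4]; exact (hcomA n hnH _ (A.zpow_mem hf'A _)).symm.eq)
        (by rw [e4, e5]; exact hb.elem.1 _ (A.mul_mem hcA (A.zpow_mem hfA _)) _
              (A.zpow_mem hf'A _)), e4, e5, hcij]
      have c1 : Commute f f' := hb.elem.1 f hfA f' hf'A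
      rw [zpow_neg, zpow_neg, (c1.zpow_zpow i j).eq]
      group
    refine four hb.pY hb.rank hb.elem hb.card.ge (X := X) (X' := X') ?_ ?_
      (fun a ha => hb.cen X hXH a ha) (fun a ha => hb.cen X' hX'H a ha)
      (commutatorElement_eq_one_iff_mul_comm.1 hXX') ?_ fun hh => ?_
    · rw [hX]
      exact hexp hnH (H.zpow_mem hn3H _) (h1.elem.2 n hn) (h3.elem.2 _ (W₃.zpow_mem hn3 _))
        (Triple.comm_mem hb h1 h3 (W₁.inv_mem hn) (W₃.zpow_mem hn3 _))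
    · rw [hX']
      exact hexp hn'H (H.zpow_mem hn3H _) (h2.elem.2 n' hn') (h3.elem.2 _ (W₃.zpow_mem hn3 _))
        (Triple.comm_mem hb h2 h3 (W₂.inv_mem hn') (W₃.zpow_mem hn3 _))
    · intro hh
      by_cases hj : ((j : ℤ) : ZMod p) = 0
      · obtain ⟨d, rfl⟩ := (ZMod.intCast_zmod_eq_zero_iff_dvd j p).1 hj
        rw [hX, zpow_mul, zpow_natCast, h3.elem.2 n3 hn3, one_zpow, mul_one] at hh
        exact hnA hh
      · exact hnot j n hnM (hX ▸ hAM hh) hj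
    · -- `X'` modulo `A⟨X⟩`
      have hnor : Subgroup.zpowers X ≤ Subgroup.normalizer (A : Set Y) := by
        refine Subgroup.zpowers_le.2 (Subgroup.mem_normalizer_fintype fun w hw => ?_)
        rw [← hb.cen X hXH w hw, mul_inv_cancel_right]; exact hw
      rw [← SetLike.mem_coe, Subgroup.coe_mul_of_right_le_normalizer_left _ _ hnor] at hh
      obtain ⟨a, ha, _, ⟨m, rfl⟩, he⟩ := hh
      have he' : a * X ^ m = n' * n3 ^ (-i) := he.trans hX'
      have hXm : X ^ m * (n ^ m * n3 ^ (j * m))⁻¹ ∈ A := by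
        obtain ⟨C, hC⟩ : ∃ C : Subgroup Y, C = W₁ ⊔ W₃ := ⟨_, rfl⟩
        have hCn : ∀ g ∈ C, ∀ w ∈ A, g * w * g⁻¹ ∈ A := fun g hg w hw => by
          rw [← hb.cen g ((hC ▸ sup_le h1.leH h3.leH : C ≤ H) hg) w hw, mul_inv_cancel_right]
          exact hw
        have hnC : n ∈ C := hC ▸ Subgroup.mem_sup_left hn
        have hn3C : n3 ∈ C := hC ▸ Subgroup.mem_sup_right hn3
        haveI : (A.subgroupOf C).Normal := ⟨fun z hz g => hCn g g.2 z hz⟩
        obtain ⟨π, hπ⟩ : ∃ π : C →* C ⧸ A.subgroupOf C, π = QuotientGroup.mk' (A.subgroupOf C) :=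
          ⟨_, rfl⟩
        have hcom : Commute (π ⟨n, hnC⟩) (π ⟨n3, hn3C⟩) := by
          rw [← commutatorElement_eq_one_iff_commute, ← map_commutatorElement, hπ,
            QuotientGroup.mk'_apply, QuotientGroup.eq_one_iff, Subgroup.mem_subgroupOf]
          simpa [commutatorElement_def, hf] using hfA
        have h6 : π ((⟨n, hnC⟩ * ⟨n3, hn3C⟩ ^ j) ^ m *
            (⟨n, hnC⟩ ^ m * ⟨n3, hn3C⟩ ^ (j * m))⁻¹) = 1 := by
          simp only [map_mul, map_inv, map_zpow]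
          rw [(hcom.zpow_right j).mul_zpow, zpow_mul, mul_inv_cancel]
        rw [hπ, QuotientGroup.mk'_apply, QuotientGroup.eq_one_iff, Subgroup.mem_subgroupOf] at h6
        rw [hX]
        simpa using h6
      have h7 : n' * n3 ^ (-i) * (n3 ^ (j * m))⁻¹ ∈ W₁ := by
        rw [← he']
        have h8 : a * (X ^ m * (n ^ m * n3 ^ (j * m))⁻¹) * n ^ m =
            a * X ^ m * (n3 ^ (j * m))⁻¹ := by group
        rw [← h8]
        exact W₁.mul_mem (W₁.mul_mem (h1.le ha) (h1.le hXm)) (W₁.zpow_mem hn m)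
      rw [mul_assoc, ← zpow_neg, ← zpow_add] at h7
      obtain ⟨t, ht⟩ : ∃ t : ℤ, t = -i + -(j * m) := ⟨_, rfl⟩
      rw [← ht] at h7
      by_cases ht0 : (t : ZMod p) = 0
      · obtain ⟨d, rfl⟩ := (ZMod.intCast_zmod_eq_zero_iff_dvd t p).1 ht0
        rw [zpow_mul, zpow_natCast, h3.elem.2 n3 hn3, one_zpow, mul_one] at h7
        exact hn'A (Triple.inf hb h1 h2 hne h7 hn')
      · exact hnot t n' hn'M (hM ▸ Subgroup.mem_sup_left h7) ht0

end CfsgLib.RankThreeAmalgam
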