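import Cfsg.Agent.Lib.Fusion.RankThreeAmalgam.Quot
import Cfsg.Agent.Lib.Fusion.RankThreeAmalgam.Layer
import Cfsg.Agent.Lib.Fusion.RankThreeAmalgam.MovingBasic

/-!
The members act trivially on the image of the invariant subgroup in their Frattini quotients.
-/

set_option autoImplicit false
set_option linter.style.haveILetI false
set_option linter.unusedSectionVars false

namespace CfsgLib.RankThreeAmalgam

open Cfsg CfsgLib.RankThree
open scoped commutatorElement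

variable {Y : Type*} [Group Y] [Finite Y] {p : ℕ} [hp : Fact p.Prime] {Γ : Sys Y} {K : Subgroup Y}

/-- The whole group is trivial on the image of `K` in `E / Φ(E)`. -/
def TrivOn (K E : Subgroup Y) : Prop := ∀ g : Y, ∀ y ∈ K, y⁻¹ * (g * y * g⁻¹) ∈ phi E

/-- The elements centralising `K / Φ(K)`. -/
def actKer (K : Subgroup Y) [(phi K).Normal] : Subgroup Y :=
  (Subgroup.centralizer ((K.map (QuotientGroup.mk' (phi K))) : Set (Y ⧸ phi K))).comap
    (QuotientGroup.mk' (phi K))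

theorem mem_actKer [(phi K).Normal] {x : Y} : x ∈ actKer K ↔
    ∀ k ∈ K, Commute (QuotientGroup.mk' (phi K) x) (QuotientGroup.mk' (phi K) k) := by
  rw [actKer, Subgroup.mem_comap, Subgroup.mem_centralizer_iff]
  exact ⟨fun h k hk => (h _ ⟨k, hk, rfl⟩).symm, fun h b ⟨k, hk, hkb⟩ => hkb ▸ (h k hk).symm⟩

theorem mem_actKer' [(phi K).Normal] {x : Y} : x ∈ actKer K ↔ ∀ k ∈ K, ⁅x, k⁆ ∈ phi K := by
  rw [mem_actKer]
  refine forall₂_congr fun k _ => ?_
  rw [← QuotientGroup.eq_one_iff (N := phi K), ← QuotientGroup.mk'_apply, map_commutatorElement,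
    commutatorElement_eq_one_iff_commute]

theorem elem_map_phi (hY : IsPGroup p Y) [(phi K).Normal] :
    Elem p (K.map (QuotientGroup.mk' (phi K))) := by
  refine ⟨?_, ?_⟩
  · rintro _ ⟨a, ha, rfl⟩ _ ⟨b, hb, rfl⟩
    rw [← commutatorElement_eq_one_iff_mul_comm, ← map_commutatorElement, QuotientGroup.mk'_apply,
      QuotientGroup.eq_one_iff]
    exact comm_phi hY ha hb
  · rintro _ ⟨a, ha, rfl⟩
    rw [← map_pow, QuotientGroup.mk'_apply, QuotientGroup.eq_one_iff]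
    exact pow_phi hY ha

theorem self_le_actKer (hY : IsPGroup p Y) [(phi K).Normal] : K ≤ actKer K :=
  fun _ hx => mem_actKer'.2 fun _ hk => comm_phi hY hx hk

theorem actKer_invariant (hY : IsPGroup p Y) [(phi K).Normal] {E : Subgroup Y} (hKE : K ≤ E)
    (α : MulAut E) (hα : ∀ e : E, (e : Y) ∈ K → (α e : Y) ∈ K)
    (hα' : ∀ e : E, (e : Y) ∈ K → (α⁻¹ e : Y) ∈ K) {x : E} (hx : (x : Y) ∈ actKer K) :
    (α x : Y) ∈ actKer K := by
  refine mem_actKer'.2 fun k hk => ?_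
  obtain ⟨k', hk'⟩ : ∃ k' : E, k' = α⁻¹ ⟨k, hKE hk⟩ := ⟨_, rfl⟩
  have hk'K : (k' : Y) ∈ K := hk' ▸ hα' _ hk
  have h1 := phi_invariant_of (p := p) hY hKE α hα (e := ⁅x, k'⁆)
    (by simpa [commutatorElement_def] using mem_actKer'.1 hx _ hk'K)
  rw [map_commutatorElement, show α k' = ⟨k, hKE hk⟩ by rw [hk', MulAut.apply_inv_self]] at h1
  simpa [commutatorElement_def] using h1

/-- Adding the Frattini subgroup does not help to generate. -/
theorem gen_of_sup_phi {E R : Subgroup Y} (hR : R ≤ E) (h : E ≤ R ⊔ phi E) : R = E := by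
  have h1 : R.subgroupOf E ⊔ frattini E = ⊤ := by
    refine Subgroup.map_injective E.subtype_injective ?_
    rw [Subgroup.map_sup, Subgroup.map_subgroupOf_eq_of_le hR, ← MonoidHom.range_eq_map,
      Subgroup.range_subtype]
    exact le_antisymm (sup_le hR (phi_le E)) h
  exact le_antisymm hR (Subgroup.subgroupOf_eq_top.1 (frattini_nongenerating h1))

/-- A normal subgroup with a step of order at most `p`. -/
theorem comm_mem_of_le (hY : IsPGroup p Y) {A B : Subgroup Y} [A.Normal] [B.Normal] (hAB : A ≤ B)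
    (h : A.relIndex B ≤ p) {b : Y} (hb : b ∈ B) (g : Y) : ⁅b, g⁆ ∈ A := by
  obtain ⟨i, hi⟩ := (hY.to_subgroup B).index (A.subgroupOf B)
  have hi1 : i ≤ 1 := by
    refine (Nat.pow_le_pow_iff_right hp.out.one_lt).1 ?_
    rw [← hi, pow_one]
    exact h
  interval_cases i
  · have h0 := Subgroup.subgroupOf_eq_top.1 (Subgroup.index_eq_one.1 (by rw [hi, pow_zero]))
    rw [commutatorElement_def, mul_assoc, mul_assoc, ← mul_assoc g]
    exact h0 (B.mul_mem hb ((inferInstance : B.Normal).conj_mem _ (B.inv_mem hb) g))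
  · exact comm_mem_of_step hY hAB (by rw [← pow_one p, ← hi]; rfl) b hb g

namespace Sys.Good

variable (h : Γ.Good p) (hK : Γ.Inv K) {E E' : Subgroup Y}

include h hK

theorem not_le (hE : E ∈ Γ.ℰ) (hE' : E' ∈ Γ.ℰ) (hne : E ≠ E') : ¬ E ≤ E' := by
  intro hle
  obtain ⟨w, hw, hwE⟩ : ∃ w ∈ E', w ∉ E := by
    by_contra hc
    push Not at hc
    exact hne (le_antisymm hle hc)
  have h1 := eq_of_prime_index (h.idx E hE) hle hw hwE
  obtain ⟨g, hg⟩ := h.exists_notMem hE'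
  exact hg (h1.ge (Subgroup.mem_top g))

theorem sup_phi_lt (hE : E ∈ Γ.ℰ) (hE' : E' ∈ Γ.ℰ) (hne : E ≠ E') : ¬ E ≤ K ⊔ phi E := fun hle =>
  h.not_le hK hE hE' hne ((gen_of_sup_phi (hK.le E hE) hle).ge.trans (hK.le E' hE'))

/-- A nontrivial action on the image of `K` forces a plane and a cyclic quotient. -/
theorem nontriv_data [K.Normal] (hE : E ∈ Γ.ℰ) (hE' : E' ∈ Γ.ℰ) (hne : E ≠ E') (hn : ¬ TrivOn K E) :
    (phi E).relIndex (K ⊔ phi E) = p ^ 2 ∧ (K ⊔ phi E).relIndex E = p ∧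
      ∃ e ∈ E, E = K ⊔ Subgroup.zpowers e := by
  haveI := h.phi_normal hE
  haveI := h.normal hE
  obtain ⟨C, hC⟩ : ∃ C, C = K ⊔ phi E := ⟨_, rfl⟩
  haveI : C.Normal := hC ▸ inferInstance
  have hCE : C ≤ E := hC ▸ sup_le (hK.le E hE) (phi_le E)
  have hΦC : phi E ≤ C := hC ▸ le_sup_right
  obtain ⟨i, hi⟩ := (h.pY.to_subgroup C).index ((phi E).subgroupOf C)
  obtain ⟨j, hj⟩ := (h.pY.to_subgroup E).index (C.subgroupOf E)
  have hij : i + j ≤ 3 := by
    refine (Nat.pow_le_pow_iff_right hp.out.one_lt).1 ?_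
    rw [pow_add, ← hi, ← hj]
    refine le_of_eq_of_le (Subgroup.relIndex_mul_relIndex (phi E) C E hΦC hCE) ?_
    exact relIndex_le h.rank (fun g _ y hy => (h.phi_normal hE).conj_mem y hy g)
      (fun a ha b hb => comm_phi h.pY ha hb) fun a ha => pow_phi h.pY ha
  have hi2 : 2 ≤ i := by
    by_contra hlt
    refine hn fun g y hy => ?_
    have h1 : ⁅y⁻¹, g⁆ ∈ phi E := comm_mem_of_le (A := phi E) (B := C) h.pY hΦC
      (show ((phi E).subgroupOf C).index ≤ p by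
        rw [hi]
        exact (Nat.pow_le_pow_right hp.out.pos (by omega : i ≤ 1)).trans (pow_one p).le)
      (C.inv_mem (hC ▸ Subgroup.mem_sup_left hy)) g
    rwa [commutatorElement_def, inv_inv, mul_assoc, mul_assoc, ← mul_assoc g] at h1
  have hj1 : 1 ≤ j := by
    rcases Nat.eq_zero_or_pos j with rfl | hpos
    · exact absurd (hC ▸ Subgroup.subgroupOf_eq_top.1 (Subgroup.index_eq_one.1
        (hj.trans (pow_zero p)))) (h.sup_phi_lt hK hE hE' hne)
    · exact hpos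
  have hCi : C.relIndex E = p := by
    show (C.subgroupOf E).index = p
    rw [hj, show j = 1 by omega, pow_one]
  refine ⟨hC ▸ ?_, hC ▸ hCi, ?_⟩
  · show ((phi E).subgroupOf C).index = p ^ 2
    rw [hi, show i = 2 by omega]
  obtain ⟨e, he, heC⟩ := SetLike.not_le_iff_exists.1 (hC ▸ h.sup_phi_lt hK hE hE' hne : ¬ E ≤ C)
  refine ⟨e, he, (gen_of_sup_phi (sup_le (hK.le E hE) (Subgroup.zpowers_le.2 he)) fun x hx => ?_).symm⟩
  obtain ⟨d, hd, z, hz, rfl⟩ := exists_decomp_of_prime hCE hCi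
    (le_normalizer_of_conj fun g hg y hy => (inferInstance : C.Normal).conj_mem y hy g) he heC
    (W := Subgroup.zpowers e) (Subgroup.zpowers_le.2 he) (Subgroup.mem_zpowers e) x hx
  have hCle : C ≤ K ⊔ Subgroup.zpowers e ⊔ phi E :=
    hC ▸ sup_le (le_sup_left.trans le_sup_left) le_sup_right
  exact Subgroup.mul_mem _ (hCle hd)
    (Subgroup.mem_sup_left (Subgroup.mem_sup_right hz))

theorem inter_cyclic [K.Normal] (hE : E ∈ Γ.ℰ) (hE' : E' ∈ Γ.ℰ) (hne : E ≠ E') {e : Y}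
    (he : E = K ⊔ Subgroup.zpowers e) {x : Y} (hx : x ∈ E ⊓ E') :
    ∃ k ∈ K, ∃ i : ℤ, x = k * (e ^ p) ^ i := by
  obtain ⟨hxE, hxE'⟩ := Subgroup.mem_inf.1 hx
  rw [he] at hxE
  obtain ⟨k, hk, z, hz, rfl⟩ := Subgroup.mem_sup_of_normal_left.1 hxE
  obtain ⟨n, rfl⟩ := Subgroup.mem_zpowers_iff.1 hz
  have hk' := hK.le E' hE' hk
  have hn' : e ^ n ∈ E' := by
    have := E'.mul_mem (E'.inv_mem hk') hxE'
    rwa [inv_mul_cancel_left] at this
  have hnle := h.not_le hK hE hE' hne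
  have heE' : e ∉ E' := fun hc => hnle (he.le.trans (sup_le (hK.le E' hE') (Subgroup.zpowers_le.2 hc)))
  haveI := h.normal hE'
  have hep : e ^ p ∈ E' := by
    have := Subgroup.pow_index_mem E' e
    rwa [h.idx E' hE'] at this
  obtain ⟨i, rfl⟩ : (p : ℤ) ∣ n := by
    by_contra hnd
    obtain ⟨a, b, hab⟩ := ((Nat.prime_iff_prime_int.1 hp.out).coprime_iff_not_dvd.2 hnd)
    refine heE' ?_
    rw [← zpow_one e, ← hab, zpow_add, mul_comm a, mul_comm b, zpow_mul, zpow_mul, zpow_natCast]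
    exact E'.mul_mem (E'.zpow_mem hep a) (E'.zpow_mem hn' b)
  exact ⟨k, hk, i, by rw [zpow_mul, zpow_natCast]⟩

/-- In the cyclic situation the member centralises `K / Φ(K)`. -/
theorem le_actKer_of_not_triv [K.Normal] [(phi K).Normal] (hE : E ∈ Γ.ℰ) (hE' : E' ∈ Γ.ℰ)
    (hne : E ≠ E') (hn : ¬ TrivOn K E) : E ≤ actKer K := by
  obtain ⟨hΦC, hCE, e, he, hEe⟩ := h.nontriv_data hK hE hE' hne hn
  haveI := h.phi_normal hE
  haveI := h.normal hE
  haveI := h.normal hE'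
  have hY := h.pY
  obtain ⟨π, hπ⟩ : ∃ π, π = QuotientGroup.mk' (phi K) := ⟨_, rfl⟩
  have hπs : Function.Surjective π := hπ ▸ QuotientGroup.mk'_surjective _
  have hπ1 : ∀ {w}, w ∈ phi K → π w = 1 := fun hw => by
    rw [hπ, QuotientGroup.mk'_apply, QuotientGroup.eq_one_iff]; exact hw
  have hKel := elem_map_phi (p := p) (K := K) hY
  obtain ⟨A, c, hs⟩ := exists_series (hY.to_quotient (phi K)) (quot_rank h.rank)
    ((inferInstance : K.Normal).map _ (QuotientGroup.mk'_surjective _)) hKel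
  have hi : (E ⊓ E').relIndex E = p := by
    rw [inf_comm]
    exact inf_relIndex inferInstance (h.idx E' hE') (h.not_le hK hE hE' hne)
  have hkill : ∀ f ∈ E, ∀ g : Y, ⁅f, g⁆ ∈ actKer K := fun f hf g => by
    obtain ⟨k, hk, i, hki⟩ := h.inter_cyclic hK hE hE' hne hEe
      (comm_mem_of_step hY (inf_le_left : E ⊓ E' ≤ E) hi f hf g)
    rw [hki]
    refine (actKer K).mul_mem (self_le_actKer hY hk) ((actKer K).zpow_mem (mem_actKer.2 fun k hk => ?_) i)
    rw [map_pow]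
    exact hs.pow_commute h.podd _ ⟨k, hk, rfl⟩
  have hR : ∀ k ∈ K, k ∈ phi E → ∀ g : Y, ⁅k, g⁆ ∈ phi K := by
    intro k hk hkE g
    have h1 : (phi E ⊓ K).relIndex K = p ^ 2 := by
      rw [Subgroup.inf_relIndex_right, ← Subgroup.relIndex_sup_right K (phi E)]
      exact hΦC
    obtain ⟨i, hi⟩ := (hY.to_subgroup (phi E ⊓ K : Subgroup Y)).index ((phi K).subgroupOf (phi E ⊓ K))
    have hΦK : phi K ≤ phi E ⊓ K := le_inf
      (phi_le_of (p := p) (fun a _ y hy => (h.phi_normal hE).conj_mem y hy a)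
        (fun a ha b hb => comm_phi hY (hK.le E hE ha) (hK.le E hE hb))
        fun a ha => pow_phi hY (hK.le E hE ha)) (phi_le K)
    refine comm_mem_of_le hY hΦK ?_ ⟨hkE, hk⟩ g
    have h2 : (phi K).relIndex K ≤ p ^ 3 := relIndex_le h.rank
      (fun a _ y hy => (inferInstance : (phi K).Normal).conj_mem y hy a)
      (fun a ha b hb => comm_phi hY ha hb) fun a ha => pow_phi hY ha
    rw [← Subgroup.relIndex_mul_relIndex (phi K) _ K hΦK inf_le_right, h1, pow_succ' p 2] at h2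
    exact Nat.le_of_mul_le_mul_right h2 (pow_pos hp.out.pos 2)
  intro f hf
  obtain ⟨d, hd⟩ : ∃ d, d = Subgroup.centralizer {π f} := ⟨_, rfl⟩
  obtain ⟨M, hM⟩ : ∃ M, M = K ⊓ d.comap π := ⟨_, rfl⟩
  have hmemM : ∀ k, k ∈ M ↔ k ∈ K ∧ Commute (π f) (π k) := fun k => by
    rw [hM, Subgroup.mem_inf, Subgroup.mem_comap, hd, Subgroup.mem_centralizer_singleton_iff]
    exact and_congr_right fun _ => eq_comm
  suffices hKM : K ≤ M from mem_actKer.2 fun k hk => hπ ▸ ((hmemM k).1 (hKM hk)).2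
  have hRM : ∀ k ∈ K, k ∈ phi E → k ∈ M := fun k hk hkE => (hmemM k).2 ⟨hk, by
    rw [← commutatorElement_eq_one_iff_commute, ← map_commutatorElement]
    refine hπ1 ?_
    rw [← commutatorElement_inv]
    exact (phi K).inv_mem (hR k hk hkE f)⟩
  -- translations commuting with the action
  have key : ∀ τ : MulAut E, (∀ x : E, (x : Y) ∈ K → (τ x : Y) ∈ K) →
      (∀ x : E, (x : Y) ∈ K → (x : Y) ∈ phi E → (x : Y)⁻¹ * τ x ∈ phi K) →
      (∀ x : E, (x : Y)⁻¹ * τ x ∈ actKer K) →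
      ∀ x : E, (x : Y) ∈ K → (x : Y)⁻¹ * τ x ∈ M := by
    intro τ t1 t2 t3 x hx
    refine (hmemM _).2 ⟨K.mul_mem (K.inv_mem hx) (t1 x hx), ?_⟩
    obtain ⟨D, hD⟩ : ∃ D : E, D = ⁅(⟨f, hf⟩ : E), x⁆ := ⟨_, rfl⟩
    have hDY : (D : Y) = ⁅f, (x : Y)⁆ := by rw [hD]; simp [commutatorElement_def]
    have hDR : (D : Y) ∈ K ∧ (D : Y) ∈ phi E := by
      rw [hDY]
      exact ⟨K.mul_mem ((inferInstance : K.Normal).conj_mem _ hx f) (K.inv_mem hx),
        comm_phi hY hf x.2⟩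
    have h1 : π (τ D : Y) = π (D : Y) := by
      rw [← mul_inv_cancel_left (D : Y) (τ D : Y), map_mul, hπ1 (t2 D hDR.1 hDR.2), mul_one]
    have h2 : π (τ D : Y) = ⁅π f * π (f⁻¹ * (τ ⟨f, hf⟩ : Y)), π (τ x : Y)⁆ := by
      rw [hD, map_commutatorElement]
      simp [commutatorElement_def]
    have ha : Commute (π (f⁻¹ * (τ ⟨f, hf⟩ : Y))) (π (τ x : Y)) :=
      hπ ▸ mem_actKer.1 (t3 ⟨f, hf⟩) _ (t1 x hx)
    rw [h2, hDY, map_commutatorElement] at h1
    generalize π (f⁻¹ * (τ ⟨f, hf⟩ : Y)) = a at h1 ha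
    simp only [commutatorElement_def] at h1
    rw [map_mul, map_inv]
    generalize π (x : Y) = u at h1 ⊢
    generalize π (τ x : Y) = w at h1 ha ⊢
    generalize π f = F at h1 ⊢
    have h3 : F * w * F⁻¹ * w⁻¹ = F * u * F⁻¹ * u⁻¹ := by
      rw [← h1, mul_inv_rev, ← mul_assoc _ a⁻¹, mul_assoc F a w, ha.eq, ← mul_assoc,
        mul_inv_cancel_right]
    show F * (u⁻¹ * w) = u⁻¹ * w * F
    calc F * (u⁻¹ * w) = (F * u * F⁻¹ * u⁻¹ * u)⁻¹ * (F * w * F⁻¹ * w⁻¹ * w) * F := by group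
      _ = u⁻¹ * w * F := by rw [h3]; group
  obtain ⟨L, hL⟩ : ∃ L, L = ⁅(⊤ : Subgroup Y), K⁆ ⊔ phi E := ⟨_, rfl⟩
  haveI hLn : L.Normal := hL ▸ inferInstance
  obtain ⟨C, hC⟩ : ∃ C, C = K ⊔ phi E := ⟨_, rfl⟩
  haveI hCn : C.Normal := hC ▸ inferInstance
  have hLC : L ≤ C := hL ▸ hC ▸ sup_le_sup_right (Subgroup.commutator_le_right ⊤ K) _
  have hΦL : phi E ≤ L := hL ▸ le_sup_right
  have hCle : C ≤ E := hC ▸ sup_le (hK.le E hE) (phi_le E)
  have hLstep : (phi E).relIndex L ≤ p := by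
    obtain ⟨q, hq⟩ : ∃ q, q = QuotientGroup.mk' (phi E) := ⟨_, rfl⟩
    have hqs : Function.Surjective q := hq ▸ QuotientGroup.mk'_surjective _
    have hcard : ∀ Z : Subgroup Y, Nat.card (Z.map q) = (phi E).relIndex Z := fun Z => by
      rw [hq, ← Subgroup.relIndex_bot_left, ← Subgroup.relIndex_comap, MonoidHom.comap_bot,
        QuotientGroup.ker_mk']
    have h1 := commutator_top_card_le (n := 1) (hY.to_quotient (phi E)) (hCn.map q hqs)
      (by rw [hcard, hC, hΦC])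
    rw [pow_one] at h1
    refine le_trans ?_ h1
    rw [← hcard]
    refine Subgroup.card_le_of_le ?_
    rw [hL, Subgroup.map_sup, Subgroup.map_commutator, Subgroup.map_top_of_surjective q hqs]
    refine sup_le (Subgroup.commutator_mono le_rfl (Subgroup.map_mono (hC ▸ le_sup_left))) ?_
    rintro _ ⟨w, hw, rfl⟩
    rw [hq, QuotientGroup.mk'_apply, (QuotientGroup.eq_one_iff w).2 hw]
    exact Subgroup.one_mem _
  have hinL : ∀ k ∈ K, ∀ g : Y, k⁻¹ * (g * k * g⁻¹) ∈ L := fun k hk g => by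
    have h1 := hLn.conj_mem _ (hL ▸ Subgroup.mem_sup_left (Subgroup.commutator_mem_commutator
      (Subgroup.mem_top g) hk) : ⁅g, k⁆ ∈ L) k⁻¹
    rwa [commutatorElement_def, show k⁻¹ * (g * k * g⁻¹ * k⁻¹) * k⁻¹⁻¹ = k⁻¹ * (g * k * g⁻¹) by
      group] at h1
  obtain ⟨α, hα, x0, hx0, hαx0⟩ : ∃ α ∈ Γ.𝔸 E, ∃ x0 : E, (x0 : Y) ∈ L ∧ (α x0 : Y) ∉ L := by
    by_contra hc
    push Not at hc
    obtain ⟨g, hg, hgE⟩ := SetLike.not_le_iff_exists.1 (h.not_le hK hE' hE hne.symm)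
    refine h.flag hE (C₁ := L) (C₂ := C) hΦL hLC hCle hc
      (fun α hα y hy => hC ▸ hK.sup_phi hE hα (hC ▸ hy)) (g := g) hgE ?_ ?_ fun y hy => ?_
    · intro y hy
      have h1 := comm_mem_of_le hY hΦL hLstep (L.inv_mem hy) g
      rwa [commutatorElement_def, inv_inv, mul_assoc, mul_assoc, ← mul_assoc g] at h1
    · exact fun y hy => triv_sup (fun k hk => hinL k hk g) ((hC ▸ sup_le_sup_left hΦL K : C ≤ K ⊔ L) hy)
    · haveI := h.normal hE
      have h1 := comm_mem_of_step hY hCle (hC ▸ hCE) y⁻¹ (E.inv_mem hy) g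
      rwa [commutatorElement_def, inv_inv, mul_assoc, mul_assoc, ← mul_assoc g] at h1
  have hconj : ∀ g : Y, ∀ σ : MulAut E, (∀ x : E, (σ x : Y) = g * x * g⁻¹) →
      (∀ x : E, (x : Y) ∈ K → (σ x : Y) ∈ K) ∧
      (∀ x : E, (x : Y) ∈ K → (x : Y) ∈ phi E → (x : Y)⁻¹ * σ x ∈ phi K) ∧
      ∀ x : E, (x : Y)⁻¹ * σ x ∈ actKer K := by
    intro g σ hσ
    refine ⟨fun x hx => by rw [hσ]; exact (inferInstance : K.Normal).conj_mem _ hx g,
      fun x hx hxE => ?_, fun x => ?_⟩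
    · have h1 := hR _ (K.inv_mem hx) ((phi E).inv_mem hxE) g
      rw [hσ]
      rwa [commutatorElement_def, inv_inv, mul_assoc, mul_assoc, ← mul_assoc g] at h1
    · have h1 := hkill _ (E.inv_mem x.2) g
      rw [hσ]
      rwa [commutatorElement_def, inv_inv, mul_assoc, mul_assoc, ← mul_assoc g] at h1
  have hLM : L ≤ M ⊔ phi E := by
    rw [hL]
    refine sup_le ?_ le_sup_right
    rw [Subgroup.commutator_le]
    intro g _ k hk
    obtain ⟨σ, hσ, -, hσv⟩ := h.exists_conj hE g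
    obtain ⟨s1, s2, s3⟩ := hconj g σ hσv
    have h1 := key σ s1 s2 s3 ⟨k⁻¹, E.inv_mem (hK.le E hE hk)⟩ (K.inv_mem hk)
    rw [hσv, inv_inv] at h1
    refine Subgroup.mem_sup_left ?_
    have h2 : Commute (π f) (π (k * (g * k⁻¹ * g⁻¹))) := ((hmemM _).1 h1).2
    refine (hmemM _).2 ⟨?_, ?_⟩
    · exact K.mul_mem ((inferInstance : K.Normal).conj_mem _ hk g) (K.inv_mem hk)
    · rw [show ⁅g, k⁆ = (k * (g * k⁻¹ * g⁻¹))⁻¹ by rw [commutatorElement_def]; group, map_inv]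
      exact h2.inv_right
  have hαM : (α x0 : Y) ∈ M ⊔ phi E := by
    obtain ⟨P, hP⟩ : ∃ P, P = ((((M ⊔ phi E).subgroupOf E).comap α.toMonoidHom).map E.subtype) :=
      ⟨_, rfl⟩
    have hmemP : ∀ x : E, (x : Y) ∈ P ↔ (α x : Y) ∈ M ⊔ phi E := fun x => by
      rw [hP]
      exact ⟨fun ⟨x', hx', hxx⟩ => (Subtype.ext hxx : x' = x) ▸ hx', fun hh => ⟨x, hh, rfl⟩⟩
    refine (hmemP x0).1 ((hL ▸ sup_le ?_ ?_ : L ≤ P) hx0)
    · rw [Subgroup.commutator_le]
      intro g _ k hk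
      have hkE := hK.le E hE hk
      obtain ⟨σ, hσ, -, hσv⟩ := h.exists_conj hE g
      obtain ⟨s1, s2, s3⟩ := hconj g σ hσv
      obtain ⟨x, hx⟩ : ∃ x : E, x = ⟨k⁻¹, E.inv_mem hkE⟩ := ⟨_, rfl⟩
      have hxK : (x : Y) ∈ K := hx ▸ K.inv_mem hk
      have hgk : ⁅g, k⁆ = ((x⁻¹ * σ x : E)⁻¹ : E) := by
        rw [Subgroup.coe_inv, Subgroup.coe_mul, Subgroup.coe_inv, hσv, hx, commutatorElement_def]
        group
      have hcj : ∀ y : E, α (y⁻¹ * σ y) = (α y)⁻¹ * (α * σ * α⁻¹) (α y) := fun y => by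
        rw [map_mul, map_inv, MulAut.mul_apply, MulAut.mul_apply, MulAut.inv_apply_self]
      rw [hgk, hmemP, map_inv, hcj, Subgroup.coe_inv, Subgroup.coe_mul, Subgroup.coe_inv]
      refine (M ⊔ phi E).inv_mem (Subgroup.mem_sup_left ?_)
      have hai := (Γ.𝔸 E).inv_mem hα
      refine key (α * σ * α⁻¹) (fun y hy => hK.A E hE α hα _ (s1 _ (hK.A E hE _ hai y hy)))
        (fun y hy hyE => ?_) (fun y => ?_) (α x) (hK.A E hE α hα x hxK)
      all_goals
        obtain ⟨y, rfl⟩ := α.surjective y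
        rw [← Subgroup.coe_inv, ← Subgroup.coe_mul, ← hcj]
      · have hy' : (y : Y) ∈ K := by
          have := hK.A E hE _ hai _ hy
          rwa [MulAut.inv_apply_self] at this
        refine phi_invariant_of (p := p) hY (hK.le E hE) α (fun w hw => hK.A E hE α hα w hw) ?_
        simpa using s2 y hy' (by simpa using phi_invariant α⁻¹ hyE)
      · refine actKer_invariant (p := p) hY (hK.le E hE) α (fun w hw => hK.A E hE α hα w hw)
          (fun w hw => hK.A E hE _ hai w hw) ?_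
        simpa using s3 y
    · exact fun w hw => (hmemP ⟨w, phi_le E hw⟩).2
        (Subgroup.mem_sup_right (phi_invariant α hw))
  have hCM : C ≤ M ⊔ phi E := by
    have hle : M ⊔ phi E ≤ C := hC ▸ sup_le_sup_right (hM ▸ inf_le_left) _
    refine (Subgroup.relIndex_eq_one.1 ?_)
    obtain ⟨i, hi⟩ := (hY.to_subgroup C).index ((M ⊔ phi E).subgroupOf C)
    obtain ⟨j, hj⟩ := (hY.to_subgroup L).index ((phi E).subgroupOf L)
    have hαC : (α x0 : Y) ∈ C := hle hαM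
    have h1 : L.relIndex (M ⊔ phi E) ≠ 1 := fun e => hαx0 (Subgroup.relIndex_eq_one.1 e hαM)
    have hmul := Subgroup.relIndex_mul_relIndex L (M ⊔ phi E) C hLM hle
    have hmul' := Subgroup.relIndex_mul_relIndex (phi E) L C hΦL hLC
    rw [show (phi E).relIndex C = p ^ 2 by rw [hC]; exact hΦC] at hmul'
    have h2 : (phi E).relIndex L ≠ 1 := by
      intro e1
      have hL' : L = phi E := le_antisymm (Subgroup.relIndex_eq_one.1 e1) hΦL
      exact hαx0 (hL' ▸ phi_invariant α (hL' ▸ hx0))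
    obtain ⟨a, ha⟩ := (hY.to_subgroup (M ⊔ phi E : Subgroup Y)).index (L.subgroupOf (M ⊔ phi E))
    obtain ⟨b, hb⟩ := (hY.to_subgroup L).index ((phi E).subgroupOf L)
    have e1 : p ^ (a + i + b) = p ^ 2 := by
      rw [pow_add, pow_add, ← ha, ← hi, ← hb, ← hmul']
      show L.relIndex (M ⊔ phi E) * (M ⊔ phi E).relIndex C * (phi E).relIndex L = _
      rw [hmul, mul_comm]
    have ha0 : a ≠ 0 := fun e => h1 (ha.trans (by rw [e, pow_zero]))
    have hb0 : b ≠ 0 := fun e => h2 (hb.trans (by rw [e, pow_zero]))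
    have hsum := Nat.pow_right_injective hp.out.two_le e1
    exact hi.trans (by rw [show i = 0 by omega, pow_zero])
  intro k hk
  obtain ⟨m, hm, w, hw, rfl⟩ := Subgroup.mem_sup_of_normal_right.1
    (hCM (hC ▸ Subgroup.mem_sup_left hk))
  have hmK : m ∈ K := ((hmemM m).1 hm).1
  have hwK : w ∈ K := by
    have := K.mul_mem (K.inv_mem hmK) hk
    rwa [inv_mul_cancel_left] at this
  exact M.mul_mem hm (hRM w hwK hw)

/-- A nontrivial action next to a trivial one is impossible. -/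
theorem not_mixed [K.Normal] (hE : E ∈ Γ.ℰ) (hE' : E' ∈ Γ.ℰ) (hne : E ≠ E')
    (hfix : ∀ φ ∈ Γ.𝔹, ∀ y ∈ E, φ y ∈ E) (ht : TrivOn K E') : TrivOn K E := by
  classical
  by_contra hn
  obtain ⟨-, -, e, he, hEe⟩ := h.nontriv_data hK hE hE' hne hn
  haveI := h.phi_normal hE'
  haveI := h.normal hE'
  haveI := h.normal hE
  have hY := h.pY
  haveI := CfsgLib.Fusion.finite_mulAut E'
  obtain ⟨C, hC⟩ : ∃ C, C = K ⊔ phi E' := ⟨_, rfl⟩
  haveI hCn : C.Normal := hC ▸ inferInstance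
  have hCi : ∀ α ∈ Γ.𝔸 E', ∀ x : E', (x : Y) ∈ C → (α x : Y) ∈ C :=
    fun α hα x hx => hC ▸ hK.sup_phi hE' hα (hC ▸ hx)
  have hstab : ∀ g : Y, ∀ y ∈ C, y⁻¹ * (g * y * g⁻¹) ∈ phi E' :=
    fun g y hy => triv_sup (ht g) (hC ▸ hy)
  have hCE' : C ≤ E' := hC ▸ sup_le (hK.le E' hE') (phi_le E')
  have heE' : e ∉ E' := fun hc => h.not_le hK hE hE' hne
    (hEe.le.trans (sup_le (hK.le E' hE') (Subgroup.zpowers_le.2 hc)))
  obtain ⟨q, hq⟩ : ∃ q, q = QuotientGroup.mk' C := ⟨_, rfl⟩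
  have hq1 : ∀ {w}, q w = 1 ↔ w ∈ C := fun {w} => by
    rw [hq, QuotientGroup.mk'_apply, QuotientGroup.eq_one_iff]
  have hqk : ∀ {k}, k ∈ K → q k = 1 := fun hk => hq1.2 (hC ▸ Subgroup.mem_sup_left hk)
  have hflag : ∀ g, g ∉ E' → ¬ ∀ y ∈ E', Commute (q g) (q y) := by
    intro g hgE' hc
    refine h.flag hE' (C₁ := C) (C₂ := C) (hC ▸ le_sup_right) le_rfl hCE' hCi hCi hgE'
      (hstab g) (fun y hy => hC ▸ Subgroup.mem_sup_right (hstab g y hy)) fun y hy => ?_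
    refine hq1.1 ?_
    rw [map_mul, map_mul, map_mul, map_inv, map_inv, (hc y hy).eq, mul_inv_cancel_right,
      inv_mul_cancel]
  have hqp : ∀ y ∈ E', q y ^ p = 1 := fun y hy => by
    rw [← map_pow]; exact hq1.2 (hC ▸ Subgroup.mem_sup_right (pow_phi hY hy))
  have hqc : ∀ a ∈ E', ∀ b ∈ E', Commute (q a) (q b) := fun a ha b hb => by
    rw [← commutatorElement_eq_one_iff_commute, ← map_commutatorElement]
    exact hq1.2 (hC ▸ Subgroup.mem_sup_right (comm_phi hY ha hb))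
  obtain ⟨y, hy, hyE⟩ := SetLike.not_le_iff_exists.1 (h.not_le hK hE' hE hne.symm)
  have hep : e ^ p ∈ E' := by
    have := Subgroup.pow_index_mem E' e
    rwa [h.idx E' hE'] at this
  have hDi : (E ⊓ E').relIndex E' = p := inf_relIndex inferInstance (h.idx E hE)
    (h.not_le hK hE' hE hne.symm)
  obtain ⟨P, hP⟩ : ∃ P, P = q (e ^ p) := ⟨_, rfl⟩
  obtain ⟨Q, hQ⟩ : ∃ Q, Q = q y := ⟨_, rfl⟩
  have hPp : P ^ p = 1 := hP ▸ hqp _ hep
  have hD : ∀ x ∈ E ⊓ E', ∃ i : ℤ, q x = P ^ i := fun x hx => by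
    obtain ⟨k, hk, i, rfl⟩ := h.inter_cyclic hK hE hE' hne hEe hx
    exact ⟨i, by rw [map_mul, hqk hk, one_mul, map_zpow, hP]⟩
  have hdec : ∀ x ∈ E', ∃ i j : ℤ, q x = P ^ i * Q ^ j := fun x hx => by
    obtain ⟨d, hd, z, hz, rfl⟩ := exists_decomp_of_prime (inf_le_right : E ⊓ E' ≤ E') hDi
      (le_normalizer_of_conj fun g hg w hw => (inferInstance : (E ⊓ E').Normal).conj_mem w hw g)
      hy (fun hc => hyE hc.1) (W := Subgroup.zpowers y) (Subgroup.zpowers_le.2 hy)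
      (Subgroup.mem_zpowers y) x hx
    obtain ⟨j, rfl⟩ := Subgroup.mem_zpowers_iff.1 hz
    obtain ⟨i, hi⟩ := hD d hd
    exact ⟨i, j, by rw [map_mul, hi, map_zpow, hQ]⟩
  obtain ⟨u, hu⟩ : ∃ u : ℤ, q e * Q * (q e)⁻¹ = Q * P ^ u := by
    obtain ⟨i, hi⟩ := hD _ (comm_mem_of_step hY (inf_le_right : E ⊓ E' ≤ E') hDi y⁻¹ (E'.inv_mem hy) e)
    refine ⟨i, ?_⟩
    rw [← hi]
    simp only [commutatorElement_def, map_mul, map_inv, inv_inv, hQ]
    group
  have hu0 : P ^ u ≠ 1 := fun hc => by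
    refine hflag e heE' fun x hx => ?_
    obtain ⟨i, j, hij⟩ := hdec x hx
    rw [hij]
    refine Commute.mul_right (Commute.zpow_right ?_ i) (Commute.zpow_right ?_ j)
    · rw [hP, map_pow]; exact Commute.self_pow _ p
    · rw [hc, mul_one] at hu
      exact mul_inv_eq_iff_eq_mul.1 hu
  -- the automisers act on the plane
  obtain ⟨ι, hι⟩ : ∃ ι : E' →* E'.map q, ∀ x : E', (ι x : Y ⧸ C) = q x :=
    ⟨q.subgroupMap E', fun x => rfl⟩
  have hιs : Function.Surjective ι := fun b => by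
    obtain ⟨x, hx, hxb⟩ := b.2
    exact ⟨⟨x, hx⟩, Subtype.ext ((hι _).trans hxb)⟩
  have hdesc : ∀ α : Γ.𝔸 E', ∃ β : MulAut (E'.map q), ∀ x : E', β (ι x) = ι ((α : MulAut E') x) :=
    fun α => exists_desc hιs fun x hx => Subtype.ext (by
      have h1 := congrArg Subtype.val hx
      rw [hι] at h1
      rw [hι]
      exact hq1.2 (hCi _ α.2 x (hq1.1 h1)))
  choose f hf using hdesc
  obtain ⟨π, hπ⟩ : ∃ π : Γ.𝔸 E' →* MulAut (E'.map q), ∀ α, π α = f α :=
    ⟨MonoidHom.mk' f fun a b => MulEquiv.ext fun w => by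
      obtain ⟨x, rfl⟩ := hιs w
      rw [MulAut.mul_apply, hf, hf, hf, Subgroup.coe_mul, MulAut.mul_apply], fun α => rfl⟩
  have hπv : ∀ (α : Γ.𝔸 E') (x : E'), π α (ι x) = ι ((α : MulAut E') x) := fun α x => by rw [hπ, hf]
  obtain ⟨τ, hτ, hτT, hτv⟩ := h.exists_conj hE' e
  haveI : Finite (MulAut (E'.map q)) := CfsgLib.Fusion.finite_mulAut _
  have hcard : ∃ j ≤ 2, Nat.card (E'.map q) = p ^ j := by
    obtain ⟨j, hj⟩ := (hY.to_quotient C).to_subgroup (E'.map q) |>.exists_card_eq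
    refine ⟨j, (Nat.pow_le_pow_iff_right hp.out.one_lt).1 (hj.symm.le.trans ?_), hj⟩
    have hQp : Q ^ p = 1 := hQ ▸ hqp y hy
    have hPQ : Commute P Q := hP ▸ hQ ▸ hqc _ hep _ hy
    have hcl : ∀ w ∈ E'.map q, ∃ a ∈ Subgroup.zpowers P, ∃ b ∈ Subgroup.zpowers Q, w = a * b := by
      rintro _ ⟨x, hx, rfl⟩
      obtain ⟨i, j, hij⟩ := hdec x hx
      exact ⟨_, Subgroup.zpow_mem_zpowers P i, _, Subgroup.zpow_mem_zpowers Q j, hij⟩
    have hle : Nat.card (E'.map q) ≤ Nat.card (Subgroup.zpowers P × Subgroup.zpowers Q) := by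
      choose a ha b hb hab using hcl
      refine Nat.card_le_card_of_injective
        (fun w : E'.map q => ((⟨a w w.2, ha w w.2⟩ : Subgroup.zpowers P), (⟨b w w.2, hb w w.2⟩ : Subgroup.zpowers Q)))
        fun w w' hww => Subtype.ext ?_
      simp only [Prod.mk.injEq, Subtype.mk.injEq] at hww
      rw [hab w w.2, hab w' w'.2, hww.1, hww.2]
    refine hle.trans ?_
    rw [Nat.card_prod, pow_two, Nat.card_zpowers, Nat.card_zpowers]
    exact Nat.mul_le_mul (Nat.le_of_dvd hp.out.pos (orderOf_dvd_of_pow_eq_one hPp))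
      (Nat.le_of_dvd hp.out.pos (orderOf_dvd_of_pow_eq_one hQp))
  have hinner : ∀ a : Γ.𝔸 E', (∃ g ∈ E', ∀ x : E', ((a : MulAut E') x : Y) = g * x * g⁻¹) →
      π a = 1 := by
    rintro a ⟨g, hg, ha⟩
    refine MulEquiv.ext fun w => ?_
    obtain ⟨x, rfl⟩ := hιs w
    refine Subtype.ext ?_
    rw [hπv, hι, ha, map_mul, map_mul, map_inv, (hqc g hg x x.2).eq, mul_inv_cancel_right]
    exact (hι x).symm
  obtain ⟨inv, hinv⟩ : ∃ α : Γ.𝔸 E', ∀ w, π α w = w⁻¹ := by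
    have hna : π.rangeRestrict ⟨τ, hτ⟩ ∉ Cfsg.pCore p π.range := by
      intro hc
      obtain ⟨U, hU⟩ : ∃ U, U = ((Cfsg.pCore p π.range).comap π.rangeRestrict).map (Γ.𝔸 E').subtype :=
        ⟨_, rfl⟩
      refine h.no_normal_image hE' hCi hstab (hU ▸ Subgroup.map_subtype_le _) ?_ ?_ ?_
      · intro a ha u hu
        rw [hU] at hu ⊢
        obtain ⟨v, hv, rfl⟩ := hu
        refine ⟨⟨a, ha⟩ * v * ⟨a, ha⟩⁻¹, ?_, rfl⟩
        rw [SetLike.mem_coe, Subgroup.mem_comap, map_mul, map_mul, map_inv]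
        exact (CfsgLib.Fitting.pCore_normal p).conj_mem _ hv _
      · intro σ hσ
        obtain ⟨g, hg⟩ := mem_autY.1 hσ
        obtain ⟨W, hW⟩ : ∃ W : Subgroup Y, ∀ w, w ∈ W ↔ ∃ σ' ∈ U, ∀ x : E', (σ' x : Y) = w * x * w⁻¹ := by
          refine ⟨{ carrier := {w | ∃ σ' ∈ U, ∀ x : E', (σ' x : Y) = w * x * w⁻¹}
                    one_mem' := ⟨1, U.one_mem, fun x => by simp⟩
                    mul_mem' := fun {a b} ⟨s, hs, hsv⟩ ⟨t, ht', htv⟩ => ⟨s * t, U.mul_mem hs ht',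
                      fun x => by rw [MulAut.mul_apply, hsv, htv]; group⟩
                    inv_mem' := fun {a} ⟨s, hs, hsv⟩ => ⟨s⁻¹, U.inv_mem hs, fun x => by
                      have h1 := hsv (s⁻¹ x)
                      rw [MulAut.apply_inv_self] at h1
                      rw [h1]; group⟩ }, fun w => Iff.rfl⟩
        have hEW : E' ≤ W := fun w hw => by
          obtain ⟨s, hs, -, hsv⟩ := h.exists_conj hE' w
          refine (hW w).2 ⟨s, hU ▸ ⟨⟨s, hs⟩, ?_, rfl⟩, hsv⟩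
          rw [SetLike.mem_coe, Subgroup.mem_comap,
            show π.rangeRestrict ⟨s, hs⟩ = 1 from Subtype.ext (hinner ⟨s, hs⟩ ⟨w, hw, hsv⟩)]
          exact Subgroup.one_mem _
        obtain ⟨σ', hσ', hσv⟩ := (hW g).1 (top_of_gen (h.idx E' hE') hEW
          ((hW e).2 ⟨τ, hU ▸ ⟨⟨τ, hτ⟩, hc, rfl⟩, hτv⟩) heE' g)
        rwa [show σ = σ' from MulEquiv.ext fun x => Subtype.ext (by rw [hg, hσv])]
      · intro u hu
        rw [hU] at hu
        obtain ⟨v, hv, rfl⟩ := hu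
        obtain ⟨k, hk⟩ := CfsgLib.Fitting.pCore_isPGroup p ⟨_, hv⟩
        refine ⟨k, fun x => hq1.1 ?_⟩
        have h1 : π.rangeRestrict (v ^ p ^ k) = 1 := by
          rw [map_pow]; exact congrArg Subtype.val hk
        have h2 : π (v ^ p ^ k) = 1 := congrArg Subtype.val h1
        have h3 := hπv (v ^ p ^ k) x
        rw [h2, MulAut.one_apply] at h3
        have h4 : q (x : Y) = q ((((v : MulAut E') ^ p ^ k) x : E') : Y) := by
          rw [← hι, ← hι, h3, SubgroupClass.coe_pow]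
        rw [map_mul, map_inv]
        exact inv_mul_eq_one.2 h4
    obtain ⟨n, hn⟩ := (h.autY_isPGroup hE') ⟨τ, hτT⟩
    obtain ⟨⟨_, α, rfl⟩, hα⟩ := CfsgLib.Fusion.exists_inversion π.range.subtype
      (by rw [Subgroup.ker_subtype]; exact IsPGroup.of_bot) hcard (a := π.rangeRestrict ⟨τ, hτ⟩)
      (n := n) (by
        show π ⟨τ, hτ⟩ ^ p ^ n = 1
        rw [← map_pow]
        have h1 : (⟨τ, hτ⟩ : Γ.𝔸 E') ^ p ^ n = 1 := Subtype.ext (by
          rw [SubgroupClass.coe_pow]; exact congrArg Subtype.val hn)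
        rw [h1, map_one]) hna
    exact ⟨α, hα⟩
  obtain ⟨M, hM⟩ : ∃ M, M = ((((autY E').subgroupOf (Γ.𝔸 E')).map π).comap π).map (Γ.𝔸 E').subtype :=
    ⟨_, rfl⟩
  have hM𝔸 : M ≤ Γ.𝔸 E' := hM ▸ Subgroup.map_subtype_le _
  have hTM : autY E' ≤ M := fun σ hσ => hM ▸ ⟨⟨σ, h.conj E' hE' hσ⟩, ⟨_, hσ, rfl⟩, rfl⟩
  obtain ⟨m, hm, hmn⟩ := h.exists_adjust hE' hM𝔸 hTM (α := (inv : MulAut E')) fun x hx => by
    rw [hM] at hx ⊢
    obtain ⟨v, ⟨s, hs, hsv⟩, rfl⟩ := hx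
    refine ⟨inv * v * inv⁻¹, ⟨s, hs, ?_⟩, rfl⟩
    rw [hsv, map_mul, map_mul, map_inv]
    refine (mul_inv_eq_iff_eq_mul.2 (MulEquiv.ext fun w => ?_)).symm
    rw [MulAut.mul_apply, MulAut.mul_apply, hinv, hinv, map_inv]
  rw [hM] at hm
  obtain ⟨⟨m, hm𝔸⟩, ⟨⟨s, hs𝔸⟩, hs, hsm⟩, rfl⟩ := hm
  have hsT : s ∈ autY E' := hs
  obtain ⟨g0, hg0⟩ := mem_autY.1 hsT
  obtain ⟨φ, hφ, hφv⟩ := h.ext E' hE' (m * inv) (Subgroup.mul_mem _ hm𝔸 inv.2) hmn
  obtain ⟨ψ, hψ⟩ : ∃ ψ, ψ = MulAut.conj g0⁻¹ * φ := ⟨_, rfl⟩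
  have hψB : ψ ∈ Γ.𝔹 := hψ ▸ Subgroup.mul_mem _ (h.inn _) hφ
  have hψv : ∀ x ∈ E', q (ψ x) = (q x)⁻¹ := fun x hx => by
    have h1 : π ⟨m * inv, Subgroup.mul_mem _ hm𝔸 inv.2⟩ (ι ⟨x, hx⟩) = π ⟨s, hs𝔸⟩ (ι ⟨x, hx⟩)⁻¹ := by
      rw [show (⟨m * inv, Subgroup.mul_mem _ hm𝔸 inv.2⟩ : Γ.𝔸 E') = ⟨m, hm𝔸⟩ * inv from rfl,
        map_mul, MulAut.mul_apply, hinv, ← hsm]
    rw [← map_inv ι, hπv, hπv] at h1
    have h2 := congrArg Subtype.val h1
    rw [hι, hι] at h2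
    simp only [map_inv ((s : MulAut E')), Subgroup.coe_inv, map_inv q, hg0, map_mul] at h2
    rw [hψ, MulAut.mul_apply, MulAut.conj_apply, map_mul, map_mul,
      show φ x = ((m * (inv : MulAut E')) ⟨x, hx⟩ : Y) from hφv ⟨x, hx⟩, h2]
    simp only [map_inv, inv_inv]
    group
  obtain ⟨k, hk, z, hz, hkz⟩ := Subgroup.mem_sup_of_normal_left.1 (hEe ▸ hfix ψ hψB e he)
  obtain ⟨a, rfl⟩ := Subgroup.mem_zpowers_iff.1 hz
  have hψe : q (ψ e) = q e ^ a := by rw [← hkz, map_mul, hqk hk, one_mul, map_zpow]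
  have hP1 : P ≠ 1 := fun hc => hu0 (by rw [hc, one_zpow])
  have ha : (a : ZMod p) = -1 := by
    have h1 : P ^ a = P⁻¹ := by
      rw [hP, ← hψv _ hep, map_pow, map_pow, map_pow, hψe, ← zpow_natCast, ← zpow_natCast,
        ← zpow_mul, ← zpow_mul, mul_comm]
    have h2 : P ^ (a + 1) = 1 := by rw [zpow_add, zpow_one, h1, inv_mul_cancel]
    rw [zpow_eq_one_iff' hPp hP1] at h2
    push_cast at h2
    exact eq_neg_of_add_eq_zero_left h2
  have hPQ : Commute P Q := hP ▸ hQ ▸ hqc _ hep _ hy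
  have heP : Commute (q e) P := by rw [hP, map_pow]; exact Commute.self_pow _ p
  have hpow : ∀ i : ℕ, q e ^ i * Q * (q e ^ i)⁻¹ = Q * P ^ (u * i) := by
    intro i
    induction i with
    | zero => simp
    | succ i ih =>
      calc q e ^ (i + 1) * Q * (q e ^ (i + 1))⁻¹ = q e * (q e ^ i * Q * (q e ^ i)⁻¹) * (q e)⁻¹ := by
            rw [pow_succ']; group
        _ = q e * Q * (q e)⁻¹ * (q e * P ^ (u * i) * (q e)⁻¹) := by rw [ih]; group
        _ = Q * P ^ u * P ^ (u * i) := by rw [hu, (heP.zpow_right _).eq, mul_inv_cancel_right]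
        _ = Q * P ^ (u * (i + 1 : ℕ)) := by
            rw [mul_assoc, ← zpow_add]; push_cast; ring_nf
  -- the relation of `e` and `y` under the inversion
  have h1 : q (ψ e) * q (ψ y) * (q (ψ e))⁻¹ = (Q * P ^ u)⁻¹ := by
    rw [← hu, ← map_inv q (ψ e), ← map_inv ψ, ← map_mul q, ← map_mul q, ← map_mul ψ, ← map_mul ψ,
      hψv _ ((inferInstance : E'.Normal).conj_mem _ hy e), hQ]
    simp only [map_mul, map_inv]
  obtain ⟨N, hN⟩ : ∃ N : ℕ, q e ^ a = q e ^ N := by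
    have hfo : IsOfFinOrder (q e) := isOfFinOrder_of_finite _
    refine ⟨(a % orderOf (q e)).toNat, ?_⟩
    rw [← zpow_natCast, Int.toNat_of_nonneg (Int.emod_nonneg _
      (by exact_mod_cast hfo.orderOf_pos.ne')), zpow_mod_orderOf]
  have hNa : (N : ZMod p) = a := by
    have h2 : P ^ (N : ℤ) = P ^ a := by
      rw [hP, map_pow, zpow_natCast, ← pow_mul, mul_comm, pow_mul, ← hN,
        ← zpow_natCast (q e), ← zpow_natCast (q e ^ a), ← zpow_mul, ← zpow_mul, mul_comm]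
    have h3 : P ^ ((N : ℤ) - a) = 1 := by rw [zpow_sub, h2, mul_inv_cancel]
    rw [zpow_eq_one_iff' hPp hP1] at h3
    push_cast at h3
    exact sub_eq_zero.1 h3
  rw [hψv y hy, ← hQ, hψe, hN, show q e ^ N * Q⁻¹ * (q e ^ N)⁻¹ = (q e ^ N * Q * (q e ^ N)⁻¹)⁻¹ by
    group, hpow, inv_inj, mul_right_inj] at h1
  have h4 : P ^ (u * N - u) = 1 := by rw [zpow_sub, h1, mul_inv_cancel]
  rw [zpow_eq_one_iff' hPp hP1] at h4
  have hu1 : (u : ZMod p) ≠ 0 := fun hc => hu0 ((zpow_eq_one_iff' hPp hP1).2 hc)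
  push_cast at h4
  rw [hNa, ha] at h4
  have h5 : (2 : ZMod p) * u = 0 := by linear_combination -h4
  rcases mul_eq_zero.1 h5 with h6 | h6
  · rw [show (2 : ZMod p) = ((2 : ℕ) : ZMod p) by norm_num, ZMod.natCast_eq_zero_iff] at h6
    exact h.podd ((Nat.prime_dvd_prime_iff_eq hp.out Nat.prime_two).1 h6)
  · exact hu1 h6

end Sys.Good

end CfsgLib.RankThreeAmalgam
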