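import Cfsg.Agent.Lib.Fusion.RankThreeAmalgam.CaseBig
import Cfsg.Agent.Lib.Fusion.RankThreeAmalgam.CaseSmall
import Cfsg.Agent.Lib.Fusion.RankThreeAmalgam.CaseTwist
import Cfsg.Agent.Lib.Fusion.RankThreeAmalgam.Irred
import Cfsg.Agent.Lib.Fusion.RankThreeAmalgam.Main

/-!
Two characteristic members whose central elements of order `p` lie in both are impossible, and
two characteristic essential subgroups give a Sylow subgroup of `Sp_4(p)`.
-/

set_option autoImplicit false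
set_option linter.style.haveILetI false
set_option linter.unusedSectionVars false

namespace CfsgLib.RankThreeAmalgam

open Cfsg Cfsg.FusionSystem CfsgLib.Fusion CfsgLib.RankThree
open scoped commutatorElement

variable {Y : Type*} [Group Y] [Finite Y] {p : ℕ} [hp : Fact p.Prime]

theorem Sys.Good.false_of_dagger {Γ : Sys Y} (h : Γ.Good p) {E₁ E₂ : Subgroup Y} (hE₁ : E₁ ∈ Γ.ℰ)
    (hE₂ : E₂ ∈ Γ.ℰ) (hne : E₁ ≠ E₂) (honly : ∀ F ∈ Γ.ℰ, F = E₁ ∨ F = E₂)
    (hfix : ∀ φ ∈ Γ.𝔹, ∀ E ∈ Γ.ℰ, ∀ y ∈ E, φ y ∈ E) (hdag : Dagger Γ p) : False := by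
  classical
  have hY := h.pY
  obtain ⟨K, hK, hmax⟩ := Γ.exists_inv_max
  have hK0 : K ≠ ⊥ := by
    intro h0
    obtain ⟨E, hE, E', hE', hn⟩ := h.exists_not_dagger ⟨E₁, hE₁⟩ fun R hB hle hA =>
      le_bot_iff.1 (h0 ▸ hmax R ⟨hB, hle, hA⟩)
    exact hn (hdag E hE E' hE')
  haveI hKn : K.Normal := ⟨fun k hk g => hK.B _ (h.inn g) k hk⟩
  haveI := phi_normal_of_normal (p := p) hY hKn
  have hphiKE : ∀ E ∈ Γ.ℰ, phi K ≤ phi E := fun E hE => phi_le_of (p := p)
    (fun a _ y hy => (h.phi_normal hE).conj_mem y hy a)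
    (fun a ha b hb => comm_phi hY (hK.le E hE ha) (hK.le E hE hb))
    fun a ha => pow_phi hY (hK.le E hE ha)
  have htriv : ∀ E ∈ Γ.ℰ, TrivOn K E := by
    have hone : TrivOn K E₁ ∨ TrivOn K E₂ := by
      by_contra hc
      push Not at hc
      have h1 := h.le_actKer_of_not_triv hK hE₁ hE₂ hne hc.1
      have h2 := h.le_actKer_of_not_triv hK hE₂ hE₁ hne.symm hc.2
      obtain ⟨w, hw, hwE⟩ := SetLike.not_le_iff_exists.1 (h.not_le hK hE₂ hE₁ hne.symm)
      refine hc.1 fun g y hy => ?_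
      have h3 := mem_actKer'.1 (le_of_member_le (h.idx E₁ hE₁) h1 (h2 hw) hwE g) y hy
      have h4 := (h.phi_normal hE₁).conj_mem _ (hphiKE E₁ hE₁ h3) y⁻¹
      rwa [commutatorElement_def, show y⁻¹ * (g * y * g⁻¹ * y⁻¹) * y⁻¹⁻¹ = y⁻¹ * (g * y * g⁻¹) by
        group] at h4
    have hboth : TrivOn K E₁ ∧ TrivOn K E₂ := by
      rcases hone with ht | ht
      · exact ⟨ht, h.not_mixed hK hE₂ hE₁ hne.symm (fun φ hφ => hfix φ hφ E₂ hE₂) ht⟩
      · exact ⟨h.not_mixed hK hE₁ hE₂ hne (fun φ hφ => hfix φ hφ E₁ hE₁) ht, ht⟩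
    intro E hE
    rcases honly E hE with rfl | rfl
    exacts [hboth.1, hboth.2]
  have hgood := h.quot hK htriv
  have hcore := Sys.Good.quot_noCore hK hmax
  have hne' : (Γ.quot K).ℰ.Nonempty := ⟨E₁.map (QuotientGroup.mk' K), by
    rw [Sys.mem_quot, Subgroup.comap_map_eq_self (by rw [QuotientGroup.ker_mk']; exact hK.le E₁ hE₁)]
    exact hE₁⟩
  obtain ⟨Q, hQ, Q', hQ', G, v, r, s, hS, hG⟩ := hgood.exists_shape hne' hcore
  have hinj : ∀ {R R' : Subgroup (Y ⧸ K)},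
      R.comap (QuotientGroup.mk' K) = R'.comap (QuotientGroup.mk' K) → R = R' :=
    fun e => Subgroup.comap_injective (QuotientGroup.mk'_surjective K) e
  have hQQ : Q.comap (QuotientGroup.mk' K) ≠ Q'.comap (QuotientGroup.mk' K) :=
    fun e => hS.vE' (hinj e ▸ hS.vE)
  have honly' : ∀ F ∈ Γ.ℰ,
      F = Q.comap (QuotientGroup.mk' K) ∨ F = Q'.comap (QuotientGroup.mk' K) := by
    intro F hF
    rcases honly _ (hQ : _ ∈ Γ.ℰ) with e | e <;> rcases honly _ (hQ' : _ ∈ Γ.ℰ) with e' | e' <;>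
      rcases honly F hF with e'' | e'' <;> rw [e''] <;>
      first
        | exact absurd (e.trans e'.symm) hQQ
        | exact Or.inl e.symm
        | exact Or.inr e'.symm
  obtain ⟨i, hi⟩ := (hgood.pY.to_subgroup G).exists_card_eq
  have hi1 : i ≤ 1 := (Nat.pow_le_pow_iff_right hp.out.one_lt).1 (by rw [← hi, pow_one]; exact hG)
  interval_cases i
  · -- a Heisenberg pair
    have hG0 : G = ⊥ := Subgroup.card_eq_one.1 (hi.trans (pow_zero p))
    obtain ⟨z, hz⟩ := QuotientGroup.mk'_surjective K r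
    obtain ⟨e, he⟩ := QuotientGroup.mk'_surjective K v
    obtain ⟨e', he'⟩ := QuotientGroup.mk'_surjective K s
    have hρ1 : ∀ {w}, QuotientGroup.mk' K w = 1 ↔ w ∈ K := fun {w} => QuotientGroup.eq_one_iff w
    have hrs : r * s = s * r := commutatorElement_eq_one_iff_mul_comm.1
      (Subgroup.mem_bot.1 (hG0.le hS.zG))
    have hrc : ∀ y : Y ⧸ K, r * y = y * r := fun y => by
      obtain ⟨g, hg, i, j, k, rfl⟩ := hS.decomp_top hgood.pY (hgood.idx Q' hQ') y
      rw [Subgroup.mem_bot.1 (hG0.le hg), one_mul]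
      exact (((Commute.refl r).pow_right i).mul_right ((show Commute r s from hrs).pow_right j)).mul_right
        ((show Commute r v from hS.rv).pow_right k)
    have hH : Heis p K (Q.comap (QuotientGroup.mk' K)) (Q'.comap (QuotientGroup.mk' K)) z e e' := by
      refine ⟨show _ ∈ Q from hz ▸ hS.rE, show _ ∈ Q' from hz ▸ hS.rE', show _ ∈ Q from he ▸ hS.vE,
        fun hc => hS.vE' (he ▸ hc), show _ ∈ Q' from he' ▸ hS.sE', fun hc => hS.sE (he' ▸ hc),
        hK.le _ hQ, hK.le _ hQ',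
        fun hc => hS.rG (by rw [← hz, hρ1.2 hc]; exact G.one_mem), fun y => ?_, fun x hx => ?_,
        fun x hx => ?_, ?_, ?_, ?_, 1, ?_, ?_⟩
      · rw [← hρ1, map_commutatorElement, hz, commutatorElement_eq_one_iff_mul_comm]
        exact hrc _
      · obtain ⟨g, hg, i, k, hxe⟩ := hS.gen _ (hx : QuotientGroup.mk' K x ∈ Q)
        rw [Subgroup.mem_bot.1 (hG0.le hg), one_mul] at hxe
        refine ⟨(z ^ i * e ^ k)⁻¹ * x, hρ1.1 ?_, i, k, by rw [mul_inv_cancel_left]⟩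
        simp only [map_mul, map_inv, map_pow, hz, he]
        rw [hxe, inv_mul_cancel]
      · obtain ⟨g, hg, i, j, hxe⟩ := hS.gen' _ (hx : QuotientGroup.mk' K x ∈ Q')
        rw [Subgroup.mem_bot.1 (hG0.le hg), one_mul] at hxe
        refine ⟨(z ^ i * e' ^ j)⁻¹ * x, hρ1.1 ?_, i, j, by rw [mul_inv_cancel_left]⟩
        simp only [map_mul, map_inv, map_pow, hz, he']
        rw [hxe, inv_mul_cancel]
      · rw [← hρ1, map_pow, hz, hS.rp]
      · rw [← hρ1, map_pow, he, hS.vp]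
      · rw [← hρ1, map_pow, he', hS.sp]
      · rw [Int.cast_one]; exact one_ne_zero
      · rw [← hρ1, zpow_one, map_mul, map_inv, map_commutatorElement, hz, he, he', commutatorElement_def,
          hS.rdef, ← hrs, mul_inv_cancel_right, inv_mul_cancel]
    by_cases hall : ∀ y : Y, y ∈ actKer K
    · exact h.no_small_triv hK hK0 hH hQ hQ' (htriv _ hQ) (htriv _ hQ') hall
        (fun φ hφ => hfix φ hφ _ hQ) (fun φ hφ => hfix φ hφ _ hQ') (hdag _ hQ _ hQ')
    · exact h.no_small_act hK hH hQ hQ' (htriv _ hQ) (htriv _ hQ') hall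
  · rw [pow_one] at hi
    have hz := hgood.shape_comm_ne hcore hQ hQ' hS hi
    refine h.no_big hK hK0 hQ hQ' (htriv _ hQ') hS hi hz (irr_of_quot fun C hC hCi => ?_)
    exact hgood.irred_of_sp4 hcore hQ hQ' hS hi hz (fun R hR => (honly' _ hR).imp hinj hinj) hC hCi

universe u

variable {Ω : Type u} [Group Ω] {S : Subgroup Ω} [Finite S] {F : FusionSystem S}

/-- Two characteristic essential subgroups. -/
theorem two_characteristic (hp2 : p ≠ 2) (hS : IsPGroup p S)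
    (hsr : Cfsg.SectionalPRankLE p 3 S ∧ ¬ Cfsg.SectionalPRankLE p 2 S)
    (hF : F.IsSaturated p) (hO : F.core = ⊥) (E₁ E₂ : Subgroup Ω) (hne : E₁ ≠ E₂)
    (hE₁ : F.IsEssential p E₁) (hE₂ : F.IsEssential p E₂)
    (hc₁ : ∀ φ : MulAut S, φ ∈ F.autGroup S → (E₁.subgroupOf S).map φ.toMonoidHom = E₁.subgroupOf S)
    (hc₂ : ∀ φ : MulAut S, φ ∈ F.autGroup S → (E₂.subgroupOf S).map φ.toMonoidHom = E₂.subgroupOf S) :
    (∃ P : Sylow p ↥(Matrix.symplecticGroup (Fin 2) (ZMod p)),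
        Nonempty (↥S ≃* ↥(P : Subgroup ↥(Matrix.symplecticGroup (Fin 2) (ZMod p))))) ∧
      ((Cfsg.IsExtraspecial p ↥E₁ ∧ Nat.card E₁ = p ^ 3 ∧ (∀ x ∈ E₁, x ^ p = 1) ∧
          Cfsg.IsElementaryAbelian p E₂ ∧ Nat.card E₂ = p ^ 3) ∨
        (Cfsg.IsExtraspecial p ↥E₂ ∧ Nat.card E₂ = p ^ 3 ∧ (∀ x ∈ E₂, x ^ p = 1) ∧
          Cfsg.IsElementaryAbelian p E₁ ∧ Nat.card E₁ = p ^ 3)) := by
  classical
  have hpp := hp.out
  obtain ⟨Ps, hPs⟩ : ∃ Ps : Set (Subgroup Ω), Ps = {E₁, E₂} := ⟨_, rfl⟩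
  have hess : ∀ P ∈ Ps, F.IsEssential p P := by
    rw [hPs]; rintro P (rfl | rfl); exacts [hE₁, hE₂]
  have hc : ∀ P ∈ Ps, ∀ φ : MulAut S, φ ∈ F.autGroup S →
      (P.subgroupOf S).map φ.toMonoidHom = P.subgroupOf S := by
    rw [hPs]; rintro P (rfl | rfl); exacts [hc₁, hc₂]
  have hn : ∀ P ∈ Ps, S ≤ Subgroup.normalizer (P : Set Ω) := by
    intro P hP g hg
    refine mem_normalizer_of_conj_mem (hess P hP).1.1 fun x hx => ?_
    have hconj : MulAut.conj (⟨g, hg⟩ : S) ∈ F.autGroup S := autInducedBy_le_autGroup le_rfl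
      ((mem_autInducedBy_iff _ _ _).2 ⟨g, hg, fun y => by simp⟩)
    have hm : MulAut.conj (⟨g, hg⟩ : S) ⟨x, (hess P hP).1.1 hx⟩ ∈ P.subgroupOf S :=
      (hc P hP _ hconj).le ⟨⟨x, (hess P hP).1.1 hx⟩, hx, rfl⟩
    simpa [Subgroup.mem_subgroupOf] using hm
  have hclosed : ∀ P ∈ Ps, ∀ Q f, IsMap F S f → IsIso F P Q f → Q ∈ Ps := by
    intro P hP Q f hf hiso
    have hfS := hf.isIso_of_card_le (fun z hz => hf.mem hz) le_rfl
    obtain ⟨φ, hφ, hφv⟩ := exists_mem_autGroup hfS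
    suffices Q = P by rwa [this]
    refine le_antisymm (fun y hy => ?_) fun y hy => ?_
    · obtain ⟨x, hx, rfl⟩ := hiso.surj hy
      have hm : φ ⟨x, hiso.le_left hx⟩ ∈ P.subgroupOf S :=
        (hc P hP φ hφ).le ⟨⟨x, hiso.le_left hx⟩, hx, rfl⟩
      rw [Subgroup.mem_subgroupOf, hφv] at hm
      exact hm
    · obtain ⟨x, hx, hxy⟩ := (hc P hP φ hφ).ge (show (⟨y, (hess P hP).1.1 hy⟩ : S) ∈ P.subgroupOf S from hy)
      have h1 : f (x : Ω) = y := by rw [← hφv]; exact congrArg Subtype.val hxy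
      exact h1 ▸ hiso.mem hx
  have hgood : (sysOf F Ps).Good p := good_sysOf hS hF hp2 hsr.1 hess hn hclosed
  have hmemℰ : ∀ {P}, P ∈ Ps → P.subgroupOf S ∈ (sysOf F Ps).ℰ := fun {P} hP => by
    show up (P.subgroupOf S) ∈ Ps
    rwa [show up (P.subgroupOf S) = P from Subgroup.map_subgroupOf_eq_of_le (hess P hP).1.1]
  have honly : ∀ E ∈ (sysOf F Ps).ℰ, E = E₁.subgroupOf S ∨ E = E₂.subgroupOf S := by
    intro E hE
    have h1 : up E = E₁ ∨ up E = E₂ := by
      have hE' : up E ∈ Ps := hE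
      rw [hPs] at hE'
      exact hE'
    have h2 : E = (up E).subgroupOf S :=
      (Subgroup.comap_map_eq_self_of_injective S.subtype_injective E).symm
    rcases h1 with e | e <;> rw [e] at h2
    exacts [Or.inl h2, Or.inr h2]
  have hne' : E₁.subgroupOf S ≠ E₂.subgroupOf S := fun e => hne (by
    rw [← Subgroup.map_subgroupOf_eq_of_le hE₁.1.1, e, Subgroup.map_subgroupOf_eq_of_le hE₂.1.1])
  have hm1 := hmemℰ (P := E₁) (hPs ▸ Or.inl rfl)
  have hm2 := hmemℰ (P := E₂) (hPs ▸ Or.inr rfl)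
  have hfix : ∀ φ ∈ (sysOf F Ps).𝔹, ∀ E ∈ (sysOf F Ps).ℰ, ∀ y ∈ E, φ y ∈ E := by
    intro φ hφ E hE y hy
    rcases honly E hE with rfl | rfl
    · exact (hc₁ φ hφ).le ⟨y, hy, rfl⟩
    · exact (hc₂ φ hφ).le ⟨y, hy, rfl⟩
  have hnd : ¬ Dagger (sysOf F Ps) p := fun hd => hgood.false_of_dagger hm1 hm2 hne' honly hfix hd
  unfold Dagger at hnd
  push Not at hnd
  obtain ⟨E, hE, E', hE', hn'⟩ := hnd
  obtain ⟨v, hv, hvE'⟩ := SetLike.not_le_iff_exists.1 hn'
  obtain ⟨G, r, s, hSh⟩ := hgood.shape hE hE' hv.1 hvE' hv.2.1 hv.2.2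
  have hi := hgood.idx E hE
  have hi' := hgood.idx E' hE'
  have hcen := hSh.central hgood.pY hp2 hsr.1 hi'
  have hcentric : ∀ {P : Subgroup Ω}, F.IsEssential p P → ∀ g : S, (∀ y : S, g * y = y * g) →
      (g : Ω) ∈ P := fun {P} hP g hg => hP.1.2 _ (isConj_refl hP.1.1) ⟨g.2, by
    refine Subgroup.mem_centralizer_iff.2 fun x hx => ?_
    exact (congrArg Subtype.val (hg ⟨x, hP.1.1 hx⟩)).symm⟩
  obtain ⟨k, hk⟩ := (hgood.pY.to_subgroup G).exists_card_eq
  have hk1 : k ≤ 1 := by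
    by_contra hk2
    obtain ⟨R, hRG, hR0, hRp, hRg⟩ := hSh.powers hgood.pY hp2 hsr.1 hi'
      (hk ▸ Nat.pow_le_pow_right hpp.pos (by omega))
    refine hR0 ((Subgroup.map_eq_bot_iff_of_injective R S.subtype_injective).1 (le_bot_iff.1 ?_))
    rw [← hO]
    refine le_sSup (isNormal_of_generators hS hF (up_le R) fun P hP => ⟨?_, fun α _ x hx => ?_⟩)
    · rcases hP with rfl | hP
      · exact up_le R
      · rintro _ ⟨x, hx, rfl⟩
        exact hcentric hP x (hcen x (hRG hx))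
    · obtain ⟨y, hy, rfl⟩ := hx
      obtain ⟨g, hg, rfl⟩ := hRg y hy
      have hgP : (g : Ω) ∈ P := by
        rcases hP with rfl | hP
        · exact g.2
        · exact hcentric hP g (hcen g hg)
      have hPS : P ≤ S := by
        rcases hP with rfl | hP
        · exact le_rfl
        · exact hP.1.1
      obtain ⟨w, hw⟩ : ∃ w : S, (w : Ω) = (α ⟨g, hgP⟩ : Ω) := ⟨⟨_, hPS (α ⟨g, hgP⟩).2⟩, rfl⟩
      refine ⟨w ^ p, hRp w, ?_⟩
      show ((w ^ p : S) : Ω) = autFun α ((g ^ p : S) : Ω)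
      rw [show ((g ^ p : S) : Ω) = (((⟨g, hgP⟩ : P) ^ p : P) : Ω) by simp, autFun_coe, map_pow]
      simp [hw]
  interval_cases k
  · exact absurd (hSh.rank_two hgood.pY hi hi' (Subgroup.card_eq_one.1 (hk.trans (pow_zero p)))) hsr.2
  rw [pow_one] at hk
  have hz : ⁅r, s⁆ ≠ 1 := by
    intro hz
    have hrs : Commute r s := commutatorElement_eq_one_iff_commute.1 hz
    have hrc : r ∈ Subgroup.center S := Subgroup.mem_center_iff.2 fun y => by
      obtain ⟨g, hg, i, j, k, rfl⟩ := hSh.decomp_top hgood.pY hi' y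
      have h1 : Commute r g := (hcen g hg r).symm
      exact (((h1.mul_right ((Commute.refl r).pow_right i)).mul_right (hrs.pow_right j)).mul_right
        ((show Commute r v from hSh.rv).pow_right k)).symm.eq
    have hab : ∀ y y' : S, ⁅y, y'⁆ ∈ Subgroup.center S := by
      intro y y'
      obtain ⟨q, hq⟩ : ∃ q, q = QuotientGroup.mk' (Subgroup.center S) := ⟨_, rfl⟩
      have hq1 : ∀ {w}, w ∈ Subgroup.center S → q w = 1 := fun hw => by
        rw [hq, QuotientGroup.mk'_apply, QuotientGroup.eq_one_iff]; exact hw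
      have hvs : Commute (q v) (q s) := by
        have h1 : q (v * s * v⁻¹) = q (s * r) := by rw [hSh.rdef]
        rw [map_mul, map_mul, map_inv, map_mul, hq1 hrc, mul_one, mul_inv_eq_iff_eq_mul] at h1
        exact h1
      have himg : ∀ w : S, ∃ j k : ℕ, q w = q s ^ j * q v ^ k := fun w => by
        obtain ⟨g, hg, i, j, k, rfl⟩ := hSh.decomp_top hgood.pY hi' w
        refine ⟨j, k, ?_⟩
        simp only [map_mul, map_pow]
        rw [hq1 (Subgroup.mem_center_iff.2 fun u => (hcen g hg u).symm), hq1 hrc, one_pow, one_mul,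
          one_mul]
      rw [← QuotientGroup.eq_one_iff (N := Subgroup.center S), ← QuotientGroup.mk'_apply, ← hq,
        map_commutatorElement, commutatorElement_eq_one_iff_commute]
      obtain ⟨j, k, h1⟩ := himg y
      obtain ⟨j', k', h2⟩ := himg y'
      rw [h1, h2]
      exact Commute.mul_left (((Commute.refl _).pow_pow j j').mul_right (hvs.symm.pow_pow j k'))
        ((hvs.pow_pow k j').mul_right ((Commute.refl _).pow_pow k k'))
    have hnall : ∀ P, F.IsEssential p P → S ≤ Subgroup.normalizer (P : Set Ω) := by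
      intro P hP g hg
      refine mem_normalizer_of_conj_mem hP.1.1 fun x hx => ?_
      have h1 := hcentric hP _ (fun y => ((Subgroup.mem_center_iff.1 (hab ⟨g, hg⟩ ⟨x, hP.1.1 hx⟩)) y).symm)
      have h2 := P.mul_mem h1 hx
      simpa [commutatorElement_def] using h2
    have hgood' : (sysOf F {P | F.IsEssential p P}).Good p := by
      refine good_sysOf hS hF hp2 hsr.1 (fun P hP => hP) (fun P hP => hnall P hP) ?_
      intro P hP Q f hf hiso
      refine isEssential_image hP hiso fun g hg => ?_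
      refine mem_normalizer_of_conj_mem hiso.le_right fun y hy => ?_
      obtain ⟨x, hx, rfl⟩ := hiso.surj hy
      have hfS := hf.isIso_of_card_le (fun z hz => hf.mem hz) le_rfl
      obtain ⟨g', hg', rfl⟩ := hfS.surj hg
      rw [← hf.map_conj hg' (hiso.le_left hx)]
      exact hiso.mem ((Subgroup.mem_normalizer_iff.1 (hnall P hP hg') x).1 hx)
    exact hgood'.shape_comm_ne (noCore_sysOf hS hF hO hnall) (E := E) (E' := E') (hess _ hE)
      (hess _ hE') hSh hk hz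
  obtain ⟨hiso, hel, hcE, hext, hcE', hexp⟩ := hSh.sp4 hgood.pY hp2 hsr.1 hi hi' hk hz
  refine ⟨hiso, ?_⟩
  have hcard : ∀ R : Subgroup S, Nat.card (up R) = Nat.card R := fun R =>
    Subgroup.card_map_of_injective S.subtype_injective
  have hres : Cfsg.IsExtraspecial p ↥(up E') ∧ Nat.card (up E') = p ^ 3 ∧ (∀ x ∈ up E', x ^ p = 1) ∧
      Cfsg.IsElementaryAbelian p (up E) ∧ Nat.card (up E) = p ^ 3 := by
    have hexp' : ∀ x ∈ up E', x ^ p = 1 := by
      rintro _ ⟨x, hx, rfl⟩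
      rw [← map_pow, hexp x hx, map_one]
    haveI := finite_of_le (up_le E')
    refine ⟨CfsgLib.Fusion.SmallNonabelian.isExtraspecial_of_exp ((hcard E').trans hcE')
      (fun hab => hz ?_) (fun a => Subtype.ext (by rw [SubgroupClass.coe_pow, hexp' a a.2]; rfl)),
      (hcard E').trans hcE', hexp', ⟨⟨⟨?_⟩⟩, ?_⟩, (hcard E).trans hcE⟩
    · have h1 := congrArg Subtype.val
        (hab ⟨(r : Ω), mem_up.2 hSh.rE'⟩ ⟨(s : Ω), mem_up.2 hSh.sE'⟩)
      exact commutatorElement_eq_one_iff_mul_comm.2 (Subtype.ext h1)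
    · rintro ⟨_, x, hx, rfl⟩ ⟨_, y, hy, rfl⟩
      exact Subtype.ext (congrArg S.subtype (hel.1 x hx y hy))
    · rintro _ ⟨x, hx, rfl⟩
      rw [← map_pow, hel.2 x hx, map_one]
  have hup : ∀ i, F.IsEssential p i → up (i.subgroupOf S) = i := fun i hi =>
    Subgroup.map_subgroupOf_eq_of_le hi.1.1
  rcases honly E hE with e | e <;> rcases honly E' hE' with e' | e'
  · exact absurd (e.trans e'.symm) fun hh => hvE' (hh ▸ hv.1)
  · rw [e, e', hup _ hE₁, hup _ hE₂] at hres; exact Or.inr hres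
  · rw [e, e', hup _ hE₁, hup _ hE₂] at hres; exact Or.inl hres
  · exact absurd (e.trans e'.symm) fun hh => hvE' (hh ▸ hv.1)

end CfsgLib.RankThreeAmalgam
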