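import Cfsg.Agent.Lib.Fusion.RankThreeAmalgam.Trio

/-!
The elements of order `p` in the centres of the members.
-/

set_option autoImplicit false
set_option linter.style.haveILetI false
set_option linter.unusedSectionVars false

namespace CfsgLib.RankThreeAmalgam

open Cfsg CfsgLib.RankThree
open scoped commutatorElement

variable {Y : Type*} [Group Y]

/-- The elements of order dividing `p` in the centre of `E`. -/
def zeta (p : ℕ) (E : Subgroup Y) : Subgroup Y where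
  carrier := {z | z ∈ E ∧ z ^ p = 1 ∧ ∀ e ∈ E, z * e = e * z}
  one_mem' := ⟨E.one_mem, one_pow p, fun e _ => by rw [one_mul, mul_one]⟩
  mul_mem' := fun {a b} ha hb => ⟨E.mul_mem ha.1 hb.1,
    by rw [(show Commute a b from ha.2.2 b hb.1).mul_pow, ha.2.1, hb.2.1, mul_one],
    fun e he => ((show Commute a e from ha.2.2 e he).mul_left (hb.2.2 e he)).eq⟩
  inv_mem' := fun {a} ha => ⟨E.inv_mem ha.1, by rw [inv_pow, ha.2.1, inv_one],
    fun e he => ((show Commute a e from ha.2.2 e he).inv_left).eq⟩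

theorem mem_zeta {p : ℕ} {E : Subgroup Y} {z : Y} :
    z ∈ zeta p E ↔ z ∈ E ∧ z ^ p = 1 ∧ ∀ e ∈ E, z * e = e * z := Iff.rfl

theorem zeta_le (p : ℕ) (E : Subgroup Y) : zeta p E ≤ E := fun _ hz => hz.1

theorem zeta_elem (p : ℕ) (E : Subgroup Y) : Elem p (zeta p E) :=
  ⟨fun _ ha b hb => ha.2.2 b hb.1, fun _ ha => ha.2.1⟩

theorem zeta_invariant {p : ℕ} {E : Subgroup Y} (α : MulAut E) {e : E}
    (he : (e : Y) ∈ zeta p E) : (α e : Y) ∈ zeta p E := by
  refine ⟨(α e).2, ?_, fun f hf => ?_⟩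
  · rw [← SubgroupClass.coe_pow, ← map_pow, show e ^ p = 1 from Subtype.ext (by
      rw [SubgroupClass.coe_pow, he.2.1]; rfl), map_one]
    rfl
  · obtain ⟨f', hf'⟩ := α.surjective ⟨f, hf⟩
    have hff : f = (α f' : Y) := by rw [hf']
    have h1 : e * f' = f' * e := Subtype.ext (he.2.2 f' f'.2)
    rw [hff, ← Subgroup.coe_mul, ← Subgroup.coe_mul, ← map_mul, ← map_mul, h1]

theorem zeta_map {p : ℕ} (φ : MulAut Y) (E : Subgroup Y) {z : Y} (hz : z ∈ zeta p E) :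
    φ z ∈ zeta p (E.map φ.toMonoidHom) := by
  refine ⟨⟨z, hz.1, rfl⟩, by rw [← map_pow, hz.2.1, map_one], ?_⟩
  rintro _ ⟨e, he, rfl⟩
  show φ z * φ e = φ e * φ z
  rw [← map_mul, ← map_mul, hz.2.2 e he]

variable [Finite Y] {p : ℕ} [hp : Fact p.Prime] {Γ : Sys Y}

/-- `E` moves the elements of order `p` in the centre of the whole group. -/
def Moving (Γ : Sys Y) (p : ℕ) (E : Subgroup Y) : Prop :=
  ∃ α ∈ Γ.𝔸 E, ∃ e : E, (e : Y) ∈ zeta p (⊤ : Subgroup Y) ∧ (α e : Y) ∉ zeta p (⊤ : Subgroup Y)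

theorem mem_zeta_top {z : Y} :
    z ∈ zeta p (⊤ : Subgroup Y) ↔ z ^ p = 1 ∧ ∀ y : Y, z * y = y * z :=
  ⟨fun h => ⟨h.2.1, fun y => h.2.2 y (Subgroup.mem_top y)⟩,
    fun h => ⟨Subgroup.mem_top z, h.1, fun y _ => h.2 y⟩⟩

namespace Sys.Good

variable (h : Γ.Good p) {E : Subgroup Y}

include h

theorem top_le_zeta (hE : E ∈ Γ.ℰ) : zeta p (⊤ : Subgroup Y) ≤ zeta p E := fun z hz => by
  obtain ⟨hzp, hzc⟩ := mem_zeta_top.1 hz
  exact ⟨h.cen E hE z fun e _ => hzc e, hzp, fun e _ => hzc e⟩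

theorem zeta_normal (hE : E ∈ Γ.ℰ) : (zeta p E).Normal := by
  refine ⟨fun z hz g => ?_⟩
  obtain ⟨α, -, -, hα⟩ := h.exists_conj hE g
  have h1 := zeta_invariant α (e := ⟨z, hz.1⟩) hz
  rwa [hα] at h1

/-- A moving member is the centraliser of its central elements of order `p`. -/
theorem mem_of_comm (hE : E ∈ Γ.ℰ) (hm : Moving Γ p E) {g : Y}
    (hg : ∀ a ∈ zeta p E, g * a = a * g) : g ∈ E := by
  by_contra hgE
  obtain ⟨α, hα, e, he, hαe⟩ := hm
  have ha := zeta_invariant α (h.top_le_zeta hE he)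
  refine hαe (mem_zeta_top.2 ⟨ha.2.1, fun y => ?_⟩)
  have hK : E ≤ Subgroup.centralizer {(α e : Y)} := fun w hw =>
    Subgroup.mem_centralizer_singleton_iff.2 (ha.2.2 w hw).symm
  exact (Subgroup.mem_centralizer_singleton_iff.1 (top_of_gen (h.idx E hE) hK
    (Subgroup.mem_centralizer_singleton_iff.2 (hg _ ha)) hgE y)).symm

theorem zeta_top_card_lt (hE : E ∈ Γ.ℰ) (hm : Moving Γ p E) :
    Nat.card (zeta p (⊤ : Subgroup Y)) < Nat.card (zeta p E) := by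
  obtain ⟨α, hα, e, he, hαe⟩ := hm
  refine lt_of_le_of_ne (Subgroup.card_le_of_le (h.top_le_zeta hE)) fun heq => hαe ?_
  exact (Subgroup.eq_of_le_of_card_ge (h.top_le_zeta hE) heq.ge).ge
    (zeta_invariant α (h.top_le_zeta hE he))

theorem zeta_card_le (E : Subgroup Y) : Nat.card (zeta p E) ≤ p ^ 3 :=
  (zeta_elem p E).card_le h.rank

theorem moving_map (hE : E ∈ Γ.ℰ) (hm : Moving Γ p E) {φ : MulAut Y} (hφ : φ ∈ Γ.𝔹) :
    Moving Γ p (E.map φ.toMonoidHom) := by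
  obtain ⟨α, hα, e, he, hαe⟩ := hm
  obtain ⟨β, hβ, hβv⟩ := (h.perm φ hφ E hE).2 α hα
  obtain ⟨hep, hec⟩ := mem_zeta_top.1 he
  refine ⟨β, hβ, ⟨φ e, e, e.2, rfl⟩, mem_zeta_top.2 ⟨by rw [← map_pow, hep, map_one], fun y => ?_⟩,
    fun hc => hαe ?_⟩
  · obtain ⟨y, rfl⟩ := φ.surjective y
    show φ e * φ y = φ y * φ e
    rw [← map_mul, ← map_mul, hec]
  · rw [hβv e _ rfl] at hc
    obtain ⟨hp', hc'⟩ := mem_zeta_top.1 hc
    refine mem_zeta_top.2 ⟨φ.injective (by rw [map_pow, hp', map_one]), fun y => φ.injective ?_⟩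
    rw [map_mul, map_mul, hc']

/-- Some member is moving. -/
theorem exists_moving (hne : Γ.ℰ.Nonempty) (hcore : Γ.NoCore) : ∃ E ∈ Γ.ℰ, Moving Γ p E := by
  by_contra hc
  push Not at hc
  obtain ⟨E0, hE0⟩ := hne
  have hR : zeta p (⊤ : Subgroup Y) = ⊥ := by
    refine hcore _ (fun φ _ z hz => ?_) (fun E hE => (h.top_le_zeta hE).trans (zeta_le p E))
      fun E hE α hα e he => ?_
    · have := zeta_map φ (⊤ : Subgroup Y) hz
      rwa [Subgroup.map_top_of_surjective _ φ.surjective] at this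
    · by_contra hn
      exact hc E hE ⟨α, hα, e, he, hn⟩
  obtain ⟨g, hg⟩ := h.exists_notMem hE0
  haveI : Nontrivial Y := ⟨⟨g, 1, fun e => hg (e ▸ E0.one_mem)⟩⟩
  haveI := h.pY.center_nontrivial
  have hne' : (Subgroup.center Y) ≠ ⊥ := (Subgroup.nontrivial_iff_ne_bot _).1 inferInstance
  obtain ⟨w, hw, hw1, hwp, -⟩ := exists_central h.pY hne'
  have hwZ : w ∈ zeta p (⊤ : Subgroup Y) :=
    mem_zeta_top.2 ⟨hwp, fun y => ((Subgroup.mem_center_iff.1 hw) y).symm⟩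
  rw [hR] at hwZ
  exact hw1 (Subgroup.mem_bot.1 hwZ)

end Sys.Good

end CfsgLib.RankThreeAmalgam
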